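import Cfsg.Agent.Lib.Icosian.ReflCheck
import Cfsg.Agent.Lib.Icosian.ChainData

/-!
Kernel checks on the certificate for the group on lines.
-/

set_option autoImplicit false
set_option maxRecDepth 100000

namespace Cfsg.Agent.Icosian

open Cert

/-- The lines of the four generating reflections. -/
def genLine : List (Fin 315) := [312, 95, 114, 248]

theorem gens_check :
    reflData.map (fun e => e.1) = genLine.map (fun i : Fin 315 => (i : ℕ)) ∧
      reflData.map (fun e => e.2.1) = elemTabs.take 4 ∧ 4 ≤ elemTabs.length := by
  decide +kernel

/-- A step in the list of elements. -/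
def stepOk (k : ℕ) : Bool :=
  let s := elemSteps.getD (k - 4) (true, 0, 0)
  Nat.blt s.2.1 k && Nat.blt s.2.2 k && (List.range 315).all fun x =>
    if s.1 then app (elemTabs.getD k 0) x ==
      app (elemTabs.getD s.2.1 0) (app (elemTabs.getD s.2.2 0) x)
    else app (elemTabs.getD s.2.1 0) (app (elemTabs.getD k 0) x) == x && Nat.blt (app (elemTabs.getD k 0) x) 315

theorem steps_check : ((List.range elemTabs.length).drop 4).all stepOk = true := by decide +kernel

theorem chain_check :
    chainCheck 315 elemTabs detLines levelData [] = true ∧ orderOfChain levelData = 604800 ∧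
      detLines.all (fun f => Nat.blt f 315) = true ∧
      [0, 1, 2, 3].all (fun k => (headGens levelData).contains k) = true := by
  decide +kernel

theorem transitive_check :
    levelData.head?.map (fun L => (L.base, L.tree.length)) = some (0, 315) := by decide +kernel

/-- The elements of the stabiliser generators of the first line. -/
def stabGens : List ℕ := [82, 86, 91, 99, 105, 114, 128]

theorem stab_check :
    (stabGens.all fun k => Nat.blt k elemTabs.length && app (elemTabs.getD k 0) 0 == 0) = true ∧
    ((List.range 315).all fun x => x == 0 ||
      stabGens.any fun k => app (elemTabs.getD k 0) x != x) = true := by decide +kernel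

/-- An orbit of the stabiliser of the first line, as a list of points. -/
def suborbit (k : ℕ) : List ℕ := (suborbitData.getD k []).map fun e => e.1

theorem suborbit_check :
    suborbitData.length = 6 ∧ (suborbitData.getD 0 []).map (fun e => e.1) = [0] ∧
    (suborbitData.all fun l => (List.range l.length).all fun j =>
      let e := l.getD j (0, 0, 0)
      Nat.blt e.1 315 && ((j == 0) || Nat.blt e.2.1 j && stabGens.contains e.2.2 &&
        app (elemTabs.getD e.2.2 0) (l.getD e.2.1 (0, 0, 0)).1 == e.1)) = true ∧
    ((List.range 6).flatMap suborbit).Nodup ∧ ((List.range 6).flatMap suborbit).length = 315 ∧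
    ((List.range 6).sublists.all fun S => !S.contains 0 ||
      !(315 % (S.flatMap suborbit).length == 0) || (S.flatMap suborbit).length == 1 ||
        (S.flatMap suborbit).length == 315) = true := by
  decide +kernel

theorem seven_check :
    (detLines.all fun f =>
      evalWord elemTabs [418, 418, 418, 418, 418, 418, 418] f == f &&
      evalWord elemTabs [421, 421, 421, 421, 421, 421, 421] f == f &&
      evalWord elemTabs [418, 421] f == app (elemTabs.getD 0 0) f) = true ∧
    421 < elemTabs.length ∧
    evalWord elemTabs [0, 1] 0 ≠ evalWord elemTabs [1, 0] 0 := by
  decide +kernel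

end Cfsg.Agent.Icosian
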