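import Cfsg.Agent.Lib.Icosian.Lines
import Cfsg.Agent.Lib.Icosian.GroupCheck

/-!
The order, centre and simplicity of the Hall–Janko group.
-/

set_option autoImplicit false
set_option maxRecDepth 100000

namespace Cfsg.Agent.Icosian

open Quaternion Cfsg.Spor Qz Enum Cert

/-! ### Kernel of the action on lines -/

theorem pointL_zero : (pointL 0 : Fin 3 → ℍ[ℝ]) = ![-2, 0, 0] := by
  show psi (line 0) = _
  rw [show line 0 = ⟨⟨-4, 0, 0, 0, 0, 0, 0, 0⟩, Qz.zero, Qz.zero⟩ by decide +kernel]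
  funext t
  fin_cases t <;> simp [psi, phi_zero] <;>
    (rw [show (2 : ℍ[ℝ]) = algebraMap ℝ ℍ[ℝ] 2 from (map_ofNat _ 2).symm,
      Algebra.algebraMap_eq_smul_one]; ext <;> simp [zv] <;> norm_num)

theorem pointL_one : (pointL 305 : Fin 3 → ℍ[ℝ]) = ![0, -2, 0] := by
  show psi (line 305) = _
  rw [show line 305 = ⟨Qz.zero, ⟨-4, 0, 0, 0, 0, 0, 0, 0⟩, Qz.zero⟩ by decide +kernel]
  funext t
  fin_cases t <;> simp [psi, phi_zero] <;>
    (rw [show (2 : ℍ[ℝ]) = algebraMap ℝ ℍ[ℝ] 2 from (map_ofNat _ 2).symm,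
      Algebra.algebraMap_eq_smul_one]; ext <;> simp [zv] <;> norm_num)

theorem pointL_two : (pointL 314 : Fin 3 → ℍ[ℝ]) = ![0, 0, -2] := by
  show psi (line 314) = _
  rw [show line 314 = ⟨Qz.zero, Qz.zero, ⟨-4, 0, 0, 0, 0, 0, 0, 0⟩⟩ by decide +kernel]
  funext t
  fin_cases t <;> simp [psi, phi_zero] <;>
    (rw [show (2 : ℍ[ℝ]) = algebraMap ℝ ℍ[ℝ] 2 from (map_ofNat _ 2).symm,
      Algebra.algebraMap_eq_smul_one]; ext <;> simp [zv] <;> norm_num)

theorem mul_two' (a : ℍ[ℝ]) : a * 2 = a + a := by rw [← one_add_one_eq_two, mul_add, mul_one]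

theorem half_cancel {a b : ℍ[ℝ]} (h : a + a = b + b) : a = b := by
  rw [← two_smul ℝ a, ← two_smul ℝ b] at h
  exact smul_right_injective ℍ[ℝ] (two_ne_zero' ℝ) h

/-- A group element fixing the three axes multiplies each coordinate on the right. -/
theorem exists_diag (g : twoJ2) (h0 : rho g 0 = 0) (h1 : rho g 305 = 305) (h2 : rho g 314 = 314) :
    ∃ c : Fin 3 → ℍ[ℝ], ∀ (x : icoLeech) (t : Fin 3),
      ((g.1 x : icoLeech) : Fin 3 → ℍ[ℝ]) t = (x : Fin 3 → ℍ[ℝ]) t * c t := by
  obtain ⟨q0, -, e0⟩ := exists_rho_unit g 0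
  obtain ⟨q1, -, e1⟩ := exists_rho_unit g 305
  obtain ⟨q2, -, e2⟩ := exists_rho_unit g 314
  rw [h0] at e0
  rw [h1] at e1
  rw [h2] at e2
  have e0' : ((g.1 (pointL 0) : icoLeech) : Fin 3 → ℍ[ℝ]) = lmul q0 ![-2, 0, 0] := by
    rw [e0, ← pointL_zero]; rfl
  have e1' : ((g.1 (pointL 305) : icoLeech) : Fin 3 → ℍ[ℝ]) = lmul q1 ![0, -2, 0] := by
    rw [e1, ← pointL_one]; rfl
  have e2' : ((g.1 (pointL 314) : icoLeech) : Fin 3 → ℍ[ℝ]) = lmul q2 ![0, 0, -2] := by
    rw [e2, ← pointL_two]; rfl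
  refine ⟨![q0, q1, q2], fun x t => ?_⟩
  obtain ⟨g1, g2, -⟩ := good_iff.1 (twoJ2_le_good g.2)
  have hx : ∀ t, -(x : Fin 3 → ℍ[ℝ]) t ∈ icosians := fun t => neg_mem (x.2.1 t)
  let A : icoLeech := ⟨lmul (-(x : Fin 3 → ℍ[ℝ]) 0) (pointL 0 : Fin 3 → ℍ[ℝ]),
    lmul_mem_leech (hx 0) (pointL 0).2⟩
  let B : icoLeech := ⟨lmul (-(x : Fin 3 → ℍ[ℝ]) 1) (pointL 305 : Fin 3 → ℍ[ℝ]),
    lmul_mem_leech (hx 1) (pointL 305).2⟩
  let C : icoLeech := ⟨lmul (-(x : Fin 3 → ℍ[ℝ]) 2) (pointL 314 : Fin 3 → ℍ[ℝ]),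
    lmul_mem_leech (hx 2) (pointL 314).2⟩
  let AB : icoLeech := ⟨(A : Fin 3 → ℍ[ℝ]) + B, add_mem_leech A.2 B.2⟩
  let D : icoLeech := ⟨(x : Fin 3 → ℍ[ℝ]) + x, add_mem_leech x.2 x.2⟩
  have hD : (D : Fin 3 → ℍ[ℝ]) = (AB : Fin 3 → ℍ[ℝ]) + C := by
    funext s
    simp only [D, AB, A, B, C, pointL_zero, pointL_one, pointL_two, lmul, Pi.add_apply]
    fin_cases s <;> simp [mul_two']
  have hg := (g2 x x D rfl).symm.trans (g2 AB C D hD)
  rw [g2 A B AB rfl, g1 _ (hx 0) (pointL 0) A rfl, g1 _ (hx 1) (pointL 305) B rfl,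
    g1 _ (hx 2) (pointL 314) C rfl, e0', e1', e2'] at hg
  apply half_cancel
  have := congrFun hg t
  simp only [lmul, Pi.add_apply] at this
  rw [this]
  fin_cases t <;> simp [mul_two', mul_add]

/-- Negation of the lattice. -/
noncomputable def negLeech : Equiv.Perm icoLeech :=
  Function.Involutive.toPerm
    (fun x => ⟨-(x : Fin 3 → ℍ[ℝ]), neg_mem_leech x.2⟩) (fun x => Subtype.ext (neg_neg _))

theorem coe_negLeech (x : icoLeech) :
    ((negLeech x : icoLeech) : Fin 3 → ℍ[ℝ]) = -(x : Fin 3 → ℍ[ℝ]) := rfl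

theorem qrefl_axis (v x : Fin 3 → ℍ[ℝ]) (s : Fin 3) (hv : v = fun t => if t = s then -2 else 0)
    (t : Fin 3) : qrefl v x t = if t = s then -x t else x t := by
  subst hv
  rw [qrefl_eq, Pi.sub_apply]
  simp only [lmul, qip_eq]
  have h2 : star (2 : ℍ[ℝ]) = 2 := star_ofNat 2
  fin_cases s <;> fin_cases t <;> simp [h2, smul_mul_assoc, mul_two'] <;> module

theorem negLeech_mem : negLeech ∈ twoJ2 := by
  have key : negLeech = lineRefl 0 * (lineRefl 305 * lineRefl 314) := by
    refine Equiv.ext fun x => Subtype.ext ?_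
    funext t
    rw [coe_negLeech, Equiv.Perm.mul_apply, Equiv.Perm.mul_apply]
    simp only [lineRefl, coe_reflPerm]
    rw [qrefl_axis _ _ 0 (by rw [pointL_zero]; funext i; fin_cases i <;> simp),
      qrefl_axis _ _ 1 (by rw [pointL_one]; funext i; fin_cases i <;> simp),
      qrefl_axis _ _ 2 (by rw [pointL_two]; funext i; fin_cases i <;> simp)]
    fin_cases t <;> simp
  rw [key]
  exact mul_mem (lineRefl_mem _) (mul_mem (lineRefl_mem _) (lineRefl_mem _))

/-- Negation as an element of `twoJ2`. -/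
noncomputable def negTwo : twoJ2 := ⟨negLeech, negLeech_mem⟩

theorem negTwo_ne_one : negTwo ≠ 1 := by
  intro h
  have e := congrArg (fun g : twoJ2 => (((g.1 (pointL 0) : icoLeech) : Fin 3 → ℍ[ℝ]) 0).re) h
  simp only [negTwo, coe_negLeech, Subgroup.coe_one, Equiv.Perm.one_apply, Pi.neg_apply,
    pointL] at e
  rw [show line 0 = ⟨⟨-4, 0, 0, 0, 0, 0, 0, 0⟩, Qz.zero, Qz.zero⟩ by decide +kernel] at e
  simp [psi, zv] at e
  norm_num at e

theorem negTwo_comm (g : twoJ2) : g * negTwo = negTwo * g := by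
  refine Subtype.ext (Equiv.ext fun x => Subtype.ext ?_)
  show ((g.1 (negLeech x) : icoLeech) : Fin 3 → ℍ[ℝ]) = ((negLeech (g.1 x) : icoLeech) : _)
  rw [(good_iff.1 (twoJ2_le_good g.2)).1 (-1) (neg_mem (one_mem _)) x (negLeech x)
    (by funext t; simp [coe_negLeech, lmul]), coe_negLeech]
  funext t
  simp [lmul]

theorem rho_negTwo : rho negTwo = 1 :=
  Equiv.ext fun i => rho_apply_eq (q := -1) (by
    funext t; simp [negTwo, coe_negLeech, lmul, pointL])

theorem quat_central {c : ℍ[ℝ]}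
    (hi : phi ⟨0, 0, 4, 0, 0, 0, 0, 0⟩ * c = c * phi ⟨0, 0, 4, 0, 0, 0, 0, 0⟩)
    (hj : phi ⟨0, 0, 0, 0, -4, 0, 0, 0⟩ * c = c * phi ⟨0, 0, 0, 0, -4, 0, 0, 0⟩) (hn : c * star c = 1) : c = 1 ∨ c = -1 := by
  have a1 := congrArg (fun q : ℍ[ℝ] => q.imJ) hi
  have a2 := congrArg (fun q : ℍ[ℝ] => q.imK) hi
  have a3 := congrArg (fun q : ℍ[ℝ] => q.imK) hj
  have a4 := congrArg (fun q : ℍ[ℝ] => q.re) hn
  simp [zv] at a1 a2 a3 a4
  have hK : c.imK = 0 := by linarith
  have hJ : c.imJ = 0 := by linarith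
  have hI : c.imI = 0 := by linarith
  have hre : (c.re - 1) * (c.re + 1) = 0 := by rw [hK, hJ, hI] at a4; linarith
  rcases mul_eq_zero.1 hre with h | h
  · left; ext <;> simp [hI, hJ, hK]; linarith
  · right; ext <;> simp [hI, hJ, hK]; linarith

theorem eq_one_or_neg_of_fix {g : twoJ2}
    (h : ∀ f : Fin 315, (f : ℕ) ∈ detLines → rho g f = f) : g = 1 ∨ g = negTwo := by
  obtain ⟨c, hc⟩ := exists_diag g (h 0 (by decide)) (h 305 (by decide)) (h 314 (by decide))
  have hfix : ∀ i : Fin 315, (i : ℕ) ∈ detLines →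
      ∃ q, ∀ t, psi (line i) t * c t = q * psi (line i) t := by
    intro i hi
    obtain ⟨q, -, e⟩ := exists_rho_unit g i
    rw [h i hi] at e
    exact ⟨q, fun t => (hc (pointL i) t).symm.trans (congrFun e t)⟩
  obtain ⟨q, hq⟩ := hfix 9 (by decide)
  obtain ⟨q', hq'⟩ := hfix 306 (by decide)
  obtain ⟨p, hp⟩ := hfix 15 (by decide)
  obtain ⟨r, hr⟩ := hfix 14 (by decide)
  set a : ℍ[ℝ] := phi ⟨-2, 0, -2, 0, 0, 0, 0, 0⟩ with ha
  set b : ℍ[ℝ] := phi ⟨2, 0, -2, 0, 0, 0, 0, 0⟩ with hb
  set b' : ℍ[ℝ] := phi ⟨0, 0, 0, 0, 2, 0, 2, 0⟩ with hb'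
  rw [show line 9 = ⟨⟨-2, 0, -2, 0, 0, 0, 0, 0⟩, ⟨-2, 0, -2, 0, 0, 0, 0, 0⟩, Qz.zero⟩ by decide +kernel]
    at hq
  rw [show line 306 = ⟨Qz.zero, ⟨-2, 0, -2, 0, 0, 0, 0, 0⟩, ⟨-2, 0, -2, 0, 0, 0, 0, 0⟩⟩ by decide +kernel]
    at hq'
  rw [show line 15 = ⟨⟨-2, 0, -2, 0, 0, 0, 0, 0⟩, ⟨2, 0, -2, 0, 0, 0, 0, 0⟩, Qz.zero⟩ by decide +kernel]
    at hp
  rw [show line 14 = ⟨⟨-2, 0, -2, 0, 0, 0, 0, 0⟩, ⟨0, 0, 0, 0, 2, 0, 2, 0⟩, Qz.zero⟩ by decide +kernel]
    at hr
  have ha0 : a ≠ 0 := fun e => by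
    have := congrArg (fun z : ℍ[ℝ] => z.re) e; simp [ha, zv] at this
  have c01 : c 0 = c 1 := mul_left_cancel₀ ha0 ((hq 0).trans (hq 1).symm)
  have c12 : c 1 = c 2 := mul_left_cancel₀ ha0 ((hq' 1).trans (hq' 2).symm)
  have haa : a * star a = (2 : ℝ) • (1 : ℍ[ℝ]) := by
    ext <;> simp [ha, zv] <;> norm_num
  have haa' : star a * a = (2 : ℝ) • (1 : ℍ[ℝ]) := by
    ext <;> simp [ha, zv] <;> norm_num
  have comm : ∀ (w : ℍ[ℝ]) (s : ℍ[ℝ]), a * c 0 = s * a → w * c 0 = s * w →
      (star a * w) * c 0 = c 0 * (star a * w) := by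
    intro w s h1 h2
    have h3 : star a * s = c 0 * star a := by
      apply smul_right_injective ℍ[ℝ] (two_ne_zero' ℝ)
      show (2 : ℝ) • (star a * s) = (2 : ℝ) • (c 0 * star a)
      calc (2 : ℝ) • (star a * s) = star a * (s * (a * star a)) := by
            rw [haa, mul_smul_comm, mul_one, mul_smul_comm]
        _ = star a * a * c 0 * star a := by rw [← mul_assoc s, ← h1]; simp only [mul_assoc]
        _ = _ := by rw [haa', smul_mul_assoc, one_mul, smul_mul_assoc]
    rw [mul_assoc, h2, ← mul_assoc, h3, mul_assoc]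
  have k1 := comm b p (hp 0) (by have := hp 1; rw [← c01] at this; exact this)
  have k2 := comm b' r (hr 0) (by have := hr 1; rw [← c01] at this; exact this)
  have eb : star a * b = phi ⟨0, 0, 4, 0, 0, 0, 0, 0⟩ := by
    rw [ha, hb, ← phi_conj, phi_mul (by rfl) (by rfl)]; rfl
  have eb' : star a * b' = phi ⟨0, 0, 0, 0, -4, 0, 0, 0⟩ := by
    rw [ha, hb', ← phi_conj, phi_mul (by rfl) (by rfl)]; rfl
  rw [eb] at k1
  rw [eb'] at k2
  have hn : c 0 * star (c 0) = 1 := by
    have hgq := (good_iff.1 (twoJ2_le_good g.2)).2.2 (pointL 0) (pointL 0)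
    rw [qip_pointL, qip_eq, hc, hc, hc] at hgq
    simp [pointL_zero] at hgq
    have h4 : (4 : ℝ) • (c 0 * star (c 0)) = (4 : ℝ) • (1 : ℍ[ℝ]) := by
      rw [← Algebra.algebraMap_eq_smul_one, map_ofNat, ← hgq]
      rw [mul_assoc (2 : ℍ[ℝ]), ← mul_assoc (c 0), mul_two', two_mul]
      module
    exact smul_right_injective ℍ[ℝ] (four_ne_zero' ℝ) h4
  rcases quat_central k1 k2 hn with e | e
  · left
    refine Subtype.ext (Equiv.ext fun x => Subtype.ext (funext fun t => ?_))
    rw [hc]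
    fin_cases t <;> simp [← c12, ← c01, e]
  · right
    refine Subtype.ext (Equiv.ext fun x => Subtype.ext (funext fun t => ?_))
    rw [hc]
    fin_cases t <;> simp [negTwo, coe_negLeech, ← c12, ← c01, e]

theorem mem_ker_rho {g : twoJ2} : g ∈ rho.ker ↔ g = 1 ∨ g = negTwo := by
  refine ⟨fun h => eq_one_or_neg_of_fix fun f _ => ?_, ?_⟩
  · rw [MonoidHom.mem_ker.1 h]; rfl
  · rintro (rfl | rfl)
    · exact one_mem _
    · exact rho_negTwo

theorem card_ker_rho : Nat.card rho.ker = 2 := by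
  have : ((rho.ker : Subgroup twoJ2) : Set twoJ2) = {1, negTwo} := by
    ext g; exact mem_ker_rho
  show Nat.card ((rho.ker : Subgroup twoJ2) : Set twoJ2) = 2
  rw [Nat.card_coe_set_eq, this, Set.ncard_pair negTwo_ne_one.symm]

/-! ### The group on lines -/

/-- The permutation with a given table, if any. -/
noncomputable def permOf (p : ℕ) : Equiv.Perm (Fin 315) :=
  open Classical in if h : ∃ σ, Rep p σ then h.choose else 1

theorem permOf_eq {p : ℕ} {σ : Equiv.Perm (Fin 315)} (h : Rep p σ) : permOf p = σ := by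
  have he : ∃ σ, Rep p σ := ⟨σ, h⟩
  rw [permOf, dif_pos he]
  exact Equiv.ext fun i => Fin.ext ((he.choose_spec i).symm.trans (h i))

/-- The elements of the certificate. -/
noncomputable def elem (k : ℕ) : Equiv.Perm (Fin 315) := permOf (elemTabs.getD k 0)

/-- The subgroup generated by four reflections. -/
noncomputable def four : Subgroup twoJ2 := Subgroup.closure {g | ∃ i ∈ genLine, refl2 i = g}

theorem rep_elem : ∀ k < elemTabs.length,
    ∃ g ∈ four, Rep (elemTabs.getD k 0) (rho g) := by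
  intro k
  induction k using Nat.strong_induction_on with
  | _ k ih =>
    intro hk
    by_cases h4 : k < 4
    · obtain ⟨h1, h2, -⟩ := gens_check
      have hlen : reflData.length = 4 := by simpa [genLine] using congrArg List.length h1
      have he : reflData[k]'(by omega) ∈ reflData := List.getElem_mem _
      obtain ⟨g, hg, hrep⟩ := rep_refl he
      refine ⟨refl2 g, Subgroup.subset_closure ⟨g, ?_, rfl⟩, ?_⟩
      · have : (g : ℕ) ∈ genLine.map (fun i : Fin 315 => (i : ℕ)) := by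
          rw [← h1, List.mem_map]; exact ⟨_, he, hg.symm⟩
        obtain ⟨i, hi, e⟩ := List.mem_map.1 this
        exact Fin.ext e ▸ hi
      · have : (reflData[k]'(by omega)).2.1 = elemTabs.getD k 0 := by
          have := congrArg (fun l : List ℕ => l.getD k 0) h2
          simp only [List.getD_eq_getElem?_getD, List.getElem?_map, List.getElem?_take_of_lt h4,
            List.getElem?_eq_getElem (show k < reflData.length by omega), Option.map_some,
            Option.getD_some] at this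
          rw [List.getD_eq_getElem?_getD]; exact this
        rw [← this]; exact hrep
    · have hs := List.all_eq_true.1 steps_check k (by
        rw [List.mem_iff_getElem]
        exact ⟨k - 4, by simp; omega, by simp; omega⟩)
      simp only [stepOk, Bool.and_eq_true, Nat.blt_eq, List.all_eq_true, List.mem_range] at hs
      obtain ⟨⟨ha, hb⟩, hx⟩ := hs
      obtain ⟨g, hg, hgr⟩ := ih _ ha (by omega)
      obtain ⟨h, hh, hhr⟩ := ih _ hb (by omega)
      cases hb1 : (elemSteps.getD (k - 4) (true, 0, 0)).1 with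
      | true =>
        refine ⟨g * h, mul_mem hg hh, fun i => ?_⟩
        have := hx i i.isLt
        simp only [hb1, if_true, beq_iff_eq] at this
        rw [this, map_mul, Equiv.Perm.mul_apply, hhr, hgr]
      | false =>
        refine ⟨g⁻¹, inv_mem hg, fun i => ?_⟩
        have := hx i i.isLt
        simp only [hb1, Bool.false_eq_true, if_false, Bool.and_eq_true, beq_iff_eq, Nat.blt_eq] at this
        obtain ⟨e, hlt⟩ := this
        have e' : rho g ⟨_, hlt⟩ = i := Fin.ext ((hgr ⟨_, hlt⟩).symm.trans e)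
        rw [map_inv, Equiv.Perm.coe_inv]
        exact congrArg Fin.val ((Equiv.symm_apply_eq _).2 e'.symm).symm

theorem elem_spec {k : ℕ} (hk : k < elemTabs.length) :
    elem k ∈ four.map rho ∧ ∀ i : Fin 315, fapp (elemTabs.getD k 0) i = (elem k i : ℕ) := by
  obtain ⟨g, hg, hr⟩ := rep_elem k hk
  rw [elem, permOf_eq hr]
  exact ⟨⟨g, hg, rfl⟩, hr⟩

theorem eq_of_agree {g h : Equiv.Perm (Fin 315)} (hg : g ∈ rho.range) (hh : h ∈ rho.range)
    (H : ∀ f : Fin 315, (f : ℕ) ∈ detLines → g f = h f) : g = h := by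
  obtain ⟨a, rfl⟩ := hg
  obtain ⟨b, rfl⟩ := hh
  have hk := eq_one_or_neg_of_fix (g := b⁻¹ * a) fun f hf => by
    rw [map_mul, map_inv, Equiv.Perm.mul_apply, H f hf, Equiv.Perm.coe_inv, Equiv.symm_apply_apply]
  have : rho (b⁻¹ * a) = 1 := MonoidHom.mem_ker.1 (mem_ker_rho.2 hk)
  rw [map_mul, map_inv, inv_mul_eq_one] at this
  exact this.symm

theorem chain_spec :
    genGroup elem (headGens levelData) ≤ four.map rho ∧
      (∀ k ∈ allElems levelData, k < elemTabs.length ∧ elem k ∈ genGroup elem (headGens levelData)) ∧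
      Nat.card (genGroup elem (headGens levelData)) = 604800 := by
  obtain ⟨h1, h2, h3, -⟩ := chain_check
  obtain ⟨a, b, -, c⟩ := chainCheck_spec (H := four.map rho) (fun k hk => elem_spec hk)
    (fun g hg h hh => eq_of_agree (Subgroup.map_le_range _ _ hg) (Subgroup.map_le_range _ _ hh))
    (fun f hf => by simpa using List.all_eq_true.1 h3 f hf) levelData [] h1
  exact ⟨a, b, c.trans h2⟩

theorem genGroup_eq : genGroup elem (headGens levelData) = four.map rho := by
  refine le_antisymm chain_spec.1 ?_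
  rw [four, MonoidHom.map_closure, Subgroup.closure_le]
  rintro _ ⟨_, ⟨i, hi, rfl⟩, rfl⟩
  obtain ⟨h1, h2, -⟩ := gens_check
  have hm : (i : ℕ) ∈ reflData.map (fun e => e.1) := by
    rw [h1]; exact List.mem_map.2 ⟨i, hi, rfl⟩
  obtain ⟨e, he, hei⟩ := List.mem_map.1 hm
  obtain ⟨g, hg, hrep⟩ := rep_refl he
  obtain rfl : g = i := Fin.ext (hg.trans hei)
  have hk : e.2.1 ∈ elemTabs.take 4 := h2 ▸ List.mem_map.2 ⟨e, he, rfl⟩
  obtain ⟨k, hk', hke⟩ := List.getElem_of_mem hk
  have hk4 : k < 4 := by simp at hk'; omega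
  have : elem k = rho (refl2 g) := by
    rw [elem]; refine permOf_eq ?_
    rw [List.getD_eq_getElem _ _ (by simp at hk'; omega)]
    rw [List.getElem_take] at hke
    rw [hke]; exact hrep
  rw [SetLike.mem_coe, ← this]
  refine gen_mem ?_
  have := List.all_eq_true.1 chain_check.2.2.2 k (by interval_cases k <;> simp)
  simpa using this

theorem exists_four_line (i : Fin 315) : ∃ g ∈ four, rho g 0 = i := by
  cases hlv : levelData with
  | nil => have := transitive_check; simp [hlv] at this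
  | cons L rest =>
    have hT := transitive_check
    simp only [hlv, List.head?_cons, Option.map_some, Option.some.injEq, Prod.mk.injEq] at hT
    have hok := chain_check.1
    rw [hlv] at hok
    simp only [chainCheck, Bool.and_eq_true, decide_eq_true_eq, treeCheck, List.all_eq_true,
      List.mem_range, Nat.blt_eq, beq_iff_eq] at hok
    obtain ⟨⟨⟨⟨⟨-, hnd⟩, -, htr⟩, -⟩, -⟩, -⟩ := hok
    have hmem : (i : ℕ) ∈ L.tree.map (fun e => e.1) := by
      have hsub : (L.tree.map (fun e => e.1)).toFinset ⊆ Finset.range 315 := by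
        intro x hx
        simp only [List.mem_toFinset, List.mem_map] at hx
        obtain ⟨e, he, rfl⟩ := hx
        obtain ⟨k, hk, rfl⟩ := List.getElem_of_mem he
        have h := (htr k hk).1
        rw [List.getD_eq_getElem _ _ hk, hT.1] at h
        have h' := (elem_spec h.1).2 (0 : Fin 315)
        simp only [Fin.val_zero] at h'
        rw [Finset.mem_range, ← h.2, h']
        exact Fin.isLt _
      have := Finset.eq_of_subset_of_card_le hsub
        (by rw [List.toFinset_card_of_nodup hnd]; simp [hT.2])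
      rw [← List.mem_toFinset, this]; simp
    obtain ⟨e, he, hei⟩ := List.mem_map.1 hmem
    have hel : elemOf e ∈ allElems levelData := by
      rw [hlv]; exact List.mem_append_left _ (List.mem_map.2 ⟨e, he, rfl⟩)
    obtain ⟨hlen, hG⟩ := chain_spec.2.1 _ hel
    rw [genGroup_eq] at hG
    obtain ⟨g, hg, hge⟩ := hG
    obtain ⟨k, hk, rfl⟩ := List.getElem_of_mem he
    have h := (htr k hk).1
    rw [List.getD_eq_getElem _ _ hk, hT.1] at h
    refine ⟨g, hg, Fin.ext ?_⟩
    rw [hge, ← (elem_spec hlen).2 (0 : Fin 315)]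
    exact h.2.trans hei

theorem four_eq_top : four = ⊤ := by
  have hall : ∀ i, refl2 i ∈ four := by
    intro i
    obtain ⟨g, hg, hgi⟩ := exists_four_line i
    obtain ⟨h, hh, hhi⟩ := exists_four_line 312
    have hgen : refl2 312 ∈ four := Subgroup.subset_closure ⟨312, by simp [genLine], rfl⟩
    have h0 : refl2 0 = h⁻¹ * refl2 312 * h⁻¹⁻¹ := by
      rw [conj_refl2, map_inv, Equiv.Perm.coe_inv]
      congr 1
      exact ((Equiv.symm_apply_eq _).2 hhi.symm).symm
    rw [← hgi, ← conj_refl2]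
    exact mul_mem (mul_mem hg (h0 ▸ mul_mem (mul_mem (inv_mem hh) hgen) (inv_mem (inv_mem hh))))
      (inv_mem hg)
  refine top_le_iff.1 fun ⟨x, hx⟩ _ => ?_
  refine Subgroup.closure_induction (p := fun y hy => (⟨y, hy⟩ : twoJ2) ∈ four)
    (fun y hy => ?_) (one_mem four) (fun a b _ _ iha ihb => mul_mem iha ihb)
    (fun a _ iha => inv_mem iha) hx
  obtain ⟨i, rfl⟩ := exists_lineRefl hy
  exact hall i

theorem range_eq : rho.range = genGroup elem (headGens levelData) := by
  rw [genGroup_eq, four_eq_top, ← MonoidHom.range_eq_map]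

theorem card_range_rho : Nat.card rho.range = 604800 := by
  rw [range_eq]; exact chain_spec.2.2

theorem card_twoJ2 : Nat.card twoJ2 = 1209600 := by
  rw [← rho.ker.card_mul_index, card_ker_rho, Subgroup.index_ker, card_range_rho]

theorem exists_rho_eq (i j : Fin 315) : ∃ g : twoJ2, rho g i = j := by
  obtain ⟨a, -, ha⟩ := exists_four_line i
  obtain ⟨b, -, hb⟩ := exists_four_line j
  refine ⟨b * a⁻¹, ?_⟩
  rw [map_mul, map_inv, Equiv.Perm.mul_apply, Equiv.Perm.coe_inv, (Equiv.symm_apply_eq _).2 ha.symm, hb]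

theorem elem_mem_range {k : ℕ} (hk : k < elemTabs.length) : elem k ∈ rho.range :=
  Subgroup.map_le_range _ _ (elem_spec hk).1

theorem eq_one_of_commute {z : Equiv.Perm (Fin 315)}
    (hz : ∀ g ∈ rho.range, g * z = z * g) : z = 1 := by
  have h0 : z 0 = 0 := by
    by_contra hne
    have h := List.all_eq_true.1 stab_check.2 (z 0 : ℕ) (List.mem_range.2 (z 0).isLt)
    simp only [Bool.or_eq_true, beq_iff_eq, List.any_eq_true, bne_iff_ne] at h
    obtain ⟨k, hk, hmove⟩ := h.resolve_left fun e => hne (Fin.ext e)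
    have hk' := List.all_eq_true.1 stab_check.1 k hk
    simp only [Bool.and_eq_true, Nat.blt_eq, beq_iff_eq] at hk'
    have hfix : elem k 0 = 0 := Fin.ext (((elem_spec hk'.1).2 0).symm.trans hk'.2)
    have := congrArg (fun p : Equiv.Perm (Fin 315) => p 0) (hz _ (elem_mem_range hk'.1))
    simp only [Equiv.Perm.mul_apply, hfix] at this
    exact hmove (((elem_spec hk'.1).2 (z 0)).trans (congrArg Fin.val this))
  refine Equiv.ext fun i => ?_
  obtain ⟨g, hg⟩ := exists_rho_eq 0 i
  have := congrArg (fun p : Equiv.Perm (Fin 315) => p 0) (hz _ ⟨g, rfl⟩)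
  simp only [Equiv.Perm.mul_apply, h0, hg] at this
  exact this.symm

theorem center_eq_ker : Subgroup.center twoJ2 = rho.ker := by
  refine le_antisymm (fun z hz => MonoidHom.mem_ker.2 (eq_one_of_commute ?_)) fun z hz => ?_
  · rintro _ ⟨g, rfl⟩
    rw [← map_mul, ← map_mul, Subgroup.mem_center_iff.1 hz g]
  · rw [Subgroup.mem_center_iff]
    rcases mem_ker_rho.1 hz with rfl | rfl
    · simp
    · exact negTwo_comm

/-- The Hall–Janko group as a permutation group of degree 315. -/
noncomputable def j2Equiv : J2 ≃* rho.range :=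
  (QuotientGroup.quotientMulEquivOfEq center_eq_ker).trans (QuotientGroup.quotientKerEquivRange rho)

theorem j2Equiv_mk (g : twoJ2) : (j2Equiv (QuotientGroup.mk g) : Equiv.Perm (Fin 315)) = rho g :=
  rfl

/-! ### Simplicity -/

theorem range_simple : IsSimpleGroup rho.range := by
  haveI : Nontrivial rho.range := by
    rw [← Finite.one_lt_card_iff_nontrivial, card_range_rho]; norm_num
  refine ⟨fun N hN => ?_⟩
  by_cases hbot : N = ⊥
  · exact Or.inl hbot
  right
  haveI := hN
  obtain ⟨hlen, hzero, htree, hnd, htot, hsubl⟩ := suborbit_check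
  let D : Set (Fin 315) := {i | ∃ n ∈ N, (n : Equiv.Perm (Fin 315)) 0 = i}
  have h0D : (0 : Fin 315) ∈ D := ⟨1, N.one_mem, rfl⟩
  have hinv : ∀ g : rho.range, (g : Equiv.Perm (Fin 315)) 0 = 0 →
      ∀ i, (g : Equiv.Perm (Fin 315)) i ∈ D ↔ i ∈ D := by
    intro g hg i
    have hg' : ((g⁻¹ : rho.range) : Equiv.Perm (Fin 315)) 0 = 0 := by
      rw [Subgroup.coe_inv, Equiv.Perm.coe_inv]; exact (Equiv.symm_apply_eq _).2 hg.symm
    constructor
    · rintro ⟨n, hn, e⟩
      refine ⟨g⁻¹ * n * g⁻¹⁻¹, hN.conj_mem n hn _, ?_⟩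
      rw [Subgroup.coe_mul, Subgroup.coe_mul, Equiv.Perm.mul_apply, Equiv.Perm.mul_apply, inv_inv,
        hg, e, Subgroup.coe_inv, Equiv.Perm.coe_inv, Equiv.symm_apply_apply]
    · rintro ⟨n, hn, rfl⟩
      refine ⟨g * n * g⁻¹, hN.conj_mem n hn g, ?_⟩
      rw [Subgroup.coe_mul, Subgroup.coe_mul, Equiv.Perm.mul_apply, Equiv.Perm.mul_apply, hg']
  have hroot : ∀ k < 6, ∀ x ∈ suborbit k, ∀ hx : x < 315,
      ((⟨x, hx⟩ : Fin 315) ∈ D ↔ ∃ h : (suborbit k).getD 0 0 < 315,
        (⟨(suborbit k).getD 0 0, h⟩ : Fin 315) ∈ D) := by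
    intro k hk
    have hl : suborbitData.getD k [] ∈ suborbitData := by
      rw [List.getD_eq_getElem _ _ (hlen ▸ hk)]; exact List.getElem_mem _
    have ht := List.all_eq_true.1 htree _ hl
    simp only [List.all_eq_true, List.mem_range, Bool.and_eq_true, Nat.blt_eq, Bool.or_eq_true,
      beq_iff_eq, List.contains_iff_mem] at ht
    intro x hx
    obtain ⟨e, he, rfl⟩ := List.mem_map.1 hx
    obtain ⟨j, hj, rfl⟩ := List.getElem_of_mem he
    intro hx'
    induction j using Nat.strong_induction_on with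
    | _ j ihj =>
      rcases (ht j hj).2 with rfl | ⟨⟨hpar, hs⟩, happ⟩
      · have e0 : (suborbit k).getD 0 0 = ((suborbitData.getD k [])[0]'hj).1 := by
          rw [suborbit, List.getD_eq_getElem _ _ (by simpa using hj)]; simp
        refine ⟨fun h => ⟨e0 ▸ hx', ?_⟩, fun ⟨h, h'⟩ => ?_⟩
        · convert h using 1; exact Fin.ext e0
        · convert h' using 1; exact Fin.ext e0.symm
      · have hpj : ((suborbitData.getD k []).getD j (0, 0, 0)).2.1 < (suborbitData.getD k []).length := by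
          omega
        rw [List.getD_eq_getElem _ _ hpj] at happ
        have hp315 : ((suborbitData.getD k [])[((suborbitData.getD k []).getD j (0, 0, 0)).2.1]'hpj).1 < 315 := by
          have := (ht _ hpj).1; rwa [List.getD_eq_getElem _ _ hpj] at this
        rw [← ihj _ hpar hpj (List.getElem_mem hpj) (List.mem_map.2 ⟨_, List.getElem_mem hpj, rfl⟩) hp315]
        have hs' := List.all_eq_true.1 stab_check.1 _ hs
        simp only [Bool.and_eq_true, Nat.blt_eq, beq_iff_eq] at hs'
        have hg0 : ((⟨_, elem_mem_range hs'.1⟩ : rho.range) : Equiv.Perm (Fin 315)) 0 = 0 :=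
          Fin.ext (((elem_spec hs'.1).2 0).symm.trans hs'.2)
        rw [← hinv ⟨_, elem_mem_range hs'.1⟩ hg0 ⟨_, hp315⟩]
        have : elem ((suborbitData.getD k []).getD j (0, 0, 0)).2.2 ⟨_, hp315⟩ =
            ⟨((suborbitData.getD k [])[j]'hj).1, hx'⟩ := by
          refine Fin.ext (((elem_spec hs'.1).2 ⟨_, hp315⟩).symm.trans ?_)
          show app _ _ = _
          rw [happ, List.getD_eq_getElem _ _ hj]
        rw [← this]
  classical
  let S : List ℕ := (List.range 6).filter fun k =>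
    decide (∃ h : (suborbit k).getD 0 0 < 315, (⟨(suborbit k).getD 0 0, h⟩ : Fin 315) ∈ D)
  have hcover : ∀ i : Fin 315, (i : ℕ) ∈ (List.range 6).flatMap suborbit := by
    intro i
    have hsub : ((List.range 6).flatMap suborbit).toFinset ⊆ Finset.range 315 := by
      intro x hx
      simp only [List.mem_toFinset, List.mem_flatMap, List.mem_range] at hx
      obtain ⟨k, hk, hx⟩ := hx
      obtain ⟨e, he, rfl⟩ := List.mem_map.1 hx
      obtain ⟨j, hj, rfl⟩ := List.getElem_of_mem he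
      have ht := List.all_eq_true.1 htree (suborbitData.getD k []) (by
        rw [List.getD_eq_getElem _ _ (hlen ▸ hk)]; exact List.getElem_mem _)
      simp only [List.all_eq_true, List.mem_range, Bool.and_eq_true, Nat.blt_eq] at ht
      have := (ht j hj).1
      rw [List.getD_eq_getElem _ _ hj] at this
      simpa using this
    have := Finset.eq_of_subset_of_card_le hsub
      (by rw [List.toFinset_card_of_nodup hnd, htot]; simp)
    rw [← List.mem_toFinset, this]; simp
  have hDS : ∀ i : Fin 315, i ∈ D ↔ (i : ℕ) ∈ S.flatMap suborbit := by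
    intro i
    constructor
    · intro hi
      obtain ⟨k, hk, hik⟩ := List.mem_flatMap.1 (hcover i)
      rw [List.mem_range] at hk
      refine List.mem_flatMap.2 ⟨k, List.mem_filter.2 ⟨List.mem_range.2 hk, ?_⟩, hik⟩
      exact decide_eq_true ((hroot k hk _ hik i.isLt).1 hi)
    · intro hi
      obtain ⟨k, hk, hik⟩ := List.mem_flatMap.1 hi
      obtain ⟨hk, hdec⟩ := List.mem_filter.1 hk
      exact (hroot k (List.mem_range.1 hk) _ hik i.isLt).2 (of_decide_eq_true hdec)
  have hSsub : S.Sublist (List.range 6) := List.filter_sublist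
  have hSnd : (S.flatMap suborbit).Nodup :=
    hnd.sublist (List.Sublist.flatMap hSsub _)
  have hDcard : D.ncard = (S.flatMap suborbit).length := by
    have e : Fin.val '' D = ((S.flatMap suborbit).toFinset : Set ℕ) := by
      ext x
      simp only [Set.mem_image, List.coe_toFinset, Set.mem_ofPred_eq]
      constructor
      · rintro ⟨i, hi, rfl⟩; exact (hDS i).1 hi
      · intro hx
        have hx' : x < 315 := by
          have hmem : x ∈ (List.range 6).flatMap suborbit :=
            (List.Sublist.flatMap hSsub _).subset hx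
          by_contra hge
          have hsub : Finset.range 315 ⊆ ((List.range 6).flatMap suborbit).toFinset := fun y hy => by
            simpa using hcover ⟨y, Finset.mem_range.1 hy⟩
          have heq := Finset.eq_of_subset_of_card_le hsub
            (by rw [List.toFinset_card_of_nodup hnd, htot]; simp)
          exact hge (Finset.mem_range.1 (heq ▸ List.mem_toFinset.2 hmem))
        exact ⟨⟨x, hx'⟩, (hDS _).2 hx, rfl⟩
    rw [← Set.ncard_image_of_injective D Fin.val_injective, e, Set.ncard_coe_finset,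
      List.toFinset_card_of_nodup hSnd]
  let act : MulAction rho.range (Fin 315) := inferInstance
  have horb : MulAction.orbit N (0 : Fin 315) = D := by
    ext i
    exact ⟨fun ⟨n, h⟩ => ⟨n, n.2, h⟩, fun ⟨n, hn, h⟩ => ⟨⟨n, hn⟩, h⟩⟩
  have htr : ∀ i : Fin 315, ∃ g : rho.range, (g : Equiv.Perm (Fin 315)) 0 = i := fun i => by
    obtain ⟨g, hg⟩ := exists_rho_eq 0 i
    exact ⟨⟨_, g, rfl⟩, hg⟩
  have hdiv : D.ncard ∣ 315 := by
    have h1 : (MulAction.orbit rho.range (0 : Fin 315)) = Set.univ :=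
      Set.eq_univ_of_forall fun i => (htr i).imp fun _ h => h
    haveI : MulAction.IsPretransitive rho.range (Fin 315) := by
      refine ⟨fun x y => ?_⟩
      obtain ⟨a, ha⟩ := htr x
      obtain ⟨b, hb⟩ := htr y
      refine ⟨b * a⁻¹, ?_⟩
      show ((b * a⁻¹ : rho.range) : Equiv.Perm (Fin 315)) x = y
      rw [Subgroup.coe_mul, Subgroup.coe_inv, Equiv.Perm.mul_apply, Equiv.Perm.coe_inv,
        (Equiv.symm_apply_eq _).2 ha.symm, hb]
    have := MulAction.IsBlock.ncard_dvd_card (G := rho.range)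
      (MulAction.IsBlock.orbit_of_normal (N := N) (0 : Fin 315))
      ⟨(0 : Fin 315), MulAction.mem_orbit_self _⟩
    simpa [horb] using this
  have h0S : 0 ∈ S := by
    refine List.mem_filter.2 ⟨by simp, decide_eq_true ?_⟩
    have e : (suborbit 0).getD 0 0 = 0 := by rw [suborbit, hzero]; rfl
    exact ⟨by omega, by convert h0D using 1; exact Fin.ext e⟩
  have hcases := List.all_eq_true.1 hsubl S (List.mem_sublists.2 hSsub)
  simp only [Bool.or_eq_true, Bool.not_eq_true', beq_iff_eq, beq_eq_false_iff_ne,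
    List.contains_eq_mem, decide_eq_false_iff_not] at hcases
  rw [← hDcard] at hcases
  rcases hcases with ((h | h) | h) | h
  · exact absurd h0S h
  · exact absurd (Nat.dvd_iff_mod_eq_zero.1 hdiv) h
  · exfalso
    apply hbot
    rw [Subgroup.eq_bot_iff_forall]
    intro n hn
    obtain ⟨a, ha⟩ := Set.ncard_eq_one.1 h
    refine Subtype.ext (Equiv.ext fun i => ?_)
    obtain ⟨g, hg⟩ := htr i
    have hm : (g⁻¹ * n * g⁻¹⁻¹ : rho.range) ∈ N := hN.conj_mem n hn _
    have h1 : ((g⁻¹ * n * g⁻¹⁻¹ : rho.range) : Equiv.Perm (Fin 315)) 0 ∈ D := ⟨_, hm, rfl⟩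
    rw [ha, Set.mem_singleton_iff] at h1
    have ha0 : (0 : Fin 315) = a := by rw [← Set.mem_singleton_iff, ← ha]; exact h0D
    rw [← ha0, inv_inv, Subgroup.coe_mul, Subgroup.coe_mul, Subgroup.coe_inv, Equiv.Perm.mul_apply,
      Equiv.Perm.mul_apply, hg, Equiv.Perm.coe_inv, Equiv.symm_apply_eq, hg] at h1
    exact h1
  have h315 : (315 : ℕ) ∣ Nat.card N := by
    have h' := Subgroup.index_dvd_card (MulAction.stabilizer N (0 : Fin 315))
    rwa [MulAction.index_stabilizer, horb, h] at h'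
  have hidx : ¬ 7 ∣ N.index := by
    intro h7
    have hh : 7 * 7 ∣ N.index * Nat.card N := mul_dvd_mul h7 (dvd_trans (by norm_num) h315)
    rw [Subgroup.index_mul_card, card_range_rho] at hh
    norm_num at hh
  have h7N : ∀ g : rho.range, g ^ 7 = 1 → g ∈ N := by
    intro g hg
    rw [← QuotientGroup.eq_one_iff]
    have ho1 : orderOf (g : rho.range ⧸ N) ∣ 7 := orderOf_dvd_of_pow_eq_one (by
      rw [← QuotientGroup.mk_pow, hg, QuotientGroup.mk_one])
    rcases (Nat.dvd_prime (by norm_num : Nat.Prime 7)).1 ho1 with ho | ho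
    · exact orderOf_eq_one_iff.1 ho
    · exact absurd (ho ▸ (Subgroup.index_eq_card N ▸ orderOf_dvd_natCard _)) hidx
  obtain ⟨hsev, hlen', -⟩ := seven_check
  simp only [List.all_eq_true, Bool.and_eq_true, beq_iff_eq] at hsev
  have h418 : 418 < elemTabs.length := by omega
  have eval_eq : ∀ l : List ℕ, (∀ k ∈ l, k < elemTabs.length) → ∀ x : Fin 315,
      evalWord elemTabs l x = ((l.map elem).prod x : ℕ) := by
    intro l
    induction l with
    | nil => intro _ x; rfl
    | cons k l ih =>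
      intro h x
      rw [evalWord, ih (fun j hj => h j (List.mem_cons_of_mem _ hj)) x,
        (elem_spec (h k List.mem_cons_self)).2]
      rfl
  have hpow : ∀ k, k < elemTabs.length →
      (∀ f ∈ detLines, evalWord elemTabs [k, k, k, k, k, k, k] f = f) → elem k ^ 7 = 1 := by
    intro k hk hf
    refine eq_of_agree (pow_mem (elem_mem_range hk) _) (one_mem _) fun f hfd => Fin.ext ?_
    have := (eval_eq [k, k, k, k, k, k, k] (by simp [hk]) f).symm.trans (hf _ hfd)
    rw [Equiv.Perm.one_apply, ← this]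
    rfl
  have ha : (⟨elem 418, elem_mem_range h418⟩ : rho.range) ∈ N :=
    h7N _ (Subtype.ext (hpow _ h418 fun f hf => (hsev f hf).1.1))
  have hb : (⟨elem 421, elem_mem_range hlen'⟩ : rho.range) ∈ N :=
    h7N _ (Subtype.ext (hpow _ hlen' fun f hf => (hsev f hf).1.2))
  have hr0 : (⟨rho (refl2 312), ⟨_, rfl⟩⟩ : rho.range) ∈ N := by
    have e : rho (refl2 312) = elem 418 * elem 421 := by
      refine eq_of_agree ⟨_, rfl⟩ (mul_mem (elem_mem_range h418) (elem_mem_range hlen'))
        fun f hf => Fin.ext ?_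
      have h1 := (eval_eq [418, 421] (by simp [h418, hlen']) f).symm.trans (hsev f hf).2
      obtain ⟨e, he, hei⟩ := List.mem_map.1
        (show (312 : ℕ) ∈ reflData.map (fun e => e.1) by rw [gens_check.1]; simp [genLine])
      obtain ⟨g, hg, hrep⟩ := rep_refl he
      obtain rfl : g = 312 := Fin.ext (hg.trans hei)
      have htab : e.2.1 = elemTabs.getD 0 0 := by
        have hmem : (e.1, e.2.1) ∈ reflData.map (fun e => (e.1, e.2.1)) :=
          List.mem_map.2 ⟨e, he, rfl⟩
        have hlist : reflData.map (fun e => (e.1, e.2.1)) =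
            [(312, elemTabs.getD 0 0), (95, elemTabs.getD 1 0), (114, elemTabs.getD 2 0),
              (248, elemTabs.getD 3 0)] := by decide +kernel
        rw [hlist] at hmem
        simp only [List.mem_cons, Prod.mk.injEq, List.not_mem_nil, or_false, hei] at hmem
        rcases hmem with h | h | h | h
        · exact h.2
        all_goals exact absurd h.1 (by norm_num)
      rw [← hrep f, htab, ← h1]
      simp
    have : (⟨rho (refl2 312), ⟨_, rfl⟩⟩ : rho.range) =
        ⟨elem 418, elem_mem_range h418⟩ * ⟨elem 421, elem_mem_range hlen'⟩ := Subtype.ext e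
    rw [this]; exact N.mul_mem ha hb
  rw [eq_top_iff]
  rintro ⟨_, x, rfl⟩ -
  have hx : x ∈ four := by rw [four_eq_top]; trivial
  show rho.rangeRestrict x ∈ N
  refine (Subgroup.closure_le (K := N.comap rho.rangeRestrict)).2 ?_ hx
  rintro _ ⟨i, -, rfl⟩
  obtain ⟨g, hg⟩ := exists_rho_eq 312 i
  show rho.rangeRestrict (refl2 i) ∈ N
  rw [← hg, ← conj_refl2, map_mul, map_mul, map_inv]
  exact hN.conj_mem _ hr0 _

theorem range_nonabelian : ∃ a b : rho.range, a * b ≠ b * a := by
  obtain ⟨-, hlen, hne⟩ := seven_check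
  have h0 : 0 < elemTabs.length := by omega
  have h1 : 1 < elemTabs.length := by omega
  refine ⟨⟨_, elem_mem_range h0⟩, ⟨_, elem_mem_range h1⟩, fun h => hne ?_⟩
  have e := congrArg (fun g : rho.range => ((g : Equiv.Perm (Fin 315)) 0 : ℕ)) h
  simp only [Subgroup.coe_mul, Equiv.Perm.mul_apply] at e
  simp only [evalWord]
  have p0 := (elem_spec h0).2 (0 : Fin 315)
  have p1 := (elem_spec h1).2 (0 : Fin 315)
  simp only [Fin.val_zero] at p0 p1
  rw [p1, p0, (elem_spec h0).2, (elem_spec h1).2]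
  exact e

end Cfsg.Agent.Icosian
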