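import Cfsg.Agent.Lib.Icosian.CentData

/-!
Kernel checks for the centraliser of a reflection.
-/

set_option autoImplicit false
set_option maxRecDepth 100000

namespace Cfsg.Agent.Icosian

open Qz Enum Cert

/-- The word of the central reflection. -/
def centreWord : List ℕ := kernelWords.getD 0 []

/-- The first element of a pair. -/
def pairA (k : ℕ) : ℕ := (fivePairs.getD k (0, 0)).1

/-- The second element of a pair. -/
def pairB (k : ℕ) : ℕ := (fivePairs.getD k (0, 0)).2

/-- A word sends pair `k` to pair `l`. -/
def sendsB (w : List ℕ) (k l : ℕ) : Bool :=
  (evalWord elemTabs w (pairA k) == pairA l && evalWord elemTabs w (pairB k) == pairB l) ||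
    (evalWord elemTabs w (pairA k) == pairB l && evalWord elemTabs w (pairB k) == pairA l)

/-- The images of the determining lines. -/
def sigF (w : List ℕ) : List ℕ := detLines.map (evalWord elemTabs w)

theorem cent_check :
    headGens levelData.tail = stabGens ∧ orderOfChain levelData.tail = 1920 ∧
    (detLines.all fun f => units.any fun u =>
      reflV (lines.getD 0 ⟨Qz.zero, Qz.zero, Qz.zero⟩) (lines.getD f ⟨Qz.zero, Qz.zero, Qz.zero⟩) ==
        smulV u (lines.getD (evalWord elemTabs centreWord f) ⟨Qz.zero, Qz.zero, Qz.zero⟩)) = true ∧
    (detLines.all fun f => Nat.blt (evalWord elemTabs centreWord f) 315) = true ∧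
    ((levelData.headD ⟨0, [], [], []⟩).tree.all fun e => e.1 == 0 ||
      detLines.any fun f => app (elemTabs.getD (elemOf e) 0) (evalWord elemTabs centreWord f) !=
        evalWord elemTabs centreWord (app (elemTabs.getD (elemOf e) 0) f)) = true ∧
    ((List.range 5).all fun k => Nat.blt (pairA k) 315 && Nat.blt (pairB k) 315) = true ∧
    ((List.range 5).flatMap fun k => [pairA k, pairB k]).Nodup ∧
    (stabGens.all fun s => (List.range 5).all fun k => (List.range 5).any fun l =>
      sendsB [s] k l) = true ∧
    kernelWords.length = 32 ∧ imageWords.length = 60 ∧
    (kernelWords.all fun w => (w.all fun k => (allElems levelData.tail).contains k) &&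
      (List.range 5).all fun k => sendsB w k k) = true ∧
    (imageWords.all fun e => (e.1.all fun k => (allElems levelData.tail).contains k) &&
      (List.range 5).all fun k => Nat.blt (e.2.getD k 0) 5 && sendsB e.1 k (e.2.getD k 0)) = true ∧
    (kernelWords.map sigF).Nodup ∧
    (imageWords.map fun e => (List.range 5).map fun k => e.2.getD k 0).Nodup := by
  decide +kernel

/-- The images of two composed words. -/
def sig2 (u v : List ℕ) : List ℕ := detLines.map fun f => evalWord elemTabs u (evalWord elemTabs v f)

theorem extra_check :
    (kernelWords.all fun u => kernelWords.all fun v =>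
      sig2 u v == sig2 v u ||
        sig2 u v == detLines.map (fun f =>
          evalWord elemTabs centreWord (evalWord elemTabs v (evalWord elemTabs u f)))) = true ∧
    (kernelWords.all fun u => sig2 u u == detLines || sig2 u u == sigF centreWord) = true ∧
    (kernelWords.all fun u => sigF u == detLines || sigF u == sigF centreWord ||
      kernelWords.any fun v => !(sig2 u v == sig2 v u)) = true ∧
    (sigF centreWord == detLines) = false ∧ (sig2 centreWord centreWord == detLines) = true := by
  decide +kernel

end Cfsg.Agent.Icosian
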