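import Cfsg.Agent.Lib.Icosian.GroupCheck

/-!
Data for the centraliser of a reflection.
-/

set_option autoImplicit false

namespace Cfsg.Agent.Icosian

/-- Five pairs of lines permuted by the stabiliser of the first line. -/
def fivePairs : List (ℕ × ℕ) := [(307, 312), (306, 313), (305, 314), (308, 311), (309, 310)]

/-- The kernel on the five pairs as words; the first is the central reflection. -/
def kernelWords : List (List ℕ) := [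
    [4, 94, 4, 4], [4, 4, 4, 4], [4, 91, 4, 4], [86, 94, 114, 4], [4, 4, 108, 4], [86, 4, 114, 4],
    [86, 94, 120, 4], [86, 107, 105, 131], [86, 130, 121, 131], [4, 101, 105, 131], [4, 91, 108, 4],
    [86, 116, 4, 4], [4, 99, 121, 4], [86, 91, 114, 4], [4, 99, 119, 4], [4, 107, 4, 128], [86, 130,
    119, 131], [86, 101, 114, 131], [4, 107, 108, 128], [86, 107, 118, 128], [4, 130, 108, 131],
    [86, 4, 120, 4], [86, 101, 120, 131], [4, 94, 108, 4], [4, 130, 4, 131], [4, 116, 119, 128], [4,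
    116, 121, 128], [86, 99, 114, 128], [4, 101, 118, 128], [86, 91, 120, 4], [86, 99, 120, 128],
    [86, 116, 108, 4]]

/-- Representatives of the 60 permutations of the five pairs, with the permutations. -/
def imageWords : List (List ℕ × List ℕ) := [
    ([4, 4, 4, 4], [0, 1, 2, 3, 4]), ([100, 99, 108, 128], [0, 1, 3, 4, 2]), ([92, 91, 121, 128],
    [0, 1, 4, 2, 3]), ([115, 4, 105, 4], [0, 2, 1, 4, 3]), ([100, 107, 118, 128], [0, 2, 3, 1, 4]),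
    ([92, 107, 119, 128], [0, 2, 4, 3, 1]), ([83, 130, 4, 128], [0, 3, 1, 2, 4]), ([4, 99, 4, 4],
    [0, 3, 2, 4, 1]), ([92, 130, 121, 128], [0, 3, 4, 1, 2]), ([83, 4, 105, 4], [0, 4, 1, 3, 2]),
    ([4, 101, 4, 4], [0, 4, 2, 1, 3]), ([106, 99, 118, 4], [0, 4, 3, 2, 1]), ([86, 101, 4, 4], [1,
    0, 2, 4, 3]), ([100, 99, 118, 4], [1, 0, 3, 2, 4]), ([82, 107, 4, 4], [1, 0, 4, 3, 2]), ([87,
    99, 108, 131], [1, 2, 0, 3, 4]), ([106, 4, 120, 131], [1, 2, 3, 4, 0]), ([82, 4, 105, 4], [1, 2,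
    4, 0, 3]), ([129, 94, 4, 131], [1, 3, 0, 4, 2]), ([86, 99, 4, 4], [1, 3, 2, 0, 4]), ([82, 4,
    114, 4], [1, 3, 4, 2, 0]), ([87, 101, 108, 128], [1, 4, 0, 2, 3]), ([86, 4, 4, 4], [1, 4, 2, 3,
    0]), ([106, 116, 120, 4], [1, 4, 3, 0, 2]), ([83, 99, 118, 128], [2, 0, 1, 3, 4]), ([100, 101,
    108, 4], [2, 0, 3, 4, 1]), ([82, 4, 4, 128], [2, 0, 4, 1, 3]), ([87, 4, 108, 128], [2, 1, 0, 4,
    3]), ([106, 4, 4, 4], [2, 1, 3, 0, 4]), ([82, 101, 108, 131], [2, 1, 4, 3, 0]), ([129, 130, 4,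
    4], [2, 3, 0, 1, 4]), ([83, 4, 4, 4], [2, 3, 1, 4, 0]), ([82, 4, 120, 128], [2, 3, 4, 0, 1]),
    ([87, 101, 108, 131], [2, 4, 0, 3, 1]), ([83, 4, 118, 128], [2, 4, 1, 0, 3]), ([100, 4, 4, 4],
    [2, 4, 3, 1, 0]), ([115, 107, 120, 128], [3, 0, 1, 4, 2]), ([86, 130, 118, 128], [3, 0, 2, 1,
    4]), ([82, 4, 4, 4], [3, 0, 4, 2, 1]), ([87, 4, 4, 4], [3, 1, 0, 2, 4]), ([4, 4, 4, 128], [3, 1,
    2, 4, 0]), ([82, 101, 4, 4], [3, 1, 4, 0, 2]), ([87, 99, 4, 4], [3, 2, 0, 4, 1]), ([115, 99, 4,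
    4], [3, 2, 1, 0, 4]), ([82, 99, 4, 4], [3, 2, 4, 1, 0]), ([87, 94, 121, 4], [3, 4, 0, 1, 2]),
    ([115, 4, 4, 4], [3, 4, 1, 2, 0]), ([4, 101, 108, 131], [3, 4, 2, 0, 1]), ([83, 99, 118, 4], [4,
    0, 1, 2, 3]), ([4, 4, 114, 4], [4, 0, 2, 3, 1]), ([106, 94, 118, 131], [4, 0, 3, 1, 2]), ([129,
    130, 105, 4], [4, 1, 0, 3, 2]), ([4, 107, 4, 4], [4, 1, 2, 0, 3]), ([106, 94, 4, 131], [4, 1, 3,
    2, 0]), ([129, 130, 114, 4], [4, 2, 0, 1, 3]), ([83, 4, 120, 128], [4, 2, 1, 3, 0]), ([106, 116,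
    108, 4], [4, 2, 3, 0, 1]), ([129, 4, 4, 4], [4, 3, 0, 2, 1]), ([83, 4, 4, 128], [4, 3, 1, 0,
    2]), ([4, 4, 105, 4], [4, 3, 2, 1, 0])]

end Cfsg.Agent.Icosian
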