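import Cfsg.Agent.Lib.Icosian.Group
import Cfsg.Agent.Lib.Icosian.CentCheck
import Cfsg.Agent.Lib.Invol.ExtraPairs

/-!
The centraliser of a reflection in the Hall–Janko group.
-/

set_option autoImplicit false
set_option maxRecDepth 100000

namespace Cfsg.Agent.Icosian

open Quaternion Cfsg.Spor Qz Enum Cert
open scoped commutatorElement

/-- The permutation of a word. -/
noncomputable def wordPerm (w : List ℕ) : Equiv.Perm (Fin 315) := (w.map elem).prod

theorem evalWord_eq : ∀ (w : List ℕ), (∀ k ∈ w, k < elemTabs.length) → ∀ x : Fin 315,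
    evalWord elemTabs w x = (wordPerm w x : ℕ)
  | [], _, _ => rfl
  | k :: w, h, x => by
    rw [evalWord, evalWord_eq w (fun j hj => h j (List.mem_cons_of_mem _ hj)) x,
      (elem_spec (h k List.mem_cons_self)).2]
    rfl

/-- The stabiliser of the first line. -/
noncomputable def stab0 : Subgroup (Equiv.Perm (Fin 315)) := genGroup elem stabGens

theorem stab0_spec : stab0 ≤ rho.range ∧ (∀ g ∈ stab0, g 0 = 0) ∧ Nat.card stab0 = 1920 ∧
    ∀ k ∈ allElems levelData.tail, k < elemTabs.length ∧ elem k ∈ stab0 := by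
  obtain ⟨h1, -, h3, -⟩ := chain_check
  obtain ⟨c1, c2, -⟩ := cent_check
  cases hlv : levelData with
  | nil => have := transitive_check; simp [hlv] at this
  | cons L rest =>
    have hT := transitive_check
    simp only [hlv, List.head?_cons, Option.map_some, Option.some.injEq, Prod.mk.injEq] at hT
    rw [hlv, chainCheck] at h1
    simp only [Bool.and_eq_true] at h1
    obtain ⟨a, b, c, d⟩ := chainCheck_spec (H := four.map rho) (fun k hk => elem_spec hk)
      (fun g hg h hh => eq_of_agree (Subgroup.map_le_range _ _ hg) (Subgroup.map_le_range _ _ hh))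
      (fun f hf => by simpa using List.all_eq_true.1 h3 f hf) rest ([] ++ [L.base]) h1.2
    rw [hlv, List.tail_cons] at c1 c2
    rw [c1] at a b c d
    refine ⟨a.trans (Subgroup.map_le_range _ _), fun g hg => c g hg 0 (by simp [hT.1]), d.trans c2, ?_⟩
    rw [List.tail_cons]
    exact b

theorem wordPerm_mem {w : List ℕ} (h : ∀ k ∈ w, k ∈ allElems levelData.tail) :
    wordPerm w ∈ stab0 ∧ ∀ x : Fin 315, evalWord elemTabs w x = (wordPerm w x : ℕ) := by
  refine ⟨list_prod_mem fun y hy => ?_, evalWord_eq w fun k hk => (stab0_spec.2.2.2 k (h k hk)).1⟩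
  obtain ⟨k, hk, rfl⟩ := List.mem_map.1 hy
  exact (stab0_spec.2.2.2 k (h k hk)).2

theorem eq_of_sig {g h : Equiv.Perm (Fin 315)} (hg : g ∈ rho.range) (hh : h ∈ rho.range)
    (e : ∀ f ∈ detLines, ∀ hf : f < 315, g ⟨f, hf⟩ = h ⟨f, hf⟩) : g = h :=
  eq_of_agree hg hh fun f hf => e f hf f.isLt

theorem fix_iff {g : Equiv.Perm (Fin 315)} (hg : g ∈ rho.range) : g 0 = 0 ↔ g ∈ stab0 := by
  refine ⟨fun h => ?_, stab0_spec.2.1 g⟩
  let St : Subgroup rho.range := MulAction.stabilizer rho.range (0 : Fin 315)
  have horb : MulAction.orbit rho.range (0 : Fin 315) = Set.univ :=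
    Set.eq_univ_of_forall fun i => by
      obtain ⟨x, hx⟩ := exists_rho_eq 0 i
      exact ⟨⟨_, x, rfl⟩, hx⟩
  have hcard : Nat.card St = 1920 := by
    have := St.card_mul_index
    rw [MulAction.index_stabilizer, horb, Set.ncard_univ, Nat.card_fin, card_range_rho] at this
    omega
  have hle : stab0 ≤ St.map rho.range.subtype := fun x hx =>
    ⟨⟨x, stab0_spec.1 hx⟩, stab0_spec.2.1 x hx, rfl⟩
  rw [Subgroup.eq_of_le_of_card_ge hle (by
    rw [Subgroup.card_map_of_injective rho.range.subtype_injective, hcard, stab0_spec.2.2.1])]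
  exact ⟨⟨g, hg⟩, h, rfl⟩

theorem centre_word_mem : ∀ k ∈ centreWord, k ∈ allElems levelData.tail := by
  obtain ⟨-, -, -, -, -, -, -, -, hlen, -, hk, -⟩ := cent_check
  intro k hk'
  have hm : centreWord ∈ kernelWords := by
    rw [centreWord, List.getD_eq_getElem _ _ (by omega)]; exact List.getElem_mem _
  have := List.all_eq_true.1 hk _ hm
  simp only [Bool.and_eq_true, List.all_eq_true, List.contains_iff_mem] at this
  exact this.1 k hk'

/-- The reflection of the first line, on lines. -/
noncomputable def z0 : Equiv.Perm (Fin 315) := rho (refl2 0)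

theorem z0_eq : z0 = wordPerm centreWord := by
  obtain ⟨hmem, hev⟩ := wordPerm_mem centre_word_mem
  obtain ⟨-, -, hc, hlt, -⟩ := cent_check
  refine eq_of_sig ⟨_, rfl⟩ (stab0_spec.1 hmem) fun f hf hf' => ?_
  have h := List.all_eq_true.1 hc f hf
  simp only [List.any_eq_true, beq_iff_eq] at h
  obtain ⟨u, hu, e⟩ := h
  have key := congrArg psi e
  have el : lines.getD (evalWord elemTabs centreWord f) ⟨Qz.zero, Qz.zero, Qz.zero⟩ =
      line (wordPerm centreWord ⟨f, hf'⟩) := by
    rw [line, ← hev ⟨f, hf'⟩]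
  rw [el, show lines.getD 0 ⟨Qz.zero, Qz.zero, Qz.zero⟩ = line 0 from rfl,
    show lines.getD f ⟨Qz.zero, Qz.zero, Qz.zero⟩ = line ⟨f, hf'⟩ from rfl,
    psi_reflV (line_spec _).1 (line_spec _).1, psi_smulV (unit_spec hu).1 (line_spec _).1] at key
  exact rho_apply_eq key

theorem z0_mem : z0 ∈ stab0 := z0_eq ▸ (wordPerm_mem centre_word_mem).1

theorem commute_iff {g : Equiv.Perm (Fin 315)} (hg : g ∈ rho.range) :
    g * z0 = z0 * g ↔ g ∈ stab0 := by
  have stabc : ∀ h ∈ stab0, h * z0 = z0 * h := by
    intro h hh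
    obtain ⟨x, rfl⟩ := stab0_spec.1 hh
    have e := congrArg rho (conj_refl2 x 0)
    rw [stab0_spec.2.1 _ hh, map_mul, map_mul, map_inv] at e
    exact mul_inv_eq_iff_eq_mul.1 e
  refine ⟨fun hcomm => ?_, stabc g⟩
  rw [← fix_iff hg]
  by_contra hne
  obtain ⟨-, -, -, hlt, hnc, -⟩ := cent_check
  cases hlv : levelData with
  | nil => have := transitive_check; simp [hlv] at this
  | cons L rest =>
    have hT := transitive_check
    simp only [hlv, List.head?_cons, Option.map_some, Option.some.injEq, Prod.mk.injEq] at hT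
    have hok := chain_check.1
    rw [hlv, chainCheck] at hok
    simp only [Bool.and_eq_true, decide_eq_true_eq, treeCheck, List.all_eq_true, List.mem_range,
      Nat.blt_eq, beq_iff_eq] at hok
    obtain ⟨⟨⟨⟨⟨-, hnd⟩, -, htr⟩, -⟩, -⟩, -⟩ := hok
    -- the transversal element of `g 0`
    have hmem : (g 0 : ℕ) ∈ L.tree.map (fun e => e.1) := by
      have hsub : (L.tree.map (fun e => e.1)).toFinset ⊆ Finset.range 315 := by
        intro x hx
        simp only [List.mem_toFinset, List.mem_map] at hx
        obtain ⟨e, he, rfl⟩ := hx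
        obtain ⟨k, hk, rfl⟩ := List.getElem_of_mem he
        have h := (htr k hk).1
        rw [List.getD_eq_getElem _ _ hk, hT.1] at h
        have h' := (elem_spec h.1).2 (0 : Fin 315)
        simp only [Fin.val_zero] at h'
        rw [Finset.mem_range, ← h.2, h']
        exact Fin.isLt _
      have := Finset.eq_of_subset_of_card_le hsub
        (by rw [List.toFinset_card_of_nodup hnd]; simp [hT.2])
      rw [← List.mem_toFinset, this]; simp
    obtain ⟨e, he, hei⟩ := List.mem_map.1 hmem
    rw [hlv, List.headD_cons] at hnc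
    have hnc' := List.all_eq_true.1 hnc e he
    simp only [Bool.or_eq_true, beq_iff_eq, List.any_eq_true, bne_iff_ne] at hnc'
    obtain ⟨f, hf, hne'⟩ := hnc'.resolve_left (by
      rw [hei]; exact fun e0 => hne (Fin.ext e0))
    obtain ⟨k, hk, rfl⟩ := List.getElem_of_mem he
    have h := (htr k hk).1
    rw [List.getD_eq_getElem _ _ hk, hT.1] at h
    have ht0 : elem (elemOf L.tree[k]) 0 = g 0 := by
      have h' := (elem_spec h.1).2 (0 : Fin 315)
      simp only [Fin.val_zero] at h'
      exact Fin.ext (h'.symm.trans (h.2.trans hei))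
    have htR := elem_mem_range h.1
    have hq : g⁻¹ * elem (elemOf L.tree[k]) ∈ stab0 := by
      rw [← fix_iff (mul_mem (inv_mem hg) htR), Equiv.Perm.mul_apply, ht0, Equiv.Perm.coe_inv,
        Equiv.symm_apply_apply]
    have hc : elem (elemOf L.tree[k]) * z0 = z0 * elem (elemOf L.tree[k]) := by
      have := stabc _ hq
      calc elem (elemOf L.tree[k]) * z0 = g * ((g⁻¹ * elem (elemOf L.tree[k])) * z0) := by group
        _ = g * z0 * (g⁻¹ * elem (elemOf L.tree[k])) := by rw [this]; group
        _ = _ := by rw [hcomm]; group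
    have hf' : f < 315 := by simpa using List.all_eq_true.1 chain_check.2.2.1 f hf
    apply hne'
    have hev := (wordPerm_mem centre_word_mem).2
    have a1 := hev ⟨f, hf'⟩
    have a2 := (elem_spec h.1).2 (wordPerm centreWord ⟨f, hf'⟩)
    have a3 := (elem_spec h.1).2 ⟨f, hf'⟩
    have a4 := hev (elem (elemOf L.tree[k]) ⟨f, hf'⟩)
    have hc' := congrArg (fun p : Equiv.Perm (Fin 315) => (p ⟨f, hf'⟩ : ℕ)) hc
    simp only [Equiv.Perm.mul_apply, z0_eq] at hc'
    show fapp _ _ = evalWord _ _ (fapp _ _)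
    rw [a1, a2, a3, a4]
    exact hc'

/-- The `k`-th pair. -/
def pairPts (k : Fin 5) : ℕ × ℕ := (pairA k, pairB k)

/-- `g` sends pair `k` to pair `l`. -/
def Sends (g : Equiv.Perm (Fin 315)) (k l : Fin 5) : Prop :=
  ∀ x : Fin 315, ((x : ℕ) = pairA k ∨ (x : ℕ) = pairB k) → ((g x : ℕ) = pairA l ∨ (g x : ℕ) = pairB l)

theorem pair_eq_of_mem {k l : Fin 5} {x : ℕ} (hk : x = pairA k ∨ x = pairB k)
    (hl : x = pairA l ∨ x = pairB l) : k = l := by
  have key : ∀ k l : Fin 5, k ≠ l → pairA k ≠ pairA l ∧ pairA k ≠ pairB l ∧ pairB k ≠ pairA l ∧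
      pairB k ≠ pairB l := by decide +kernel
  by_contra hne
  obtain ⟨h1, h2, h3, h4⟩ := key k l hne
  rcases hk with rfl | rfl <;> rcases hl with e | e
  · exact h1 e
  · exact h2 e
  · exact h3 e
  · exact h4 e

theorem sends_of_word {w : List ℕ} (h : ∀ k ∈ w, k ∈ allElems levelData.tail) {k l : Fin 5}
    (hs : sendsB w k l = true) : Sends (wordPerm w) k l := by
  have hev := (wordPerm_mem h).2
  intro x hx
  simp only [sendsB, Bool.or_eq_true, Bool.and_eq_true, beq_iff_eq] at hs
  rcases hs with ⟨a, b⟩ | ⟨a, b⟩ <;> rcases hx with hx | hx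
  · left; rw [← hev x, hx, a]
  · right; rw [← hev x, hx, b]
  · right; rw [← hev x, hx, a]
  · left; rw [← hev x, hx, b]

theorem exists_pairA (k : Fin 5) : ∃ x : Fin 315, (x : ℕ) = pairA k := by
  obtain ⟨-, -, -, -, -, hlt, -⟩ := cent_check
  have := List.all_eq_true.1 hlt k (List.mem_range.2 k.isLt)
  simp only [Bool.and_eq_true, Nat.blt_eq] at this
  exact ⟨⟨_, this.1⟩, rfl⟩

theorem sends_unique {g : Equiv.Perm (Fin 315)} {k l l' : Fin 5} (h : Sends g k l)
    (h' : Sends g k l') : l = l' := by
  obtain ⟨x, hx⟩ := exists_pairA k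
  exact pair_eq_of_mem (h x (Or.inl hx)) (h' x (Or.inl hx))

/-- `g` permutes the five pairs. -/
def Maps (g : Equiv.Perm (Fin 315)) : Prop := ∀ k, ∃ l, Sends g k l

theorem maps_stab0 {g : Equiv.Perm (Fin 315)} (hg : g ∈ stab0) : Maps g := by
  have hm : g ∈ Submonoid.closure {x | ∃ k ∈ stabGens, elem k = x} := by
    rw [← Subgroup.closure_toSubmonoid_of_finite]; exact hg
  refine Submonoid.closure_induction (fun x hx => ?_) (fun k => ⟨k, fun _ h => h⟩)
    (fun a b _ _ ha hb k => ?_) hm
  · obtain ⟨s, hs, rfl⟩ := hx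
    intro k
    obtain ⟨c1, -, -, -, -, -, -, hgen, -⟩ := cent_check
    have := List.all_eq_true.1 (List.all_eq_true.1 hgen s hs) k (List.mem_range.2 k.isLt)
    simp only [List.any_eq_true, List.mem_range] at this
    obtain ⟨l, hl, e⟩ := this
    refine ⟨⟨l, hl⟩, fun x hx => ?_⟩
    have hsl : s < elemTabs.length := by
      have := List.all_eq_true.1 stab_check.1 s hs
      simp only [Bool.and_eq_true, Nat.blt_eq] at this
      exact this.1
    have hev := (elem_spec hsl).2 x
    simp only [sendsB, evalWord, Bool.or_eq_true, Bool.and_eq_true, beq_iff_eq] at e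
    rw [← hev]
    rcases e with ⟨a, b⟩ | ⟨a, b⟩ <;> rcases hx with hx | hx <;> rw [hx]
    · exact Or.inl a
    · exact Or.inr b
    · exact Or.inr a
    · exact Or.inl b
  · obtain ⟨m, hbm⟩ := hb k
    obtain ⟨l, hal⟩ := ha m
    exact ⟨l, fun x hx => hal _ (hbm x hx)⟩

/-- The permutation of the five pairs. -/
noncomputable def pairHom : stab0 →* Equiv.Perm (Fin 5) := by
  let f : stab0 → Fin 5 → Fin 5 := fun g k => (maps_stab0 g.2 k).choose
  have hf : ∀ g k, Sends (g : stab0).1 k (f g k) := fun g k => (maps_stab0 g.2 k).choose_spec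
  have hone : ∀ k, f 1 k = k := fun k => sends_unique (hf 1 k) (fun x hx => hx)
  have hmul : ∀ g h k, f (g * h) k = f g (f h k) := fun g h k =>
    sends_unique (hf (g * h) k) (fun x hx => hf g _ _ (hf h k x hx))
  exact
    { toFun := fun g =>
        { toFun := f g
          invFun := f g⁻¹
          left_inv := fun k => by rw [← hmul, inv_mul_cancel, hone]
          right_inv := fun k => by rw [← hmul, mul_inv_cancel, hone] }
      map_one' := Equiv.ext hone
      map_mul' := fun g h => Equiv.ext (hmul g h) }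

theorem pairHom_sends (g : stab0) (k : Fin 5) : Sends g.1 k (pairHom g k) :=
  (maps_stab0 g.2 k).choose_spec

/-- The element of a kernel word. -/
noncomputable def kerElem (i : Fin kernelWords.length) : pairHom.ker := by
  have h := List.all_eq_true.1 cent_check.2.2.2.2.2.2.2.2.2.2.1 _ (List.getElem_mem i.isLt)
  simp only [Bool.and_eq_true, List.all_eq_true, List.contains_iff_mem, List.mem_range] at h
  refine ⟨⟨wordPerm kernelWords[(i : ℕ)], (wordPerm_mem h.1).1⟩, MonoidHom.mem_ker.2 (Equiv.ext fun k => ?_)⟩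
  exact sends_unique (pairHom_sends _ k) (sends_of_word h.1 (h.2 k k.isLt))

theorem kernel_word {u : List ℕ} (hu : u ∈ kernelWords) : ∀ k ∈ u, k ∈ allElems levelData.tail := by
  have h := List.all_eq_true.1 cent_check.2.2.2.2.2.2.2.2.2.2.1 _ hu
  simp only [Bool.and_eq_true, List.all_eq_true, List.contains_iff_mem] at h
  exact h.1

theorem sigF_eq {w : List ℕ} (hw : ∀ k ∈ w, k ∈ allElems levelData.tail) :
    sigF w = detLines.map fun f => (if hf : f < 315 then (wordPerm w ⟨f, hf⟩ : ℕ) else 0) := by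
  refine List.map_congr_left fun f hf => ?_
  have hf' : f < 315 := by simpa using List.all_eq_true.1 chain_check.2.2.1 f hf
  rw [dif_pos hf']
  exact (wordPerm_mem hw).2 ⟨f, hf'⟩

theorem kerElem_injective : Function.Injective kerElem := by
  intro i j h
  have e : wordPerm kernelWords[(i : ℕ)] = wordPerm kernelWords[(j : ℕ)] :=
    congrArg (fun x : pairHom.ker => x.1.1) h
  have hs : sigF kernelWords[(i : ℕ)] = sigF kernelWords[(j : ℕ)] := by
    rw [sigF_eq (kernel_word (List.getElem_mem _)), sigF_eq (kernel_word (List.getElem_mem _)), e]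
  have hnd := cent_check.2.2.2.2.2.2.2.2.2.2.2.2.1
  have := hnd.getElem_inj_iff (i := (i : ℕ)) (j := (j : ℕ))
    (hi := by simp) (hj := by simp)
  simp only [List.getElem_map] at this
  exact Fin.ext (this.1 hs)

theorem card_pair : Nat.card pairHom.ker = 32 ∧ Nat.card pairHom.range = 60 := by
  have h1 : 32 ≤ Nat.card pairHom.ker := by
    have := Nat.card_le_card_of_injective _ kerElem_injective
    rwa [Nat.card_fin, cent_check.2.2.2.2.2.2.2.2.1] at this
  have h2 : 60 ≤ Nat.card pairHom.range := by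
    obtain ⟨-, -, -, -, -, -, -, -, -, hlen, -, him, -, hnd⟩ := cent_check
    have himg : ∀ i : Fin imageWords.length, ∃ g : stab0, ∀ k : Fin 5,
        ((pairHom g k : Fin 5) : ℕ) = imageWords[(i : ℕ)].2.getD k 0 := by
      intro i
      have h := List.all_eq_true.1 him _ (List.getElem_mem i.isLt)
      simp only [Bool.and_eq_true, List.all_eq_true, List.contains_iff_mem, List.mem_range,
        Nat.blt_eq] at h
      refine ⟨⟨_, (wordPerm_mem h.1).1⟩, fun k => ?_⟩
      obtain ⟨hl, hs⟩ := h.2 k k.isLt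
      exact congrArg Fin.val (sends_unique (pairHom_sends ⟨_, (wordPerm_mem h.1).1⟩ k)
        (sends_of_word (l := ⟨_, hl⟩) h.1 hs))
    choose g hg using himg
    have := Nat.card_le_card_of_injective (fun i => (⟨pairHom (g i), ⟨_, rfl⟩⟩ : pairHom.range))
      (fun i j h => by
        have e : pairHom (g i) = pairHom (g j) := congrArg Subtype.val h
        have hl : (List.range 5).map (fun k => imageWords[(i : ℕ)].2.getD k 0) =
            (List.range 5).map (fun k => imageWords[(j : ℕ)].2.getD k 0) := by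
          refine List.map_congr_left fun k hk => ?_
          rw [← hg i ⟨k, List.mem_range.1 hk⟩, ← hg j ⟨k, List.mem_range.1 hk⟩, e]
        have := hnd.getElem_inj_iff (i := (i : ℕ)) (j := (j : ℕ)) (hi := by simp) (hj := by simp)
        simp only [List.getElem_map] at this
        exact Fin.ext (this.1 hl))
    rwa [Nat.card_fin, hlen] at this
  have hprod := pairHom.ker.card_mul_index
  rw [Subgroup.index_ker, stab0_spec.2.2.1] at hprod
  constructor <;> nlinarith

theorem range_pairHom : pairHom.range = alternatingGroup (Fin 5) := by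
  refine Equiv.Perm.eq_alternatingGroup_of_index_eq_two ?_
  have := pairHom.range.card_mul_index
  rw [card_pair.2, Nat.card_perm, Nat.card_fin, show Nat.factorial 5 = 120 from rfl] at this
  omega

theorem kerElem_surjective : Function.Surjective kerElem := by
  haveI : Finite pairHom.ker := inferInstance
  exact ((Nat.bijective_iff_injective_and_card kerElem).2
    ⟨kerElem_injective, by rw [Nat.card_fin, cent_check.2.2.2.2.2.2.2.2.1, card_pair.1]⟩).2

theorem map_fix {g : ℕ → ℕ} {l : List ℕ} (h : l.map g = l) (x : ℕ) (hx : x ∈ l) : g x = x :=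
  List.map_eq_map_iff.1 (h.trans (List.map_id' l).symm) x hx

theorem ker_pre :
    ∃ z : pairHom.ker, Invol.ExtraPairs.Pre 2 pairHom.ker z := by
  obtain ⟨hcomm, hsq, hcen, hz1, hz2⟩ := extra_check
  have hlen := cent_check.2.2.2.2.2.2.2.2.1
  let zk : pairHom.ker := kerElem ⟨0, by omega⟩
  have hzw : centreWord = kernelWords[0]'(by omega) := List.getD_eq_getElem _ _ _
  have hR : ∀ x : pairHom.ker, (x.1.1) ∈ rho.range := fun x => stab0_spec.1 x.1.2
  have toEq : ∀ x y : pairHom.ker,
      (∀ f (hf : f < 315), f ∈ detLines → x.1.1 ⟨f, hf⟩ = y.1.1 ⟨f, hf⟩) → x = y := fun x y h =>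
    Subtype.ext (Subtype.ext (eq_of_sig (hR x) (hR y) fun f hf hf' => h f hf' hf))
  have ev : ∀ (i : Fin kernelWords.length) (x : Fin 315),
      evalWord elemTabs kernelWords[(i : ℕ)] x = ((kerElem i).1.1 x : ℕ) := fun i x =>
    (wordPerm_mem (kernel_word (List.getElem_mem _))).2 x
  have ez : ∀ x : Fin 315, evalWord elemTabs centreWord x = (zk.1.1 x : ℕ) := fun x => by
    rw [hzw]; exact ev ⟨0, by omega⟩ x
  have hzne : zk ≠ 1 := by
    intro h
    have e : sigF centreWord = detLines := by
      have hid : ∀ f ∈ detLines, evalWord elemTabs centreWord f = f := fun f hf => by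
        have hf' : f < 315 := by simpa using List.all_eq_true.1 chain_check.2.2.1 f hf
        rw [ez ⟨f, hf'⟩, h]
        rfl
      rw [sigF, List.map_congr_left hid, List.map_id']
    rw [e, beq_self_eq_true] at hz1
    exact Bool.noConfusion hz1
  have hz_sq : zk ^ 2 = 1 := by
    refine toEq _ _ fun f hf hfd => Fin.ext ?_
    simp only [sig2, beq_iff_eq] at hz2
    have h : evalWord elemTabs centreWord (evalWord elemTabs centreWord f) = f :=
      map_fix hz2 f hfd
    rw [ez ⟨f, hf⟩, ez] at h
    rw [pow_two]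
    exact h
  have hord : orderOf zk = 2 := orderOf_eq_prime hz_sq hzne
  have hcen' : Subgroup.center pairHom.ker = Subgroup.zpowers zk := by
    refine le_antisymm (fun x hx => ?_) ?_
    · obtain ⟨i, rfl⟩ := kerElem_surjective x
      have h := List.all_eq_true.1 hcen _ (List.getElem_mem i.isLt)
      simp only [Bool.or_eq_true, beq_iff_eq, List.any_eq_true, Bool.not_eq_true', beq_eq_false_iff_ne] at h
      rcases h with (h | h) | ⟨v, hv, h⟩
      · have : kerElem i = 1 := toEq _ _ fun f hf hfd => Fin.ext (by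
          rw [← ev i ⟨f, hf⟩, map_fix h f hfd]
          rfl)
        rw [this]; exact one_mem _
      · have : kerElem i = zk := toEq _ _ fun f hf hfd => Fin.ext (by
          rw [← ev i ⟨f, hf⟩, ← ez ⟨f, hf⟩]
          exact List.map_eq_map_iff.1 h f hfd)
        rw [this]; exact Subgroup.mem_zpowers _
      · exfalso
        obtain ⟨j, hj, rfl⟩ := List.getElem_of_mem hv
        apply h
        refine List.map_congr_left fun f hfd => ?_
        have hf : f < 315 := by simpa using List.all_eq_true.1 chain_check.2.2.1 f hfd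
        have e := congrArg (fun x : pairHom.ker => (x.1.1 ⟨f, hf⟩ : ℕ))
          (Subgroup.mem_center_iff.1 hx (kerElem ⟨j, hj⟩))
        show evalWord _ _ (evalWord _ _ f) = evalWord _ _ (evalWord _ _ f)
        rw [ev ⟨j, hj⟩ ⟨f, hf⟩, ev i, ev i ⟨f, hf⟩, ev ⟨j, hj⟩]
        exact e.symm
    · rw [Subgroup.zpowers_le, Subgroup.mem_center_iff]
      intro g
      exact Subtype.ext (Subtype.ext (by
        show g.1.1 * zk.1.1 = zk.1.1 * g.1.1
        have hz : zk.1.1 = z0 := by rw [z0_eq, hzw]; rfl
        rw [hz]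
        exact (commute_iff (hR g)).2 g.1.2))
  refine ⟨zk, hord, hcen', fun a b => ?_, fun a => ?_⟩
  · obtain ⟨i, rfl⟩ := kerElem_surjective a
    obtain ⟨j, rfl⟩ := kerElem_surjective b
    have h := List.all_eq_true.1 (List.all_eq_true.1 hcomm _ (List.getElem_mem i.isLt)) _
      (List.getElem_mem j.isLt)
    simp only [Bool.or_eq_true, beq_iff_eq, sig2] at h
    rcases h with h | h
    · have : kerElem i * kerElem j = kerElem j * kerElem i := toEq _ _ fun f hf hfd => Fin.ext (by
        have := List.map_eq_map_iff.1 h f hfd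
        rw [ev j ⟨f, hf⟩, ev i, ev i ⟨f, hf⟩, ev j] at this
        exact this)
      rw [commutatorElement_eq_one_iff_mul_comm.2 this]
      exact one_mem _
    · have : kerElem i * kerElem j = zk * (kerElem j * kerElem i) := toEq _ _ fun f hf hfd => Fin.ext (by
        have := List.map_eq_map_iff.1 h f hfd
        rw [ev j ⟨f, hf⟩, ev i, ev i ⟨f, hf⟩, ev j, ez] at this
        exact this)
      have e : ⁅kerElem i, kerElem j⁆ = zk := by
        rw [commutatorElement_def, this]; group
      rw [e]; exact Subgroup.mem_zpowers _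
  · obtain ⟨i, rfl⟩ := kerElem_surjective a
    have h := List.all_eq_true.1 hsq _ (List.getElem_mem i.isLt)
    simp only [Bool.or_eq_true, beq_iff_eq, sig2, sigF] at h
    rcases h with h | h
    · have : kerElem i ^ 2 = 1 := toEq _ _ fun f hf hfd => Fin.ext (by
        have := map_fix h f hfd
        rw [ev i ⟨f, hf⟩, ev i] at this
        rw [pow_two]
        exact this)
      rw [this]; exact one_mem _
    · have : kerElem i ^ 2 = zk := toEq _ _ fun f hf hfd => Fin.ext (by
        have := List.map_eq_map_iff.1 h f hfd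
        rw [ev i ⟨f, hf⟩, ev i, ez ⟨f, hf⟩] at this
        rw [pow_two]
        exact this)
      rw [this]; exact Subgroup.mem_zpowers _

theorem ker_extraspecial : Cfsg.IsExtraspecial 2 pairHom.ker := by
  haveI := Fact.mk Nat.prime_two
  obtain ⟨z, hz⟩ := ker_pre
  exact hz.extraspecial (by rw [card_pair.1]; norm_num)

/-- Transport of the defining conditions along an isomorphism. -/
theorem pre_congr {A B : Type*} [Group A] [Group B] (e : A ≃* B) {z : A}
    (h : Invol.ExtraPairs.Pre 2 A z) : Invol.ExtraPairs.Pre 2 B (e z) := by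
  obtain ⟨ho, hc, hcm, hp⟩ := h
  have hz : Subgroup.zpowers (e z) = (Subgroup.zpowers z).map e.toMonoidHom :=
    (MonoidHom.map_zpowers e.toMonoidHom z).symm
  refine ⟨by rw [MulEquiv.orderOf_eq]; exact ho, ?_, fun a b => ?_, fun a => ?_⟩
  · ext x
    obtain ⟨a, rfl⟩ := e.surjective x
    rw [hz, ← hc, Subgroup.mem_center_iff, Subgroup.mem_map]
    constructor
    · intro hx
      exact ⟨a, Subgroup.mem_center_iff.2 fun g => e.injective (by simpa using hx (e g)), rfl⟩
    · rintro ⟨a', ha', he⟩ g
      obtain ⟨g, rfl⟩ := e.surjective g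
      obtain rfl : a' = a := e.injective he
      rw [← map_mul, ← map_mul, Subgroup.mem_center_iff.1 ha' g]
  · obtain ⟨a, rfl⟩ := e.surjective a
    obtain ⟨b, rfl⟩ := e.surjective b
    rw [← map_commutatorElement, hz]
    exact ⟨_, hcm a b, rfl⟩
  · obtain ⟨a, rfl⟩ := e.surjective a
    rw [← map_pow, hz]
    exact ⟨_, hp a, rfl⟩

/-- The centraliser statement for any group isomorphic to the stabiliser. -/
theorem centraliser_shape {C : Type*} [Group C] (e : C ≃* stab0) :
    ∃ (Q : Subgroup C) (_ : Q.Normal), Nat.card Q = 32 ∧ Cfsg.IsExtraspecial 2 Q ∧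
      Nonempty (C ⧸ Q ≃* alternatingGroup (Fin 5)) := by
  haveI := Fact.mk Nat.prime_two
  haveI : Finite C := Finite.of_equiv _ e.symm.toEquiv
  let φ : C →* Equiv.Perm (Fin 5) := pairHom.comp e.toMonoidHom
  have hmap : φ.ker.map e.toMonoidHom = pairHom.ker := by
    rw [← MonoidHom.comap_ker]
    exact Subgroup.map_comap_eq_self_of_surjective e.surjective _
  let eq : φ.ker ≃* pairHom.ker := (e.subgroupMap φ.ker).trans (MulEquiv.subgroupCongr hmap)
  have hcard : Nat.card φ.ker = 32 := by rw [Nat.card_congr eq.toEquiv]; exact card_pair.1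
  refine ⟨φ.ker, inferInstance, hcard, ?_, ⟨?_⟩⟩
  · obtain ⟨z, hz⟩ := ker_pre
    exact (pre_congr eq.symm hz).extraspecial (by rw [hcard]; norm_num)
  · have hrange : φ.range = alternatingGroup (Fin 5) := by
      rw [MonoidHom.range_comp, MonoidHom.range_eq_top.2 e.surjective, ← MonoidHom.range_eq_map,
        range_pairHom]
    exact (QuotientGroup.quotientKerEquivRange φ).trans (MulEquiv.subgroupCongr hrange)

theorem exists_iso (f : Equiv.Perm icoLeech) (hf : IsIcoReflection f) (hfm : f ∈ twoJ2) :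
    Nonempty (Subgroup.centralizer {(QuotientGroup.mk ⟨f, hfm⟩ : J2)} ≃* stab0) := by
  obtain ⟨i, rfl⟩ := exists_lineRefl hf
  obtain ⟨g, hg⟩ := exists_rho_eq i 0
  set x : J2 := QuotientGroup.mk ⟨lineRefl i, hfm⟩ with hx
  let e : J2 ≃* rho.range := j2Equiv.trans (MulAut.conj ⟨rho g, g, rfl⟩)
  let φ : J2 →* Equiv.Perm (Fin 315) := rho.range.subtype.comp e.toMonoidHom
  have hφ : Function.Injective φ := Subtype.val_injective.comp e.injective
  have hex : φ x = z0 := by
    have hval : φ x = rho g * rho ⟨lineRefl i, hfm⟩ * (rho g)⁻¹ := rfl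
    rw [hval, ← map_inv, ← map_mul, ← map_mul, show (⟨lineRefl i, hfm⟩ : twoJ2) = refl2 i from rfl,
      conj_refl2, hg]
    rfl
  have hmem : ∀ y : J2, φ y ∈ rho.range := fun y => (e y).2
  have hmap : (Subgroup.centralizer {x}).map φ = stab0 := by
    ext p
    constructor
    · rintro ⟨y, hy, rfl⟩
      rw [← commute_iff (hmem y), ← hex, ← map_mul, ← map_mul]
      rw [Subgroup.mem_centralizer_singleton_iff.1 hy]
    · intro hp
      have hpR := stab0_spec.1 hp
      have hp' : φ (e.symm ⟨p, hpR⟩) = p := congrArg Subtype.val (e.apply_symm_apply ⟨p, hpR⟩)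
      refine ⟨e.symm ⟨p, hpR⟩, Subgroup.mem_centralizer_singleton_iff.2 (hφ ?_), hp'⟩
      rw [map_mul, map_mul, hp', hex]
      exact (commute_iff hpR).2 hp
  exact ⟨((Subgroup.centralizer {x}).equivMapOfInjective φ hφ).trans (MulEquiv.subgroupCongr hmap)⟩

end Cfsg.Agent.Icosian
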