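import Cfsg.Agent.Lib.Icosian.Chain

/-!
The order of the group generated by some permutations, from tables and a chain.
-/

set_option autoImplicit false

namespace Cfsg.Agent.Icosian.Cert

/-- The checks on a certificate: table `m + j` is a product of two earlier tables, and the chain
is correct. -/
def groupCheck (n m : ℕ) (tabs : List ℕ) (steps : List (ℕ × ℕ)) (lv : List Level) : Bool :=
  Nat.ble m tabs.length &&
    ((List.range tabs.length).all fun k => Nat.blt k m ||
      let s := steps.getD (k - m) (0, 0)
      Nat.blt s.1 k && Nat.blt s.2 k && (List.range n).all fun x =>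
        fapp (tabs.getD k 0) x == fapp (tabs.getD s.1 0) (fapp (tabs.getD s.2 0) x)) &&
    (List.range m).all (fun k => (headGens lv).contains k) &&
    chainCheck n tabs (List.range n) lv []

theorem card_closure {n : ℕ} (gens : List (Equiv.Perm (Fin n))) {tabs : List ℕ}
    {steps : List (ℕ × ℕ)} {lv : List Level}
    (hgen : ∀ (k : ℕ) (hk : k < gens.length) (i : Fin n), fapp (tabs.getD k 0) i = (gens[k] i : ℕ))
    (hok : groupCheck n gens.length tabs steps lv = true) :
    Nat.card (Subgroup.closure {x | x ∈ gens}) = orderOfChain lv := by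
  classical
  set K := Subgroup.closure {x : Equiv.Perm (Fin n) | x ∈ gens} with hK
  simp only [groupCheck, Bool.and_eq_true, Nat.ble_eq, List.all_eq_true, List.mem_range,
    Bool.or_eq_true, Nat.blt_eq, beq_iff_eq, List.contains_iff_mem] at hok
  obtain ⟨⟨⟨hm, hsteps⟩, htop⟩, hchain⟩ := hok
  have hrep : ∀ k < tabs.length, ∃ s ∈ K, ∀ i : Fin n, fapp (tabs.getD k 0) i = (s i : ℕ) := by
    intro k
    induction k using Nat.strong_induction_on with
    | _ k ih =>
      intro hk
      by_cases hkm : k < gens.length
      · exact ⟨gens[k], Subgroup.subset_closure (List.getElem_mem hkm), hgen k hkm⟩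
      · obtain ⟨⟨hg, hi⟩, he⟩ := (hsteps k hk).resolve_left hkm
        obtain ⟨s, hs, hse⟩ := ih _ hi (by omega)
        obtain ⟨r, hr, hre⟩ := ih _ hg (by omega)
        refine ⟨r * s, mul_mem hr hs, fun i => ?_⟩
        rw [he i i.isLt, hse, hre, Equiv.Perm.mul_apply]
  let σ : ℕ → Equiv.Perm (Fin n) := fun k => if h : k < tabs.length then (hrep k h).choose else 1
  have hσ : ∀ k < tabs.length, σ k ∈ K ∧ ∀ i : Fin n, fapp (tabs.getD k 0) i = (σ k i : ℕ) := by
    intro k hk
    simp only [σ, dif_pos hk]
    exact (hrep k hk).choose_spec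
  obtain ⟨a, -, -, c⟩ := chainCheck_spec (σ := σ) hσ
    (fun g _ h _ H => Equiv.ext fun i => H i (List.mem_range.2 i.isLt))
    (fun f hf => List.mem_range.1 hf) lv [] hchain
  refine (le_antisymm a ?_ ▸ c :)
  rw [hK, Subgroup.closure_le]
  intro x hx
  obtain ⟨k, hk, rfl⟩ := List.getElem_of_mem hx
  have : σ k = gens[k] := Equiv.ext fun i =>
    Fin.ext (((hσ k (by omega)).2 i).symm.trans (hgen k hk i))
  rw [← this]
  exact gen_mem (htop k hk)

end Cfsg.Agent.Icosian.Cert
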