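import Mathlib

/-!
A certificate checker for the order of a permutation group on `n` points given by packed tables.
-/

set_option autoImplicit false

namespace Cfsg.Agent.Icosian.Cert

/-- A field of a table (9 bit fields). -/
def fapp (p i : ℕ) : ℕ := Nat.land (Nat.shiftRight p (9 * i)) 511

/-- One level of a stabiliser chain with its sifting certificates. -/
structure Level where
  base : ℕ
  gens : List ℕ
  tree : List (ℕ × ℕ × ℕ × ℕ)
  res : List (List (List ℕ))

/-- The element of an entry of a tree. -/
def elemOf (e : ℕ × ℕ × ℕ × ℕ) : ℕ := e.2.1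

/-- Apply a word of elements. -/
def evalWord (tabs : List ℕ) : List ℕ → ℕ → ℕ
  | [], x => x
  | t :: l, x => fapp (tabs.getD t 0) (evalWord tabs l x)

/-- The generators of the first level. -/
def headGens : List Level → List ℕ
  | [] => []
  | L :: _ => L.gens

/-- The elements of all levels. -/
def allElems : List Level → List ℕ
  | [] => []
  | L :: rest => L.tree.map elemOf ++ allElems rest

/-- The tree of a level is correct. -/
def treeCheck (tabs det : List ℕ) (L : Level) : Bool :=
  (match L.tree with
    | [] => false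
    | e :: _ => det.all fun f => fapp (tabs.getD (elemOf e) 0) f == f) &&
  (List.range L.tree.length).all fun k =>
    let e := L.tree.getD k (0, 0, 0, 0)
    Nat.blt (elemOf e) tabs.length && fapp (tabs.getD (elemOf e) 0) L.base == e.1 &&
      ((k == 0) || Nat.blt e.2.2.1 k && L.gens.contains e.2.2.2 &&
        det.all fun f => fapp (tabs.getD (elemOf e) 0) f ==
          fapp (tabs.getD e.2.2.2 0) (fapp (tabs.getD (elemOf (L.tree.getD e.2.2.1 (0, 0, 0, 0))) 0) f))

/-- The sifting certificates of a level are correct. -/
def resCheck (tabs det : List ℕ) (L : Level) (below : List ℕ) : Bool :=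
  (List.range L.tree.length).all fun k =>
    (List.range L.gens.length).all fun j =>
      match (L.res.getD k []).getD j [] with
      | [] => false
      | t :: ws => (L.tree.map elemOf).contains t && ws.all (fun u => below.contains u) &&
          det.all fun f => evalWord tabs (t :: ws) f ==
            fapp (tabs.getD (L.gens.getD j 0) 0)
              (fapp (tabs.getD (elemOf (L.tree.getD k (0, 0, 0, 0))) 0) f)

/-- All checks on a chain. -/
def chainCheck (n : ℕ) (tabs det : List ℕ) : List Level → List ℕ → Bool
  | [], _ => true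
  | L :: rest, fixd =>
    Nat.blt L.base n && L.gens.all (fun g => Nat.blt g tabs.length &&
        fixd.all fun x => fapp (tabs.getD g 0) x == x) &&
      decide (L.tree.map (fun e => e.1)).Nodup && treeCheck tabs det L &&
      (headGens rest).all (fun g => L.gens.contains g) &&
      resCheck tabs det L (allElems rest) && chainCheck n tabs det rest (fixd ++ [L.base])

/-- The product of the orbit lengths. -/
def orderOfChain : List Level → ℕ
  | [] => 1
  | L :: rest => L.tree.length * orderOfChain rest

variable {n : ℕ} {tabs det : List ℕ} {H : Subgroup (Equiv.Perm (Fin n))}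
  {σ : ℕ → Equiv.Perm (Fin n)}

/-- The group generated by listed elements. -/
def genGroup (σ : ℕ → Equiv.Perm (Fin n)) (l : List ℕ) : Subgroup (Equiv.Perm (Fin n)) :=
  Subgroup.closure {x | ∃ k ∈ l, σ k = x}

theorem gen_mem {l : List ℕ} {k : ℕ} (h : k ∈ l) : σ k ∈ genGroup σ l :=
  Subgroup.subset_closure ⟨k, h, rfl⟩

variable (hσ : ∀ k < tabs.length, σ k ∈ H ∧ ∀ i : Fin n, fapp (tabs.getD k 0) i = (σ k i : ℕ))
  (hdet : ∀ g ∈ H, ∀ h ∈ H, (∀ f : Fin n, (f : ℕ) ∈ det → g f = h f) → g = h)
  (hlt : ∀ f ∈ det, f < n)

include hσ hdet hlt in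
theorem chainCheck_spec : ∀ (lv : List Level) (fixd : List ℕ),
    chainCheck n tabs det lv fixd = true →
    genGroup σ (headGens lv) ≤ H ∧
    (∀ k ∈ allElems lv, k < tabs.length ∧ σ k ∈ genGroup σ (headGens lv)) ∧
    (∀ g ∈ genGroup σ (headGens lv), ∀ x : Fin n, (x : ℕ) ∈ fixd → g x = x) ∧
    Nat.card (genGroup σ (headGens lv)) = orderOfChain lv := by
  intro lv
  induction lv with
  | nil =>
    intro fixd _
    have hb : genGroup σ (headGens []) = ⊥ := by
      rw [genGroup, Subgroup.closure_eq_bot_iff]
      rintro x ⟨k, hk, -⟩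
      simp [headGens] at hk
    refine ⟨by rw [hb]; exact bot_le, by simp [allElems], ?_, ?_⟩
    · intro g hg x _
      rw [hb, Subgroup.mem_bot] at hg
      rw [hg]; rfl
    · rw [hb, Subgroup.card_bot]; rfl
  | cons L rest ih =>
    intro fixd hok
    simp only [chainCheck, Bool.and_eq_true, Nat.blt_eq, List.all_eq_true, decide_eq_true_eq,
      beq_iff_eq, List.contains_iff_mem] at hok
    obtain ⟨⟨⟨⟨⟨⟨hb, hgens⟩, hnd⟩, htree⟩, hsub⟩, hres⟩, hrest⟩ := hok
    obtain ⟨ihH, ihE, ihF, ihC⟩ := ih _ hrest
    set G := genGroup σ (headGens (L :: rest)) with hG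
    have hGH : G ≤ H := by
      rw [hG, genGroup, Subgroup.closure_le]
      rintro _ ⟨k, hk, rfl⟩
      exact (hσ k (hgens k hk).1).1
    have hG' : genGroup σ (headGens rest) ≤ G := by
      rw [genGroup, Subgroup.closure_le]
      rintro _ ⟨k, hk, rfl⟩
      exact gen_mem (hsub k hk)
    have hfix : ∀ g ∈ G, ∀ x : Fin n, (x : ℕ) ∈ fixd → g x = x := by
      intro g hg
      refine Subgroup.closure_induction (fun y hy => ?_) (fun x _ => rfl) (fun a b _ _ iha ihb x hx => ?_)
        (fun a _ iha x hx => ?_) hg
      · obtain ⟨k, hk, rfl⟩ := hy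
        intro x hx
        exact Fin.ext (((hσ k (hgens k hk).1).2 x).symm.trans ((hgens k hk).2 _ hx))
      · rw [Equiv.Perm.mul_apply, ihb x hx, iha x hx]
      · conv_lhs => rw [← iha x hx]
        rw [Equiv.Perm.coe_inv, Equiv.symm_apply_apply]
    simp only [treeCheck, Bool.and_eq_true, List.all_eq_true, List.mem_range, Nat.blt_eq,
      beq_iff_eq, Bool.or_eq_true, List.contains_iff_mem] at htree
    obtain ⟨hhead, htr⟩ := htree
    set e : ℕ → ℕ := fun k => elemOf (L.tree.getD k (0, 0, 0, 0)) with he
    have hpos : 0 < L.tree.length := by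
      cases htl : L.tree with
      | nil => simp [htl] at hhead
      | cons a l => simp
    have hzero : ∀ f ∈ det, fapp (tabs.getD (e 0) 0) f = f := by
      revert hhead
      rw [he]
      cases L.tree with
      | nil => simp
      | cons a l =>
        intro hh f hf
        simp only [List.all_eq_true, beq_iff_eq] at hh
        exact hh f hf
    have h0 : σ (e 0) = 1 := by
      refine hdet _ (hσ _ (htr 0 hpos).1.1).1 _ H.one_mem fun f hf => Fin.ext ?_
      exact ((hσ _ (htr 0 hpos).1.1).2 f).symm.trans (hzero _ hf)
    have htrans : ∀ k < L.tree.length, σ (e k) ∈ G := by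
      intro k
      induction k using Nat.strong_induction_on with
      | _ k ihk =>
        intro hk
        obtain ⟨⟨hlen, -⟩, hcase⟩ := htr k hk
        rcases hcase with rfl | ⟨⟨hpar, hs⟩, hF⟩
        · rw [h0]; exact G.one_mem
        · have hp := ihk _ hpar (by omega)
          have hplen : e (L.tree.getD k (0, 0, 0, 0)).2.2.1 < tabs.length :=
            (htr _ (by omega)).1.1
          have : σ (e k) = σ (L.tree.getD k (0, 0, 0, 0)).2.2.2 *
              σ (e (L.tree.getD k (0, 0, 0, 0)).2.2.1) := by
            refine hdet _ (hσ _ hlen).1 _ (hGH (G.mul_mem (gen_mem hs) hp)) fun f hf => Fin.ext ?_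
            rw [Equiv.Perm.mul_apply, ← (hσ _ hlen).2 f, hF _ hf, ← (hσ _ (hgens _ hs).1).2,
              ← (hσ _ hplen).2]
          rw [this]; exact G.mul_mem (gen_mem hs) hp
    have hmemE : ∀ t ∈ L.tree.map elemOf, ∃ k < L.tree.length, e k = t := by
      intro t ht
      obtain ⟨a, ha, rfl⟩ := List.mem_map.1 ht
      obtain ⟨k, hk, rfl⟩ := List.getElem_of_mem ha
      exact ⟨k, hk, by rw [he]; simp only [List.getD_eq_getElem _ _ hk]⟩
    have hall : ∀ k ∈ allElems (L :: rest), k < tabs.length ∧ σ k ∈ G := by
      intro t ht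
      rcases List.mem_append.1 ht with h | h
      · obtain ⟨k, hk, rfl⟩ := hmemE t h
        exact ⟨(htr k hk).1.1, htrans k hk⟩
      · exact ⟨(ihE t h).1, hG' (ihE t h).2⟩
    refine ⟨hGH, hall, hfix, ?_⟩
    let bb : Fin n := ⟨L.base, hb⟩
    set G' := genGroup σ (headGens rest) with hG'def
    let m : Fin L.tree.length × G' → Equiv.Perm (Fin n) := fun p => σ (e p.1) * p.2
    have himg : ∀ k : Fin L.tree.length, ((σ (e k) bb : Fin n) : ℕ) = (L.tree.getD k (0, 0, 0, 0)).1 :=
      fun k => ((hσ _ (htr k k.isLt).1.1).2 bb).symm.trans (htr k k.isLt).1.2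
    have hinj : Function.Injective m := by
      rintro ⟨k, g⟩ ⟨k', g'⟩ h
      simp only [m] at h
      have h1 := congrArg (fun p : Equiv.Perm (Fin n) => p bb) h
      simp only [Equiv.Perm.mul_apply, ihF g g.2 bb (by simp [bb]),
        ihF g' g'.2 bb (by simp [bb])] at h1
      have h2 := congrArg Fin.val h1
      rw [himg, himg] at h2
      have hkk : k = k' := by
        have hl : ∀ k : Fin L.tree.length, (L.tree.getD k (0, 0, 0, 0)).1 =
            (L.tree.map fun a => a.1)[(k : ℕ)]'(by simp) := fun k => by
          simp [List.getD_eq_getElem _ _ k.isLt]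
        rw [hl, hl] at h2
        exact Fin.ext ((hnd.getElem_inj_iff).1 h2)
      subst hkk
      simp only [mul_right_inj] at h
      rw [Subtype.ext h]
    have hrange : Set.range m = (G : Set (Equiv.Perm (Fin n))) := by
      refine subset_antisymm ?_ ?_
      · rintro _ ⟨⟨k, g⟩, rfl⟩
        exact G.mul_mem (htrans k k.isLt) (hG' g.2)
      · have hcl : ∀ x ∈ ({x | ∃ k ∈ L.gens, σ k = x} : Set (Equiv.Perm (Fin n))),
            ∀ y ∈ Set.range m, x * y ∈ Set.range m := by
          rintro _ ⟨s, hs, rfl⟩ _ ⟨⟨k, g⟩, rfl⟩
          simp only [resCheck, List.all_eq_true, List.mem_range] at hres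
          obtain ⟨j, hj, rfl⟩ := List.getElem_of_mem hs
          have hr := hres k k.isLt j hj
          revert hr
          cases hw : (L.res.getD k []).getD j [] with
          | nil => simp
          | cons t ws =>
            intro hr
            simp only [Bool.and_eq_true, List.contains_iff_mem, List.all_eq_true, beq_iff_eq] at hr
            obtain ⟨⟨ht, hws⟩, hF⟩ := hr
            obtain ⟨k', hk', rfl⟩ := hmemE t ht
            have hword : ∀ us : List ℕ, (∀ u ∈ us, u ∈ allElems rest) →
                ∃ g' ∈ G', ∀ x : Fin n, evalWord tabs us x = (g' x : ℕ) := by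
              intro us
              induction us with
              | nil => intro _; exact ⟨1, G'.one_mem, fun x => rfl⟩
              | cons u us ihu =>
                intro h
                obtain ⟨g', hg', he'⟩ := ihu fun v hv => h v (List.mem_cons_of_mem _ hv)
                obtain ⟨hul, hum⟩ := ihE u (h u List.mem_cons_self)
                refine ⟨σ u * g', G'.mul_mem hum hg', fun x => ?_⟩
                rw [evalWord, he', (hσ u hul).2, Equiv.Perm.mul_apply]
            obtain ⟨g', hg', he'⟩ := hword ws hws
            refine ⟨⟨⟨k', hk'⟩, ⟨g', hg'⟩ * g⟩, ?_⟩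
            have hs' : L.gens[j] < tabs.length := (hgens _ (List.getElem_mem hj)).1
            have key : σ (e k') * g' = σ L.gens[j] * σ (e k) := by
              refine hdet _ (hGH (G.mul_mem (htrans k' hk') (hG' hg'))) _
                (hGH (G.mul_mem (gen_mem (l := L.gens) (List.getElem_mem hj)) (htrans k k.isLt)))
                fun f hf => Fin.ext ?_
              rw [Equiv.Perm.mul_apply, Equiv.Perm.mul_apply,
                ← (hσ _ (htr k' hk').1.1).2 (g' f), ← he', ← (hσ _ hs').2,
                ← (hσ _ (htr k k.isLt).1.1).2 f]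
              have := hF _ hf
              rw [evalWord, List.getD_eq_getElem _ _ hj] at this
              exact this
            simp only [m, Subgroup.coe_mul]
            rw [← mul_assoc, key, mul_assoc]
        have hone : (1 : Equiv.Perm (Fin n)) ∈ Set.range m := ⟨⟨⟨0, hpos⟩, 1⟩, by simp [m, h0]⟩
        intro x hx
        have hxm : x ∈ Submonoid.closure ({x | ∃ k ∈ L.gens, σ k = x} : Set (Equiv.Perm (Fin n))) := by
          rw [← Subgroup.closure_toSubmonoid_of_finite]
          exact hx
        refine Submonoid.closure_induction_left (motive := fun x _ => x ∈ Set.range m) hone ?_ hxm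
        intro s hs y _ ihy
        exact hcl s hs y ihy
    calc Nat.card G = (Set.range m).ncard := by rw [hrange, ← Nat.card_coe_set_eq]; rfl
      _ = Nat.card (Fin L.tree.length × G') := Set.ncard_range_of_injective hinj
      _ = _ := by rw [Nat.card_prod, Nat.card_fin, ihC, orderOfChain]

end Cfsg.Agent.Icosian.Cert
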