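import Cfsg.Agent.Lib.Icosian.EnumData

/-!
The kernel-checked enumeration: every short vector of the icosian Leech lattice is a unit multiple
of one of 315 listed vectors.
-/

set_option autoImplicit false
set_option maxRecDepth 100000

namespace Cfsg.Agent.Icosian.Enum

open Qz

/-- A field of a packed code, shifted to be centred at 0. -/
def fld (n i : ℕ) : ℤ :=
  (Nat.cast (Nat.land (Nat.shiftRight n (4 * i)) 15) : ℤ) - 8

/-- Decode a packed quaternion. -/
def dec (n : ℕ) : Qz :=
  ⟨fld n 0, fld n 1, fld n 2, fld n 3, fld n 4, fld n 5, fld n 6, fld n 7⟩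

/-- A packed number from four components. -/
def code4 (a b c d : ℤ) : ℕ :=
  (a + 8).toNat + 16 * ((b + 8).toNat + 16 * ((c + 8).toNat + 16 * (d + 8).toNat))

/-- Encode a quaternion. -/
def code (p : Qz) : ℕ :=
  code4 p.c0 p.d0 p.c1 p.d1 + 65536 * code4 p.c2 p.d2 p.c3 p.d3

/-- Equality test. -/
def qeq (p q : Qz) : Bool :=
  p.c0 == q.c0 && p.d0 == q.d0 && p.c1 == q.c1 && p.d1 == q.d1 && p.c2 == q.c2 && p.d2 == q.d2 &&
    p.c3 == q.c3 && p.d3 == q.d3

theorem qeq_iff {p q : Qz} : qeq p q = true ↔ p = q := by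
  cases p; cases q; simp [qeq, and_assoc]

/-- The sum of the squares of the components. -/
def ssq (p : Qz) : ℤ :=
  p.c0 * p.c0 + p.d0 * p.d0 + p.c1 * p.c1 + p.d1 * p.d1 + p.c2 * p.c2 + p.d2 * p.d2 +
    p.c3 * p.c3 + p.d3 * p.d3

/-- Four times the `τ` part of the norm. -/
def tb (p : Qz) : ℤ :=
  2 * p.c0 * p.d0 + p.d0 * p.d0 + (2 * p.c1 * p.d1 + p.d1 * p.d1) +
    (2 * p.c2 * p.d2 + p.d2 * p.d2) + (2 * p.c3 * p.d3 + p.d3 * p.d3)

/-- All pairs occurring as `(ssq, tb)` for icosians with `ssq ≤ 16`. -/
def allNorms : List (ℤ × ℤ) :=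
  [(0, 0), (4, 0), (4, 4), (8, -4), (8, 0), (8, 4), (8, 8), (8, 12), (12, -4), (12, 0), (12, 4),
    (12, 8), (12, 12), (12, 16), (16, -8), (16, -4), (16, 0), (16, 4), (16, 8), (16, 12), (16, 16),
    (16, 20), (16, 24)]

/-- The pairs that occur in short vectors. -/
def relevant (p : Qz) : Bool :=
  [((0 : ℤ), (0 : ℤ)), (4, 0), (4, 4), (8, -4), (8, 0), (8, 4), (12, -4), (12, 0), (16, 0)].any
    fun e => e.1 == ssq p && e.2 == tb p

/-- A bit of a class. -/
def cbit (v : ℤ) : ℕ := if v % 4 == 0 then 0 else 1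

/-- The class modulo `I h` as an index. -/
def clsH (p : Qz) : ℕ :=
  cbit (lf 3 2 3 0 1 0 1 0 p) + 2 * cbit (lf 1 1 3 1 1 1 1 1 p) +
    4 * cbit (lf 3 0 3 2 1 0 1 0 p) + 8 * cbit (lf 3 1 1 1 1 1 1 1 p)

/-- The class modulo `I h̄` as an index. -/
def clsHb (p : Qz) : ℕ :=
  cbit (lf 2 3 3 0 0 0 1 1 p) + 2 * cbit (lf 3 3 0 2 1 0 0 1 p) +
    4 * cbit (lf 1 3 1 1 1 1 1 1 p) + 8 * cbit (lf 3 2 2 2 0 1 1 1 p)

/-- The table entries in a pair of classes. -/
def tget (i j : ℕ) : List ℕ := (tabs.getD i []).getD j []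

/-- The parity index of four integers. -/
def pidx (a b c d : ℤ) : ℕ :=
  (a % 2).toNat + 2 * (b % 2).toNat + 4 * (c % 2).toNat + 8 * (d % 2).toNat

/-- The integers in `[-4, 4]`. -/
def rng : List ℤ := [-4, -3, -2, -1, 0, 1, 2, 3, 4]

/-- The square length of four integers. -/
def sq4 (a b c d : ℤ) : ℤ := a * a + b * b + c * c + d * d

/-- The checks for one short icosian. -/
def pointOk (p : Qz) : Bool :=
  allNorms.any (fun e => e.1 == ssq p && e.2 == tb p) &&
    (!relevant p ||
      (qeq (dec (code p)) p &&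
        (tget (clsH p) (clsHb p)).any fun e => Nat.land e 4294967295 == code p))

/-- The buckets contain every short half. -/
def bucketsOk (a : ℤ) : Bool :=
  rng.all fun b => rng.all fun c => rng.all fun d =>
    !decide (sq4 a b c d ≤ 16) ||
      (bucketCodes.getD (pidx a b c d) []).any fun g =>
        fld g 0 == a && fld g 1 == b && fld g 2 == c && fld g 3 == d

/-- All rows with first entry `a`. -/
def sliceOk (a : ℤ) : Bool :=
  rng.all fun b => rng.all fun c => rng.all fun d =>
    !decide (sq4 a b c d ≤ 16) ||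
      (bucketCodes.getD (pidx (b + c + d) (a + b + c) (a + b + d) (a + c + d)) []).all fun g =>
        !decide (sq4 a b c d + sq4 (fld g 0) (fld g 1) (fld g 2) (fld g 3) ≤ 16) ||
          pointOk ⟨a, b, c, d, fld g 0, fld g 1, fld g 2, fld g 3⟩

theorem buckets_check : rng.all bucketsOk = true := by decide +kernel

theorem slices_check : rng.all sliceOk = true := by decide +kernel

/-- The units. -/
def units : List Qz := unitCodes.map dec

/-- Orbit representatives. -/
def classes : List Qz := classCodes.map dec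

/-- A table entry carries a unit moving it to a representative. -/
def entryOk (e : ℕ) : Bool :=
  qeq (dec e) Qz.zero ||
    qeq (mul (units.getD (Nat.land (Nat.shiftRight e 32) 127) Qz.zero) (dec e))
      (classes.getD (Nat.shiftRight e 39) Qz.zero) && Nat.blt (Nat.shiftRight e 39) classes.length &&
      Nat.blt (Nat.land (Nat.shiftRight e 32) 127) units.length

theorem entries_check : (tabs.all fun r => r.all fun l => l.all entryOk) = true := by
  decide +kernel

/-- The unit multiple of a triple. -/
def smulV (u : Qz) (v : V3) : V3 := ⟨mul u v.x, mul u v.y, mul u v.z⟩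

/-- Decode a line code. -/
def decV (n : ℕ) : V3 := ⟨dec n, dec (Nat.shiftRight n 32), dec (Nat.shiftRight n 64)⟩

/-- The 315 line representatives. -/
def lines : List V3 := lineCodes.map decV

/-- Norm conditions on a triple. -/
def shortB (x y z : Qz) : Bool := ssq x + ssq y + ssq z == 16 && tb x + tb y + tb z == 0

/-- Candidates whose first non-zero coordinate is the first one. -/
def cand0 : List V3 :=
  classes.flatMap fun x =>
    (List.range 16).flatMap fun j =>
      (tget (clsH x) j).flatMap fun e =>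
        ((tget (clsH x) (Nat.xor (clsHb x) j)).filter fun f => shortB x (dec e) (dec f)).map
          fun f => ⟨x, dec e, dec f⟩

/-- Candidates with first coordinate zero and second not. -/
def cand1 : List V3 :=
  classes.flatMap fun y =>
    if clsH y == 0 then
      ((tget 0 (clsHb y)).filter fun f => shortB Qz.zero y (dec f)).map
        fun f => ⟨Qz.zero, y, dec f⟩
    else []

/-- Candidates with first two coordinates zero. -/
def cand2 : List V3 :=
  (classes.filter fun z => clsH z == 0 && clsHb z == 0 && shortB Qz.zero Qz.zero z).map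
    fun z => ⟨Qz.zero, Qz.zero, z⟩

theorem lines_check : cand0 ++ cand1 ++ cand2 = lines := by decide +kernel

end Cfsg.Agent.Icosian.Enum
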