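import Cfsg.Agent.Lib.Icosian.OuterCheck

/-!
Kernel checks for the 2-fusion system of the Hall–Janko group.
-/

set_option autoImplicit false
set_option maxRecDepth 100000

namespace Cfsg.Agent.Icosian.TwoFusion

open Cert Outer

/-- The word of an element of the Sylow subgroup. -/
def sw (i : ℕ) : List ℕ := sylWords.getD i []

/-- A representative of a permutation of the five pairs. -/
def rw0 (k : ℕ) : List ℕ := (imageWords.getD k ([], [])).1

/-- A 2-element of the centraliser of the central reflection. -/
def aWord : List ℕ := rw0 12

/-- A second 2-element. -/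
def bWord : List ℕ := rw0 13

/-- Their product normalizes the Sylow subgroup. -/
def uWord : List ℕ := aWord ++ bWord

/-- The twelve cosets in the normalizer, as a power of `uWord` and an element of the Sylow subgroup. -/
def cosetData : List (ℕ × ℕ) := [(0, 0), (2, 33), (1, 24), (0, 123), (1, 1), (2, 51), (2, 114), (1, 99),
  (0, 61), (1, 32), (2, 122), (0, 102)]

/-- A derivation: a product of two known elements (`true`, a, b, c), or the conjugate of a known element
`a` by the element `b` (`false`, a, b, c). -/
def closeData : List (Bool × ℕ × ℕ × ℕ) := [(false, 17, 10, 31), (false, 31, 15, 75), (true, 17, 75, 9),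
  (true, 31, 9, 4), (false, 17, 28, 40), (true, 17, 40, 96), (true, 31, 40, 59), (false, 96, 34, 36),
  (false, 59, 49, 78), (false, 78, 19, 28), (true, 17, 28, 22), (true, 31, 28, 54), (true, 31, 22, 66),
  (true, 75, 28, 38), (true, 75, 66, 61), (true, 40, 38, 65), (true, 40, 61, 1), (true, 36, 54, 119),
  (true, 36, 65, 113), (true, 78, 119, 3), (true, 78, 113, 2)]

/-- A correct derivation from a list of known elements, ending at the elements 1, 2, 3 and 4. -/
def derives : List ℕ → List (Bool × ℕ × ℕ × ℕ) → Bool
  | known, [] => [1, 2, 3, 4].all fun g => known.contains g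
  | known, (m, a, b, c) :: rest =>
    Nat.blt c 128 && known.contains a && (if m then known.contains b && sigF (sw a ++ sw b) == sigF (sw c)
      else Nat.blt b elemTabs.length && sigF ([b] ++ sw a) == sigF (sw c ++ [b])) &&
      derives (c :: known) rest

theorem centre_check :
    (kernelWords.all fun w => sylWords.any fun v => sigF w == sigF v) = true ∧
    (sigF (sw 17) == sigF centreWord) = true ∧
    ((List.range 4).all fun g => sigF (sylGens.getD g []) == sigF (sw (g + 1))) = true ∧
    ((List.range 128).all fun i => sigF (sw i) == detLines || sigF (sw i) == sigF centreWord ||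
      sylGens.any fun g => !(sigF (g ++ sw i) == sigF (sw i ++ g))) = true ∧
    ((List.range 128).all fun i => (kernelWords.any fun v => sigF (sw i) == sigF v) ||
      kernelWords.any fun v => !(sigF (v ++ sw i) == sigF (sw i ++ v))) = true := by
  decide +kernel

theorem normalizer_check :
    (sylGens.all fun g => sylWords.any fun v => sigF (uWord ++ g) == sigF (v ++ uWord)) = true ∧
    (sigF (wpow aWord 8) == detLines) = true ∧ (sigF (wpow bWord 8) == detLines) = true ∧
    ((List.range 12).all fun k => Nat.blt (cosetData.getD k (0, 0)).2 128 &&
      sigF (rw0 k) == sigF (wpow uWord (cosetData.getD k (0, 0)).1 ++ sw (cosetData.getD k (0, 0)).2)) = true ∧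
    ((List.range 60).all fun k => Nat.blt k 12 ||
      sylWords.all fun v => !(sigF (rw0 k ++ sylGens.getD 0 []) == sigF (v ++ rw0 k))) = true := by
  decide +kernel

theorem close_check : derives [17] closeData = true := by decide +kernel

end Cfsg.Agent.Icosian.TwoFusion
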