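import Cfsg.Agent.Lib.Icosian.Outer
import Cfsg.Agent.Lib.Icosian.FusionTwoCheck
import Cfsg.Agent.Lib.Fusion.SimpleGroupTransport

/-!
The 2-fusion system of the Hall–Janko group is simple.
-/

set_option autoImplicit false
set_option maxRecDepth 100000

namespace Cfsg.Agent.Icosian.TwoFusion

open Cert Outer Cfsg.Agent.Fusion
open Cfsg.FusionSystem (centralizerIn)

/-- The Sylow 2-subgroup inside the group on lines. -/
noncomputable def syl2 : Subgroup R := syl.subgroupOf R

theorem sw_tail (i : ℕ) : ∀ k ∈ sw i, k ∈ allElems levelData.tail := syl_word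

theorem sw_lt (i : ℕ) : ∀ a ∈ sw i, a < elemTabs.length := tail_lt (sw_tail i)

theorem append_lt {u v : List ℕ} (hu : ∀ a ∈ u, a < elemTabs.length)
    (hv : ∀ a ∈ v, a < elemTabs.length) : ∀ a ∈ u ++ v, a < elemTabs.length := fun a ha =>
  (List.mem_append.1 ha).elim (hu a) (hv a)

/-- An element of the group on lines given by a word. -/
noncomputable def W (w : List ℕ) (hw : ∀ a ∈ w, a < elemTabs.length) : R :=
  ⟨wordPerm w, word_mem_R hw⟩

theorem val_W {w : List ℕ} (hw : ∀ a ∈ w, a < elemTabs.length) :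
    (W w hw : Equiv.Perm (Fin 315)) = wordPerm w := rfl

theorem mem_syl2 {x : R} : x ∈ syl2 ↔ ∃ i < 128, wordPerm (sw i) = x := by
  rw [syl2, Subgroup.mem_subgroupOf, ← SetLike.mem_coe, syl_carrier]
  exact Iff.rfl

theorem mem_syl2_of_word {w : List ℕ} (hw : ∀ a ∈ w, a < elemTabs.length)
    (h : sylWords.any (fun v => sigF w == sigF v) = true) : W w hw ∈ syl2 := by
  obtain ⟨v, hv, e⟩ := List.any_eq_true.1 h
  obtain ⟨i, hi, rfl⟩ := List.getElem_of_mem hv
  have hiv : sylWords[i] = sw i := (List.getD_eq_getElem _ _ hi).symm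
  refine mem_syl2.2 ⟨i, by rw [syl_check.1] at hi; exact hi, ?_⟩
  rw [beq_iff_eq, hiv] at e
  exact ((sig_eq_iff hw (sw_lt i)).1 e).symm

theorem gen_eq {g : ℕ} (hg : g < 4) : wordPerm (sylGens.getD g []) = wordPerm (sw (g + 1)) := by
  have h := List.all_eq_true.1 centre_check.2.2.1 g (List.mem_range.2 hg)
  rw [beq_iff_eq] at h
  exact (sig_eq_iff (tail_lt syl_gen_word) (sw_lt _)).1 h

theorem gens_len : sylGens.length = 4 := rfl

theorem exists_gen {w : List ℕ} (hw : w ∈ sylGens) :
    ∃ g < 4, sylGens.getD g [] = w := by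
  obtain ⟨g, hg, rfl⟩ := List.getElem_of_mem hw
  exact ⟨g, gens_len ▸ hg, List.getD_eq_getElem _ _ hg⟩

theorem syl2_le_of_gens {A : Subgroup R}
    (h : ∀ g < 4, ∀ hw, W (sylGens.getD g []) hw ∈ A) : syl2 ≤ A := by
  have hs : syl ≤ A.map R.subtype := by
    rw [syl, Subgroup.closure_le]
    rintro _ ⟨w, hw, rfl⟩
    obtain ⟨g, hg, rfl⟩ := exists_gen hw
    exact ⟨_, h g hg (tail_lt syl_gen_word), rfl⟩
  intro x hx
  obtain ⟨y, hy, he⟩ := hs hx
  exact Subtype.ext he ▸ hy

theorem card_syl2 : Nat.card syl2 = 2 ^ 7 := by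
  rw [syl2, Nat.card_congr (Subgroup.subgroupOfEquivOfLe syl_le).toEquiv, card_syl]
  norm_num

/-- The Sylow subgroup. -/
noncomputable def sylow : Sylow 2 R := Sylow.ofCard syl2 (by
  rw [card_syl2, card_range_rho, show (604800 : ℕ) = 2 ^ 7 * 4725 by norm_num,
    Nat.factorization_mul (by norm_num) (by norm_num), Nat.factorization_pow,
    Finsupp.add_apply, Finsupp.smul_apply, Nat.Prime.factorization_self Nat.prime_two,
    Nat.factorization_eq_zero_of_not_dvd (by norm_num)]
  rfl)

/-- The central reflection. -/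
noncomputable def zc : R := W centreWord centre_lt

theorem zc_val : (zc : Equiv.Perm (Fin 315)) = z0 := z0_eq.symm

theorem eq_one_or_zc {x : R} (hx : x ∈ syl2) (hc : ∀ y ∈ syl2, y * x = x * y) : x = 1 ∨ x = zc := by
  obtain ⟨i, hi, he⟩ := mem_syl2.1 hx
  have h := List.all_eq_true.1 centre_check.2.2.2.1 i (List.mem_range.2 hi)
  simp only [Bool.or_eq_true, beq_iff_eq, List.any_eq_true, Bool.not_eq_true', beq_eq_false_iff_ne] at h
  rcases h with (h | h) | ⟨w, hw, h⟩
  · exact Or.inl (Subtype.ext (he.symm.trans ((sig_one (sw_lt i)).1 h)))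
  · exact Or.inr (Subtype.ext (he.symm.trans ((sig_eq_iff (sw_lt i) centre_lt).1 h)))
  · exfalso
    obtain ⟨g, hg, rfl⟩ := exists_gen hw
    refine h ((sig_eq_iff (append_lt (tail_lt syl_gen_word) (sw_lt i))
      (append_lt (sw_lt i) (tail_lt syl_gen_word))).2 ?_)
    rw [wordPerm_append, wordPerm_append, he]
    refine congrArg Subtype.val (hc (W (sylGens.getD g []) (tail_lt syl_gen_word)) (mem_syl2.2
      ⟨g + 1, by omega, (gen_eq hg).symm⟩))

theorem closed_derives {T : Subgroup R} (hT : T ≤ syl2)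
    (hcl : ∀ g : R, ∀ x ∈ T, g * x * g⁻¹ ∈ syl2 → g * x * g⁻¹ ∈ T) :
    ∀ (steps : List (Bool × ℕ × ℕ × ℕ)) (known : List ℕ), derives known steps = true →
      (∀ a ∈ known, W (sw a) (sw_lt a) ∈ T) → syl2 ≤ T := by
  intro steps
  induction steps with
  | nil =>
    intro known h hk
    rw [derives, List.all_eq_true] at h
    refine syl2_le_of_gens fun g hg hw => ?_
    have hmem : g + 1 ∈ known := List.contains_iff_mem.1 (h (g + 1) (by
      simp only [List.mem_cons, List.not_mem_nil, or_false]; omega))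
    have e : W (sylGens.getD g []) hw = W (sw (g + 1)) (sw_lt _) := Subtype.ext (gen_eq hg)
    exact e ▸ hk _ hmem
  | cons s rest ih =>
    intro known h hk
    obtain ⟨m, a, b, c⟩ := s
    simp only [derives, Bool.and_eq_true, Nat.blt_eq, List.contains_iff_mem] at h
    obtain ⟨⟨⟨hc, ha⟩, hstep⟩, hrest⟩ := h
    refine ih _ hrest fun x hx => ?_
    rcases List.mem_cons.1 hx with rfl | hx
    · cases m
      · simp only [Bool.false_eq_true, if_false, Bool.and_eq_true, Nat.blt_eq, beq_iff_eq] at hstep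
        obtain ⟨hb, he⟩ := hstep
        have hb' : ∀ k ∈ [b], k < elemTabs.length := fun k hk => List.mem_singleton.1 hk ▸ hb
        have he' := (sig_eq_iff (append_lt hb' (sw_lt a)) (append_lt (sw_lt x) hb')).1 he
        rw [wordPerm_append, wordPerm_append] at he'
        have e : W [b] hb' * W (sw a) (sw_lt a) * (W [b] hb')⁻¹ = W (sw x) (sw_lt x) :=
          mul_inv_eq_iff_eq_mul.2 (Subtype.ext he')
        exact e ▸ hcl _ _ (hk a ha) (e.symm ▸ mem_syl2.2 ⟨x, hc, rfl⟩)
      · simp only [if_true, Bool.and_eq_true, List.contains_iff_mem, beq_iff_eq] at hstep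
        obtain ⟨hb, he⟩ := hstep
        have he' := (sig_eq_iff (append_lt (sw_lt a) (sw_lt b)) (sw_lt x)).1 he
        rw [wordPerm_append] at he'
        have e : W (sw a) (sw_lt a) * W (sw b) (sw_lt b) = W (sw x) (sw_lt x) := Subtype.ext he'
        exact e ▸ mul_mem (hk a ha) (hk b hb)
    · exact hk x hx

theorem noClosed {T : Subgroup R} (hT : T ≤ syl2) (hne : T ≠ ⊥)
    (hcl : ∀ g : R, ∀ x ∈ T, g * x * g⁻¹ ∈ syl2 → g * x * g⁻¹ ∈ T) : syl2 ≤ T := by
  haveI : Fact (Nat.Prime 2) := ⟨Nat.prime_two⟩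
  have hP : IsPGroup 2 syl2 := IsPGroup.of_card card_syl2
  set K : Subgroup syl2 := T.subgroupOf syl2
  haveI : K.Normal := ⟨fun x hx g => hcl g.1 x.1 hx (g * x * g⁻¹).2⟩
  have hKne : K ≠ ⊥ := fun h => hne (by
    rw [Subgroup.subgroupOf_eq_bot] at h
    exact h.eq_bot_of_le hT)
  have hQ : IsPGroup 2 (ConjAct syl2) := hP.of_equiv (ConjAct.toConjAct (G := syl2))
  have hone : (1 : K) ∈ MulAction.fixedPoints (ConjAct syl2) K := fun c =>
    Subtype.ext (by rw [ConjAct.Subgroup.val_conj_smul, Subgroup.coe_one, smul_one])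
  have hdvd : 2 ∣ Nat.card K := by
    obtain ⟨n, hn⟩ := (hP.to_subgroup K).exists_card_eq
    rcases n with _ | n
    · exact absurd (Subgroup.card_eq_one.mp (by rw [hn, pow_zero])) hKne
    · exact hn ▸ dvd_pow_self 2 (Nat.succ_ne_zero n)
  obtain ⟨b, hb, hb1⟩ := hQ.exists_fixed_point_of_prime_dvd_card_of_fixed_point K hdvd hone
  have hcomm : ∀ y ∈ syl2, y * (b.1.1 : R) = b.1.1 * y := fun y hy => by
    have h1 := congrArg Subtype.val (hb (ConjAct.toConjAct (⟨y, hy⟩ : syl2)))
    rw [ConjAct.Subgroup.val_conj_smul, ConjAct.smul_def, ConjAct.ofConjAct_toConjAct] at h1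
    exact mul_inv_eq_iff_eq_mul.1 (congrArg Subtype.val h1)
  rcases eq_one_or_zc b.1.2 hcomm with h | h
  · exact absurd (Subtype.ext (Subtype.ext h.symm)) hb1
  have hz : zc ∈ T := h ▸ (b.2 : b.1.1 ∈ T)
  refine closed_derives hT hcl closeData [17] close_check fun a ha => ?_
  rw [List.mem_singleton] at ha
  subst ha
  have h17 := centre_check.2.1
  rw [beq_iff_eq] at h17
  have e : W (sw 17) (sw_lt 17) = zc := Subtype.ext ((sig_eq_iff (sw_lt 17) centre_lt).1 h17)
  exact e ▸ hz

theorem rw0_tail (k : ℕ) : ∀ a ∈ rw0 k, a ∈ allElems levelData.tail := by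
  obtain ⟨-, -, -, -, -, -, -, -, -, -, -, him, -⟩ := cent_check
  intro a ha
  by_cases hk : k < imageWords.length
  · rw [rw0, List.getD_eq_getElem _ _ hk] at ha
    have h := List.all_eq_true.1 him _ (List.getElem_mem hk)
    simp only [Bool.and_eq_true, List.all_eq_true, List.contains_iff_mem] at h
    exact h.1 a ha
  · rw [rw0, List.getD_eq_default _ _ (Nat.not_lt.1 hk)] at ha; simp at ha

/-- The extraspecial kernel inside the group on lines. -/
noncomputable def core : Subgroup R := (pairHom.ker.map stab0.subtype).subgroupOf R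

theorem mem_core {x : R} : x ∈ core ↔ ∃ w ∈ kernelWords, wordPerm w = x := by
  rw [core, Subgroup.mem_subgroupOf, Subgroup.mem_map]
  constructor
  · rintro ⟨y, hy, he⟩
    obtain ⟨i, hi⟩ := kerElem_surjective ⟨y, hy⟩
    exact ⟨_, List.getElem_mem i.isLt, (congrArg (fun q : pairHom.ker => q.1.1) hi).trans he⟩
  · rintro ⟨w, hw, he⟩
    obtain ⟨i, hi, rfl⟩ := List.getElem_of_mem hw
    exact ⟨(kerElem ⟨i, hi⟩).1, (kerElem ⟨i, hi⟩).2, he⟩

theorem core_le : core ≤ syl2 := fun x hx => by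
  obtain ⟨w, hw, he⟩ := mem_core.1 hx
  have h := List.all_eq_true.1 centre_check.1 w hw
  have e : W w (tail_lt (kernel_word hw)) = x := Subtype.ext he
  exact e ▸ mem_syl2_of_word _ h

theorem mem_normalizer_core {x : R} (hx : (x : Equiv.Perm (Fin 315)) ∈ stab0) :
    x ∈ Subgroup.normalizer (core : Set R) := by
  refine mem_normalizer_of_forall fun y hy => ?_
  rw [core, Subgroup.mem_subgroupOf] at hy ⊢
  obtain ⟨q, hq, he⟩ := hy
  exact ⟨⟨_, hx⟩ * q * (⟨_, hx⟩ : stab0)⁻¹, (MonoidHom.normal_ker pairHom).conj_mem q hq _,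
    by simp only [Subgroup.coe_mul, InvMemClass.coe_inv, map_mul, map_inv, Subgroup.coe_subtype, ← he]⟩

theorem core_centric : centralizerIn syl2 core ≤ core := fun x hx => by
  obtain ⟨hxS, hc⟩ := mem_centralizerIn.1 hx
  obtain ⟨i, hi, he⟩ := mem_syl2.1 hxS
  have h := List.all_eq_true.1 centre_check.2.2.2.2 i (List.mem_range.2 hi)
  simp only [Bool.or_eq_true, List.any_eq_true, beq_iff_eq, Bool.not_eq_true', beq_eq_false_iff_ne] at h
  rcases h with ⟨w, hw, h⟩ | ⟨w, hw, h⟩
  · exact mem_core.2 ⟨w, hw, ((sig_eq_iff (sw_lt i) (tail_lt (kernel_word hw))).1 h).symm.trans he⟩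
  · exfalso
    have hwl := tail_lt (kernel_word hw)
    refine h ((sig_eq_iff (append_lt hwl (sw_lt i)) (append_lt (sw_lt i) hwl)).2 ?_)
    rw [wordPerm_append, wordPerm_append, he]
    exact congrArg Subtype.val (hc (W w hwl) (mem_core.2 ⟨w, hw, rfl⟩))

theorem syl2_stab {x : R} (hx : x ∈ syl2) : (x : Equiv.Perm (Fin 315)) ∈ stab0 := by
  obtain ⟨i, -, he⟩ := mem_syl2.1 hx
  exact he ▸ (wordPerm_mem (sw_tail i)).1

theorem normalizer_stab {g : R} (hg : g ∈ Subgroup.normalizer (syl2 : Set R)) :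
    (g : Equiv.Perm (Fin 315)) ∈ stab0 := by
  have hz : zc ∈ syl2 := by
    have h17 := centre_check.2.1
    rw [beq_iff_eq] at h17
    exact mem_syl2.2 ⟨17, by norm_num, (sig_eq_iff (sw_lt 17) centre_lt).1 h17⟩
  have hcen : ∀ y ∈ syl2, y * zc = zc * y := fun y hy => Subtype.ext <| by
    rw [Subgroup.coe_mul, Subgroup.coe_mul, zc_val]
    exact (commute_iff y.2).2 (syl2_stab hy)
  have h1 : g * zc * g⁻¹ = zc := by
    refine (eq_one_or_zc ((Subgroup.mem_normalizer_iff.1 hg zc).1 hz) fun y hy => ?_).resolve_left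
      fun h => ?_
    · have hy' : g⁻¹ * y * g ∈ syl2 := by
        have := (Subgroup.mem_normalizer_iff.1 (inv_mem hg) y).1 hy
        rwa [inv_inv] at this
      calc y * (g * zc * g⁻¹) = g * ((g⁻¹ * y * g) * zc) * g⁻¹ := by group
        _ = g * (zc * (g⁻¹ * y * g)) * g⁻¹ := by rw [hcen _ hy']
        _ = g * zc * g⁻¹ * y := by group
    · have : zc = 1 := conj_eq_one_iff.1 h
      exact fr_zero_ne (Subtype.ext ((fr_zero.trans zc_val.symm).trans (congrArg Subtype.val this)))
  rw [← commute_iff g.2]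
  have := congrArg Subtype.val (mul_inv_eq_iff_eq_mul.1 h1)
  rwa [Subgroup.coe_mul, Subgroup.coe_mul, zc_val] at this

theorem exists_rep (g : stab0) : ∃ k < 60, ∃ h, (g : Equiv.Perm (Fin 315)) = wordPerm (rw0 k) * h ∧
    ∃ w ∈ kernelWords, wordPerm w = h := by
  obtain ⟨-, -, -, -, -, -, -, -, hlk, hlen, -, him, -, hnd⟩ := cent_check
  let r : Fin 60 → stab0 := fun k => ⟨_, (wordPerm_mem (rw0_tail k)).1⟩
  have hr : ∀ k : Fin 60, ∀ l : Fin 5, (pairHom (r k) l : ℕ) = (imageWords.getD k ([], [])).2.getD l 0 := by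
    intro k l
    have hk : (k : ℕ) < imageWords.length := by omega
    have h := List.all_eq_true.1 him _ (List.getElem_mem hk)
    simp only [Bool.and_eq_true, List.all_eq_true, List.contains_iff_mem, List.mem_range, Nat.blt_eq] at h
    obtain ⟨hl, hs⟩ := h.2 l l.isLt
    have e : (imageWords.getD k ([], [])) = imageWords[(k : ℕ)] := List.getD_eq_getElem _ _ hk
    have e' : r k = ⟨_, (wordPerm_mem h.1).1⟩ := Subtype.ext (by show wordPerm (rw0 k) = _; rw [rw0, e])
    rw [e', e]
    exact congrArg Fin.val (sends_unique (pairHom_sends ⟨_, (wordPerm_mem h.1).1⟩ l)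
      (sends_of_word (l := ⟨_, hl⟩) h.1 hs))
  have hinj : Function.Injective fun k => (⟨pairHom (r k), r k, rfl⟩ : pairHom.range) := fun i j h => by
    have e : pairHom (r i) = pairHom (r j) := congrArg Subtype.val h
    have hi : (i : ℕ) < imageWords.length := by omega
    have hj : (j : ℕ) < imageWords.length := by omega
    have hl : (List.range 5).map (fun k => imageWords[(i : ℕ)].2.getD k 0) =
        (List.range 5).map (fun k => imageWords[(j : ℕ)].2.getD k 0) := by
      refine List.map_congr_left fun k hk => ?_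
      have h1 := hr i ⟨k, List.mem_range.1 hk⟩
      have h2 := hr j ⟨k, List.mem_range.1 hk⟩
      rw [List.getD_eq_getElem imageWords _ hi] at h1
      rw [List.getD_eq_getElem imageWords _ hj] at h2
      rw [← h1, ← h2, e]
    have := hnd.getElem_inj_iff (i := (i : ℕ)) (j := (j : ℕ)) (hi := by simpa using hi)
      (hj := by simpa using hj)
    simp only [List.getElem_map] at this
    exact Fin.ext (this.1 hl)
  obtain ⟨k, hk⟩ := ((Nat.bijective_iff_injective_and_card _).2
    ⟨hinj, by rw [Nat.card_fin, card_pair.2]⟩).2 ⟨pairHom g, g, rfl⟩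
  have hker : (r k)⁻¹ * g ∈ pairHom.ker := by
    rw [MonoidHom.mem_ker, map_mul, map_inv, inv_mul_eq_one]
    exact congrArg Subtype.val hk
  obtain ⟨i, hi⟩ := kerElem_surjective ⟨_, hker⟩
  refine ⟨k, k.isLt, ((r k)⁻¹ * g : stab0), ?_, _, List.getElem_mem i.isLt,
    congrArg (fun q : pairHom.ker => q.1.1) hi⟩
  show g.1 = (r k).1 * ((r k)⁻¹ * g : stab0).1
  rw [← Subgroup.coe_mul, mul_inv_cancel_left]

theorem normalizer_le_gen :
    Subgroup.normalizer (syl2 : Set R) ≤ Subgroup.closure (localGen 2 syl2) := by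
  obtain ⟨hu, ha, hb, hcos, hout⟩ := normalizer_check
  have hua : ∀ a ∈ aWord, a < elemTabs.length := tail_lt (rw0_tail 12)
  have hub : ∀ a ∈ bWord, a < elemTabs.length := tail_lt (rw0_tail 13)
  have hul : ∀ a ∈ uWord, a < elemTabs.length := append_lt hua hub
  set u : R := W uWord hul with hu'
  have huN : u ∈ Subgroup.normalizer (syl2 : Set R) := by
    refine mem_normalizer_of_forall fun y hy => ?_
    have hle : syl2 ≤ syl2.comap (MulAut.conj u).toMonoidHom := syl2_le_of_gens fun g hg hw => by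
      obtain ⟨v, hv, e⟩ := List.any_eq_true.1 (List.all_eq_true.1 hu _
        (show sylGens.getD g [] ∈ sylGens by
          rw [List.getD_eq_getElem _ _ (gens_len ▸ hg)]; exact List.getElem_mem _))
      obtain ⟨i, hi, rfl⟩ := List.getElem_of_mem hv
      have hiv : sylWords[i] = sw i := (List.getD_eq_getElem _ _ hi).symm
      rw [beq_iff_eq, hiv, sig_eq_iff (append_lt hul hw) (append_lt (sw_lt i) hul),
        wordPerm_append, wordPerm_append] at e
      show u * W (sylGens.getD g []) hw * u⁻¹ ∈ syl2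
      rw [show u * W (sylGens.getD g []) hw * u⁻¹ = W (sw i) (sw_lt i) from
        mul_inv_eq_iff_eq_mul.2 (Subtype.ext e)]
      exact mem_syl2.2 ⟨i, by rw [syl_check.1] at hi; exact hi, rfl⟩
    exact hle hy
  have hpe : ∀ {w : List ℕ} (hw : ∀ k ∈ w, k ∈ allElems levelData.tail),
      (sigF (wpow w 8) == detLines) = true →
      W w (tail_lt hw) ∈ pElts 2 (Subgroup.normalizer (core : Set R)) := fun {w} hw h => by
    rw [beq_iff_eq] at h
    refine ⟨mem_normalizer_core (wordPerm_mem hw).1, 3, Subtype.ext ?_⟩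
    rw [Subgroup.coe_pow, val_W, ← wordPerm_wpow]
    exact (sig_one (wpow_lt (tail_lt hw))).1 h
  have huG : u ∈ Subgroup.closure (localGen 2 syl2) := by
    refine Subgroup.subset_closure (Or.inr ⟨huN, core, core_le, core_centric,
      fun s hs => mem_normalizer_core (syl2_stab hs), ?_⟩)
    have e : u = W aWord hua * W bWord hub := Subtype.ext (wordPerm_append _ _)
    rw [e]
    exact mul_mem (Subgroup.subset_closure (hpe (rw0_tail 12) ha))
      (Subgroup.subset_closure (hpe (rw0_tail 13) hb))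
  have hS : syl2 ≤ Subgroup.closure (localGen 2 syl2) := fun x hx => Subgroup.subset_closure (Or.inl hx)
  intro g hg
  obtain ⟨k, hk, h, he, w, hw, hwh⟩ := exists_rep ⟨_, normalizer_stab hg⟩
  set r : R := W (rw0 k) (tail_lt (rw0_tail k))
  set q : R := W w (tail_lt (kernel_word hw))
  have hq : q ∈ syl2 := core_le (mem_core.2 ⟨w, hw, rfl⟩)
  have hgq : g = r * q := Subtype.ext (by rw [Subgroup.coe_mul, val_W, val_W, hwh]; exact he)
  have hrN : r ∈ Subgroup.normalizer (syl2 : Set R) := by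
    have h1 : g * q⁻¹ = r := by rw [hgq, mul_inv_cancel_right]
    exact h1 ▸ mul_mem hg (inv_mem (Subgroup.le_normalizer hq))
  by_cases hk12 : k < 12
  · have h1 := List.all_eq_true.1 hcos k (List.mem_range.2 hk12)
    simp only [Bool.and_eq_true, Nat.blt_eq, beq_iff_eq] at h1
    obtain ⟨hc, h1⟩ := h1
    rw [sig_eq_iff (tail_lt (rw0_tail k)) (append_lt (wpow_lt hul) (sw_lt _)), wordPerm_append,
      wordPerm_wpow] at h1
    have hr : r = u ^ (cosetData.getD k (0, 0)).1 * W (sw (cosetData.getD k (0, 0)).2) (sw_lt _) :=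
      Subtype.ext (by rw [Subgroup.coe_mul, Subgroup.coe_pow]; exact h1)
    rw [hgq, hr]
    exact mul_mem (mul_mem (pow_mem huG _) (hS (mem_syl2.2 ⟨_, hc, rfl⟩))) (hS hq)
  · exfalso
    have h1 := List.all_eq_true.1 hout k (List.mem_range.2 hk)
    simp only [Bool.or_eq_true, Nat.blt_eq, hk12, false_or, List.all_eq_true, Bool.not_eq_true',
      beq_eq_false_iff_ne] at h1
    have hg0 : W (sylGens.getD 0 []) (tail_lt syl_gen_word) ∈ syl2 :=
      mem_syl2.2 ⟨1, by norm_num, (gen_eq (by norm_num)).symm⟩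
    obtain ⟨i, hi, hie⟩ := mem_syl2.1 ((Subgroup.mem_normalizer_iff.1 hrN _).1 hg0)
    refine h1 (sw i) ?_ ((sig_eq_iff (append_lt (tail_lt (rw0_tail k)) (tail_lt syl_gen_word))
      (append_lt (sw_lt i) (tail_lt (rw0_tail k)))).2 ?_)
    · rw [sw, List.getD_eq_getElem _ _ (by rw [syl_check.1]; exact hi)]
      exact List.getElem_mem _
    · rw [wordPerm_append, wordPerm_append, hie]
      simp only [Subgroup.coe_mul, InvMemClass.coe_inv, val_W, r]
      group

/-- Every isomorphic copy of the group on lines has a simple 2-fusion system. -/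
theorem isSimple {G : Type*} [Group G] [Finite G] (e : R ≃* G) (S : Sylow 2 G) :
    (Cfsg.groupFusionSystem (S : Subgroup G)).IsSimple 2 := by
  haveI : Fact (Nat.Prime 2) := ⟨Nat.prime_two⟩
  refine isSimple_gfs_of_equiv e sylow S ?_ ?_ ?_
  · intro h
    have := card_syl2
    rw [sylow, Sylow.coe_ofCard] at h
    rw [h, Subgroup.card_bot] at this
    norm_num at this
  · rw [sylow, Sylow.coe_ofCard]
    exact fun T hT hne hcl => noClosed hT hne hcl
  · rw [sylow, Sylow.coe_ofCard]
    exact normalizer_le_gen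

end Cfsg.Agent.Icosian.TwoFusion
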