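import Cfsg.Agent.Lib.Icosian.HData
import Cfsg.Agent.Lib.Icosian.CertGroup
import Cfsg.Agent.Lib.Icosian.GroupCheck

/-!
Kernel checks for the subgroup of index 100.
-/

set_option autoImplicit false
set_option maxRecDepth 100000

namespace Cfsg.Agent.Icosian.Sub100

open Cert

theorem pair_check : groupCheck 343 2 pairTabs pairSteps pairChain = true := by decide +kernel

theorem line_check :
    groupCheck 315 2 pairTabs pairSteps pairChain = true ∧ orderOfChain pairChain = 6048 := by
  decide +kernel

theorem iso_check : groupCheck 28 2 isoTabs isoSteps isoChain = true ∧ orderOfChain isoChain = 6048 := by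
  decide +kernel

theorem split_check :
    ((List.range 28).all fun i =>
      fapp (pairTabs.getD 0 0) (315 + i) == 315 + fapp (isoTabs.getD 0 0) i &&
        fapp (pairTabs.getD 1 0) (315 + i) == 315 + fapp (isoTabs.getD 1 0) i) = true ∧
    ((List.range 315).all fun i =>
      fapp (pairTabs.getD 0 0) i == evalWord elemTabs wordA i &&
        fapp (pairTabs.getD 1 0) i == evalWord elemTabs wordB i) = true ∧
    ((wordA ++ wordB).all fun k => Nat.blt k elemTabs.length) = true := by
  decide +kernel

/-- The bit mask of a list. -/
def maskL : List ℕ → ℕ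
  | [] => 0
  | x :: l => Nat.lor (Nat.shiftLeft 1 x) (maskL l)

/-- The masks of the sets. -/
def setMasks : List ℕ := sets.map maskL

theorem sets_check :
    sets.length = 100 ∧ setMasks.Nodup ∧ (sets.all fun s => s.all fun x => Nat.blt x 315) = true ∧
    ((List.range 4).all fun g => Nat.blt g elemTabs.length && (List.range 100).all fun j =>
      Nat.blt ((setImg.getD g []).getD j 100) 100 &&
        maskL ((sets.getD j []).map fun x => app (elemTabs.getD g 0) x) ==
          setMasks.getD ((setImg.getD g []).getD j 100) 0) = true ∧
    ((List.range 100).all fun j => j == 0 ||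
      Nat.blt (setUp.getD j (0, 0)).1 j && Nat.blt (setUp.getD j (0, 0)).2 4 &&
        (setImg.getD (setUp.getD j (0, 0)).2 []).getD (setUp.getD j (0, 0)).1 100 == j) = true ∧
    ((List.range 2).all fun g => (List.range 100).all fun j =>
      Nat.blt ((subImg.getD g []).getD j 100) 100 &&
        maskL ((sets.getD j []).map fun x => fapp (pairTabs.getD g 0) x) ==
          setMasks.getD ((subImg.getD g []).getD j 100) 0) = true ∧
    (subImg.getD 0 []).getD 0 100 = 0 ∧ (subImg.getD 1 []).getD 0 100 = 0 := by
  decide +kernel

/-- An orbit tree is closed and connected. -/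
def treeClosed (q : List (ℕ × ℕ × ℕ)) : Bool :=
  (List.range q.length).all fun k =>
    let e := q.getD k (0, 0, 0)
    Nat.blt e.1 100 &&
      ((k == 0) || Nat.blt e.2.1 k && Nat.blt e.2.2 2 &&
        (subImg.getD e.2.2 []).getD (q.getD e.2.1 (0, 0, 0)).1 100 == e.1) &&
      (List.range 2).all fun g => (q.map fun a => a.1).contains ((subImg.getD g []).getD e.1 100)

theorem orbits_check :
    treeClosed orbit36 = true ∧ treeClosed orbit63 = true ∧
    (orbit36.map fun a => a.1).Nodup ∧ (orbit63.map fun a => a.1).Nodup ∧
    orbit36.length = 36 ∧ orbit63.length = 63 := by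
  decide +kernel

end Cfsg.Agent.Icosian.Sub100
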