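import Cfsg.Agent.Lib.Recog.TriangleDeg.Model
import Cfsg.Agent.Lib.LinearGroups.UnitaryOrder
import Cfsg.Agent.Lib.Icosian.HData

/-!
`SU(3,3)` on its 28 isotropic points.
-/

set_option autoImplicit false
set_option maxRecDepth 100000

namespace Cfsg.Agent.Icosian.Sub100

open Matrix Cfsg.Agent.Recog.PSUThreeThreeSpectrum Cfsg.Agent.Recog.TriangleDeg Cert

/-- A coordinate from a code. -/
def dec9 (n : ℕ) : R9 := ⟨((n / 3 : ℕ) : ZMod 3), ((n % 3 : ℕ) : ZMod 3)⟩

/-- An isotropic point. -/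
def isoVec (i : Fin 28) : Fin 3 → R9 := fun t => dec9 ((isoCodes.getD i []).getD t 0)

/-- The second generator. -/
def sb : SL9 :=
  ⟨!![⟨0, 1⟩, ⟨1, 2⟩, ⟨0, 2⟩; ⟨1, 1⟩, ⟨0, 0⟩, ⟨1, 1⟩; ⟨2, 0⟩, ⟨2, 2⟩, ⟨1, 0⟩], by decide +kernel⟩

/-- The second generator in the unitary group. -/
def lb : L := ⟨sb, mem_of_check sb (by decide +kernel)⟩

/-- The norm form. -/
def nrm (v : Fin 3 → R9) : R9 :=
  v 0 * (v 0 * v 0 * v 0) + v 1 * (v 1 * v 1 * v 1) + v 2 * (v 2 * v 2 * v 2)

theorem iso_points : ∀ a b c : R9, (a ≠ 0 ∨ b ≠ 0 ∨ c ≠ 0) →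
    a * (a * a * a) + b * (b * b * b) + c * (c * c * c) = 0 →
    ∃ i : Fin 28, ∃ s : R9, a = s * isoVec i 0 ∧ b = s * isoVec i 1 ∧ c = s * isoVec i 2 := by
  decide +kernel

theorem iso_facts : (∀ i : Fin 28, nrm (isoVec i) = 0 ∧
      (isoVec i 0 ≠ 0 ∨ isoVec i 1 ≠ 0 ∨ isoVec i 2 ≠ 0)) ∧
    ∀ i j : Fin 28, ∀ s : R9,
      isoVec i 0 = s * isoVec j 0 → isoVec i 1 = s * isoVec j 1 → isoVec i 2 = s * isoVec j 2 → i = j := by
  decide +kernel

theorem iso_unique {i j : Fin 28} {s : R9} (h : isoVec i = s • isoVec j) : i = j :=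
  iso_facts.2 i j s (congrFun h 0) (congrFun h 1) (congrFun h 2)

theorem exists_image (g : L) (i : Fin 28) :
    ∃ (j : Fin 28) (s : R9), g.1.1 *ᵥ isoVec i = s • isoVec j := by
  set w := g.1.1 *ᵥ isoVec i with hw
  have hne : w ≠ 0 := by
    intro h
    have h0 : isoVec i = 0 := by
      have e := congrArg (fun v => g.1.1.adjugate *ᵥ v) h
      simp only [hw, Matrix.mulVec_mulVec, Matrix.adjugate_mul, g.1.2, one_smul, Matrix.one_mulVec,
        Matrix.mulVec_zero] at e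
      exact e
    rcases (iso_facts.1 i).2 with e | e | e <;> exact e (congrFun h0 _)
  have hpres : Cfsg.hermForm 3 R9 3 w w = Cfsg.hermForm 3 R9 3 (isoVec i) (isoVec i) :=
    g.2 (isoVec i) (isoVec i)
  have hf : ∀ v : Fin 3 → R9, Cfsg.hermForm 3 R9 3 v v = nrm v := fun v => by
    simp [Cfsg.hermForm, nrm, Fin.sum_univ_three]; ring
  rw [hf, hf, (iso_facts.1 i).1] at hpres
  obtain ⟨j, s, a, b, c⟩ := iso_points (w 0) (w 1) (w 2) (by
    by_contra hall
    simp only [not_or, not_not] at hall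
    exact hne (funext fun t => by fin_cases t <;> simp [hall.1, hall.2.1, hall.2.2])) hpres
  exact ⟨j, s, funext fun t => by fin_cases t <;> assumption⟩

/-- The image of an isotropic point. -/
noncomputable def actFun (g : L) (i : Fin 28) : Fin 28 := (exists_image g i).choose

theorem actFun_eq {g : L} {i j : Fin 28} {s : R9} (h : g.1.1 *ᵥ isoVec i = s • isoVec j) :
    actFun g i = j := by
  obtain ⟨r, hr⟩ := (exists_image g i).choose_spec
  have hne : r ≠ 0 := by
    rintro rfl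
    rw [zero_smul] at hr
    have e := congrArg (fun v => g.1.1.adjugate *ᵥ v) hr
    simp only [Matrix.mulVec_mulVec, Matrix.adjugate_mul, g.1.2, one_smul, Matrix.one_mulVec,
      Matrix.mulVec_zero] at e
    rcases (iso_facts.1 i).2 with h' | h' | h' <;> exact h' (congrFun e _)
  refine iso_unique (s := r⁻¹ * s) ?_
  rw [mul_smul, ← h, hr, inv_smul_smul₀ hne]
  rfl

theorem actFun_mul (g h : L) (i : Fin 28) : actFun (g * h) i = actFun g (actFun h i) := by
  obtain ⟨s, hs⟩ := (exists_image h i).choose_spec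
  obtain ⟨r, hr⟩ := (exists_image g (actFun h i)).choose_spec
  refine actFun_eq (s := s * r) ?_
  rw [Subgroup.coe_mul, Matrix.SpecialLinearGroup.coe_mul, ← Matrix.mulVec_mulVec, hs,
    Matrix.mulVec_smul, mul_smul]
  exact congrArg (s • ·) hr

theorem actFun_one (i : Fin 28) : actFun 1 i = i :=
  actFun_eq (s := 1) (by simp)

/-- The action on isotropic points. -/
noncomputable def act : L →* Equiv.Perm (Fin 28) where
  toFun g :=
    { toFun := actFun g
      invFun := actFun g⁻¹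
      left_inv := fun i => by rw [← actFun_mul, inv_mul_cancel, actFun_one]
      right_inv := fun i => by rw [← actFun_mul, mul_inv_cancel, actFun_one] }
  map_one' := Equiv.ext actFun_one
  map_mul' g h := Equiv.ext (actFun_mul g h)

theorem gens_tables : ∀ i : Fin 28,
    (fapp (isoTabs.getD 0 0) i < 28 ∧ ∀ t : Fin 3, (sw.1 *ᵥ isoVec i) t =
      dec9 (scalA.getD i 0) * isoVec (Fin.ofNat 28 (fapp (isoTabs.getD 0 0) i)) t) ∧
    (fapp (isoTabs.getD 1 0) i < 28 ∧ ∀ t : Fin 3, (sb.1 *ᵥ isoVec i) t =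
      dec9 (scalB.getD i 0) * isoVec (Fin.ofNat 28 (fapp (isoTabs.getD 1 0) i)) t) := by
  decide +kernel

theorem act_lw (i : Fin 28) : fapp (isoTabs.getD 0 0) i = (act lw i : ℕ) := by
  obtain ⟨⟨hlt, h⟩, -⟩ := gens_tables i
  show _ = (actFun lw i : ℕ)
  rw [actFun_eq (g := lw) (funext h)]
  exact (Nat.mod_eq_of_lt hlt).symm

theorem act_lb (i : Fin 28) : fapp (isoTabs.getD 1 0) i = (act lb i : ℕ) := by
  obtain ⟨-, hlt, h⟩ := gens_tables i
  show _ = (actFun lb i : ℕ)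
  rw [actFun_eq (g := lb) (funext h)]
  exact (Nat.mod_eq_of_lt hlt).symm

theorem card_L : Nat.card L = 6048 ∧ Nat.card (Subgroup.center L) = 1 := by
  have hF : Fintype.card R9 = 3 ^ 2 := card_R9
  have h := UnitaryOrder.card_SU (F := R9) (q := 3) hF 3 (by norm_num)
  rw [UnitaryOrder.card_GU hF] at h
  refine ⟨?_, ?_⟩
  · norm_num [Finset.prod_range_succ, Nat.even_iff] at h
    show Nat.card (Cfsg.SU 3 R9 3) = 6048
    omega
  · show Nat.card (Subgroup.center (Cfsg.SU 3 R9 3)) = 1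
    rw [UnitaryOrder.card_center_SU hF 3 (by norm_num)]
    rfl

/-- `SU(3,3)` is its own projective quotient. -/
noncomputable def psuEquiv : L ≃* Cfsg.PSU 3 R9 3 :=
  MulEquiv.ofBijective (QuotientGroup.mk' (Subgroup.center L))
    ⟨by
      rw [← MonoidHom.ker_eq_bot_iff, QuotientGroup.ker_mk']
      exact Subgroup.card_eq_one.1 card_L.2,
    QuotientGroup.mk'_surjective _⟩

end Cfsg.Agent.Icosian.Sub100
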