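import Cfsg.Agent.Lib.Icosian.Group
import Cfsg.Agent.Lib.Icosian.HCheck
import Cfsg.Agent.Lib.Icosian.PsuAction

/-!
`PSU(3,3)` as a subgroup of index 100 in the Hall–Janko group, with subdegrees 36 and 63.
-/

set_option autoImplicit false
set_option maxRecDepth 100000

namespace Cfsg.Agent.Icosian.Sub100

open Cert
open scoped Pointwise

local notation "LL" => Cfsg.Agent.Recog.TriangleDeg.L
local notation "lw" => Cfsg.Agent.Recog.TriangleDeg.lw

/-- The first generator on lines. -/
noncomputable def genA : Equiv.Perm (Fin 315) := (wordA.map elem).prod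

/-- The second generator on lines. -/
noncomputable def genB : Equiv.Perm (Fin 315) := (wordB.map elem).prod

theorem word_eval : ∀ (w : List ℕ), (∀ k ∈ w, k < elemTabs.length) →
    (w.map elem).prod ∈ rho.range ∧
      ∀ x : Fin 315, evalWord elemTabs w x = (((w.map elem).prod x : Fin 315) : ℕ)
  | [], _ => ⟨one_mem _, fun _ => rfl⟩
  | k :: w, h => by
    obtain ⟨h1, h2⟩ := word_eval w fun j hj => h j (List.mem_cons_of_mem _ hj)
    refine ⟨mul_mem (elem_mem_range (h k List.mem_cons_self)) h1, fun x => ?_⟩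
    rw [evalWord, h2 x, (elem_spec (h k List.mem_cons_self)).2]
    rfl

theorem gens_spec : (genA ∈ rho.range ∧ genB ∈ rho.range) ∧
    ∀ i : Fin 315, fapp (pairTabs.getD 0 0) i = (genA i : ℕ) ∧
      fapp (pairTabs.getD 1 0) i = (genB i : ℕ) := by
  obtain ⟨-, h2, h3⟩ := split_check
  simp only [List.all_eq_true, Nat.blt_eq, List.mem_append] at h3
  obtain ⟨a1, a2⟩ := word_eval wordA fun k hk => h3 k (Or.inl hk)
  obtain ⟨b1, b2⟩ := word_eval wordB fun k hk => h3 k (Or.inr hk)
  refine ⟨⟨a1, b1⟩, fun i => ?_⟩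
  have := List.all_eq_true.1 h2 i (List.mem_range.2 i.isLt)
  simp only [Bool.and_eq_true, beq_iff_eq] at this
  exact ⟨this.1.trans (a2 i), this.2.trans (b2 i)⟩

/-- The subgroup on lines. -/
noncomputable def subH : Subgroup (Equiv.Perm (Fin 315)) :=
  Subgroup.closure {x | x ∈ [genA, genB]}

theorem subH_le : subH ≤ rho.range := by
  rw [subH, Subgroup.closure_le]
  intro x hx
  simp only [Set.mem_ofPred_eq, List.mem_cons, List.not_mem_nil, or_false] at hx
  rcases hx with rfl | rfl
  exacts [gens_spec.1.1, gens_spec.1.2]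

theorem card_subH : Nat.card subH = 6048 := by
  rw [subH, card_closure [genA, genB] (fun k hk i => ?_) line_check.1, line_check.2]
  have : k = 0 ∨ k = 1 := by simp at hk; omega
  rcases this with rfl | rfl
  exacts [(gens_spec.2 i).1, (gens_spec.2 i).2]

/-- Both actions together. -/
noncomputable def both : Equiv.Perm (Fin 315) × LL →* Equiv.Perm (Fin 343) :=
  ((finSumFinEquiv (m := 315) (n := 28)).permCongrHom.toMonoidHom.comp
    (Equiv.Perm.sumCongrHom (Fin 315) (Fin 28))).comp
    ((MonoidHom.id _).prodMap act)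

theorem both_apply (p : Equiv.Perm (Fin 315) × LL) (i : Fin 343) :
    both p i = finSumFinEquiv (Sum.map p.1 (act p.2) (finSumFinEquiv.symm i)) := rfl

/-- The pairs. -/
noncomputable def pairGroup : Subgroup (Equiv.Perm (Fin 315) × LL) :=
  Subgroup.closure {x | x ∈ [(genA, lw), (genB, lb)]}

theorem act_range : Nat.card (Subgroup.closure {x | x ∈ [act lw, act lb]}) = 6048 := by
  rw [card_closure [act lw, act lb] (fun k hk i => ?_) iso_check.1, iso_check.2]
  have : k = 0 ∨ k = 1 := by simp at hk; omega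
  rcases this with rfl | rfl
  exacts [act_lw i, act_lb i]

theorem closure_L : Function.Injective act ∧ Subgroup.closure {x : LL | x ∈ [lw, lb]} = ⊤ := by
  set S := Subgroup.closure {x : LL | x ∈ [lw, lb]} with hS
  have hmap : S.map act = Subgroup.closure {x | x ∈ [act lw, act lb]} := by
    rw [hS, MonoidHom.map_closure]
    congr 1
    ext x
    simp only [Set.mem_image, Set.mem_ofPred_eq, List.mem_cons, List.not_mem_nil, or_false]
    constructor
    · rintro ⟨y, rfl | rfl, rfl⟩
      exacts [Or.inl rfl, Or.inr rfl]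
    · rintro (rfl | rfl)
      exacts [⟨_, Or.inl rfl, rfl⟩, ⟨_, Or.inr rfl, rfl⟩]
  have h1 : 6048 ≤ Nat.card S := by
    rw [← act_range, ← hmap]
    exact Nat.card_le_card_of_surjective (act.subgroupMap S) (act.subgroupMap_surjective S)
  have htop : S = ⊤ := Subgroup.eq_top_of_le_card _ (by rw [card_L.1]; exact h1)
  refine ⟨?_, htop⟩
  rw [htop] at hmap
  have hr : Nat.card act.range = Nat.card LL := by
    rw [MonoidHom.range_eq_map, hmap, act_range, card_L.1]
  have hb : Function.Bijective act.rangeRestrict :=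
    (Nat.bijective_iff_surjective_and_card act.rangeRestrict).2
      ⟨act.rangeRestrict_surjective, hr.symm⟩
  exact fun a b e => hb.1 (Subtype.ext e)

theorem card_pairGroup : Nat.card pairGroup = 6048 := by
  have hinj : Function.Injective both := by
    intro p q h
    have h' : ∀ j : Fin 315 ⊕ Fin 28, Sum.map p.1 (act p.2) j = Sum.map q.1 (act q.2) j := fun j => by
      have := congrArg (fun e : Equiv.Perm (Fin 343) => e (finSumFinEquiv j)) h
      simp only [both_apply, Equiv.symm_apply_apply] at this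
      exact finSumFinEquiv.injective this
    refine Prod.ext (Equiv.ext fun i => ?_) (closure_L.1 (Equiv.ext fun i => ?_))
    · simpa using h' (Sum.inl i)
    · simpa using h' (Sum.inr i)
  rw [← Subgroup.card_map_of_injective hinj, pairGroup, MonoidHom.map_closure]
  have hset : both '' {x | x ∈ [(genA, lw), (genB, lb)]} =
      {x | x ∈ [both (genA, lw), both (genB, lb)]} := by
    ext x
    simp only [Set.mem_image, Set.mem_ofPred_eq, List.mem_cons, List.not_mem_nil, or_false]
    constructor
    · rintro ⟨y, rfl | rfl, rfl⟩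
      exacts [Or.inl rfl, Or.inr rfl]
    · rintro (rfl | rfl)
      exacts [⟨_, Or.inl rfl, rfl⟩, ⟨_, Or.inr rfl, rfl⟩]
  rw [hset, card_closure [both (genA, lw), both (genB, lb)] (fun k hk i => ?_) pair_check,
    line_check.2]
  have hk' : k = 0 ∨ k = 1 := by simp at hk; omega
  obtain ⟨j, rfl⟩ := (finSumFinEquiv (m := 315) (n := 28)).surjective i
  obtain ⟨h1, -, -⟩ := split_check
  rcases hk' with rfl | rfl <;>
    simp only [List.getElem_cons_zero, List.getElem_cons_succ, both_apply, Equiv.symm_apply_apply] <;>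
    rcases j with j | j <;>
    simp only [Sum.map_inl, Sum.map_inr, finSumFinEquiv_apply_left, finSumFinEquiv_apply_right,
      Fin.coe_castAdd, Fin.coe_natAdd]
  · exact (gens_spec.2 j).1
  · have := List.all_eq_true.1 h1 j (List.mem_range.2 j.isLt)
    simp only [Bool.and_eq_true, beq_iff_eq] at this
    rw [this.1, act_lw]
  · exact (gens_spec.2 j).2
  · have := List.all_eq_true.1 h1 j (List.mem_range.2 j.isLt)
    simp only [Bool.and_eq_true, beq_iff_eq] at this
    rw [this.2, act_lb]

theorem subH_equiv : Nonempty (subH ≃* Cfsg.PSU 3 Cfsg.Agent.Recog.PSUThreeThreeSpectrum.R9 3) := by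
  have hfst : pairGroup.map (MonoidHom.fst (Equiv.Perm (Fin 315)) LL) = subH := by
    rw [pairGroup, MonoidHom.map_closure, subH]
    congr 1
    ext x
    simp only [Set.mem_image, Set.mem_ofPred_eq, List.mem_cons, List.not_mem_nil, or_false]
    constructor
    · rintro ⟨y, rfl | rfl, rfl⟩
      exacts [Or.inl rfl, Or.inr rfl]
    · rintro (rfl | rfl)
      exacts [⟨_, Or.inl rfl, rfl⟩, ⟨_, Or.inr rfl, rfl⟩]
  have hsnd : pairGroup.map (MonoidHom.snd (Equiv.Perm (Fin 315)) LL) = ⊤ := by
    rw [pairGroup, MonoidHom.map_closure, ← closure_L.2]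
    congr 1
    ext x
    simp only [Set.mem_image, Set.mem_ofPred_eq, List.mem_cons, List.not_mem_nil, or_false]
    constructor
    · rintro ⟨y, rfl | rfl, rfl⟩
      exacts [Or.inl rfl, Or.inr rfl]
    · rintro (rfl | rfl)
      exacts [⟨_, Or.inl rfl, rfl⟩, ⟨_, Or.inr rfl, rfl⟩]
  let p1 : pairGroup →* subH := (MulEquiv.subgroupCongr hfst).toMonoidHom.comp
    ((MonoidHom.fst _ _).subgroupMap pairGroup)
  let p2 : pairGroup →* LL := (MonoidHom.snd _ _).comp pairGroup.subtype
  have b1 : Function.Bijective p1 := (Nat.bijective_iff_surjective_and_card p1).2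
    ⟨(MulEquiv.subgroupCongr hfst).surjective.comp (MonoidHom.subgroupMap_surjective _ _),
      by rw [card_pairGroup, card_subH]⟩
  have b2 : Function.Bijective p2 := (Nat.bijective_iff_surjective_and_card p2).2
    ⟨fun y => by
      obtain ⟨x, hx, rfl⟩ : y ∈ pairGroup.map (MonoidHom.snd _ LL) := by rw [hsnd]; trivial
      exact ⟨⟨x, hx⟩, rfl⟩,
      by rw [card_pairGroup, card_L.1]⟩
  exact ⟨((MulEquiv.ofBijective p1 b1).symm.trans (MulEquiv.ofBijective p2 b2)).trans psuEquiv⟩

/-! ### The 100 sets -/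

/-- The finset of a list. -/
def setOfL (l : List ℕ) : Finset (Fin 315) := Finset.univ.filter fun i : Fin 315 => (i : ℕ) ∈ l

/-- The `j`-th set. -/
def set100 (j : ℕ) : Finset (Fin 315) := setOfL (sets.getD j [])

theorem testBit_maskL : ∀ (l : List ℕ) (i : ℕ), (maskL l).testBit i = true ↔ i ∈ l
  | [], i => by simp [maskL]
  | x :: l, i => by
    show ((1 <<< x) ||| maskL l).testBit i = true ↔ _
    rw [Nat.testBit_or, Bool.or_eq_true, testBit_maskL l, Nat.one_shiftLeft, Nat.testBit_two_pow,
      List.mem_cons, decide_eq_true_eq, eq_comm]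

theorem setMasks_getD {j : ℕ} (hj : j < 100) : setMasks.getD j 0 = maskL (sets.getD j []) := by
  have hl : sets.length = 100 := sets_check.1
  rw [setMasks, List.getD_eq_getElem _ _ (by simp [hl, hj]), List.getElem_map,
    List.getD_eq_getElem _ _ (by omega)]

theorem smul_set100 {σ : Equiv.Perm (Fin 315)} {t j j' : ℕ}
    (hσ : ∀ i : Fin 315, fapp t i = (σ i : ℕ)) (hj : j < 100) (hj' : j' < 100)
    (h : maskL ((sets.getD j []).map fun x => fapp t x) = setMasks.getD j' 0) :
    σ • set100 j = set100 j' := by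
  have hlt : ∀ x ∈ sets.getD j [], x < 315 := by
    intro x hx
    have hl : sets.length = 100 := sets_check.1
    rw [List.getD_eq_getElem _ _ (by omega)] at hx
    have := List.all_eq_true.1 (List.all_eq_true.1 sets_check.2.2.1 _ (List.getElem_mem _)) x hx
    simpa using this
  rw [setMasks_getD hj'] at h
  ext i
  have hi : (i : ℕ) ∈ sets.getD j' [] ↔ (i : ℕ) ∈ (sets.getD j []).map fun x => fapp t x := by
    rw [← testBit_maskL, ← h, testBit_maskL]
  simp only [set100, setOfL, Finset.mem_filter, Finset.mem_univ, true_and, hi,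
    Finset.mem_smul_finset, List.mem_map]
  constructor
  · rintro ⟨x, hx, rfl⟩
    exact ⟨x, hx, hσ x⟩
  · rintro ⟨x, hx, e⟩
    exact ⟨⟨x, hlt x hx⟩, hx, Fin.ext ((hσ ⟨x, hlt x hx⟩).symm.trans e)⟩

theorem set100_inj {j j' : ℕ} (hj : j < 100) (hj' : j' < 100) (h : set100 j = set100 j') : j = j' := by
  obtain ⟨hl, hnd, hlt, -⟩ := sets_check
  have hmem : ∀ {k : ℕ}, k < 100 → ∀ x, (maskL (sets.getD k [])).testBit x = true ↔
      ∃ hx : x < 315, (⟨x, hx⟩ : Fin 315) ∈ set100 k := by
    intro k hk x
    rw [testBit_maskL]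
    refine ⟨fun hx => ?_, fun ⟨hx, hm⟩ => by simpa [set100, setOfL] using hm⟩
    have hx' : x < 315 := by
      rw [List.getD_eq_getElem _ _ (by omega)] at hx
      simpa using List.all_eq_true.1 (List.all_eq_true.1 hlt _ (List.getElem_mem _)) x hx
    exact ⟨hx', by simpa [set100, setOfL] using hx⟩
  have e : setMasks.getD j 0 = setMasks.getD j' 0 := by
    rw [setMasks_getD hj, setMasks_getD hj']
    refine Nat.eq_of_testBit_eq fun x => ?_
    rw [Bool.eq_iff_iff, hmem hj, hmem hj', h]
  have hlen : setMasks.length = 100 := by simp [setMasks, hl]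
  rw [List.getD_eq_getElem _ _ (by omega), List.getD_eq_getElem _ _ (by omega)] at e
  exact hnd.getElem_inj_iff.1 e

theorem sub_img {g j : ℕ} (hg : g < 2) (hj : j < 100) :
    (subImg.getD g []).getD j 100 < 100 ∧
      ([genA, genB][g]'(by simp; omega)) • set100 j = set100 ((subImg.getD g []).getD j 100) := by
  obtain ⟨-, -, -, -, -, h, -⟩ := sets_check
  have h' := List.all_eq_true.1 (List.all_eq_true.1 h g (List.mem_range.2 hg)) j (List.mem_range.2 hj)
  simp only [Bool.and_eq_true, Nat.blt_eq, beq_iff_eq] at h'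
  refine ⟨h'.1, smul_set100 (fun i => ?_) hj h'.1 h'.2⟩
  have : g = 0 ∨ g = 1 := by omega
  rcases this with rfl | rfl
  exacts [(gens_spec.2 i).1, (gens_spec.2 i).2]

theorem set_img {g j : ℕ} (hg : g < 4) (hj : j < 100) :
    (setImg.getD g []).getD j 100 < 100 ∧ elem g ∈ rho.range ∧
      elem g • set100 j = set100 ((setImg.getD g []).getD j 100) := by
  obtain ⟨-, -, -, h, -⟩ := sets_check
  have h0 := List.all_eq_true.1 h g (List.mem_range.2 hg)
  simp only [Bool.and_eq_true, Nat.blt_eq, List.all_eq_true, List.mem_range] at h0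
  have h' := h0.2 j hj
  simp only [beq_iff_eq] at h'
  exact ⟨h'.1, elem_mem_range h0.1, smul_set100 (fun i => (elem_spec h0.1).2 i) hj h'.1 h'.2⟩

/-- The translates form one orbit. -/
theorem orbit_sets : MulAction.orbit rho.range (set100 0) = set100 '' {j | j < 100} := by
  refine subset_antisymm ?_ ?_
  · rintro _ ⟨⟨g, hg⟩, rfl⟩
    show g • set100 0 ∈ _
    have hg4 : g ∈ genGroup elem (headGens levelData) := range_eq ▸ hg
    rw [genGroup_eq, four, MonoidHom.map_closure] at hg4
    have hm : g ∈ Submonoid.closure (rho '' {x | ∃ i ∈ genLine, refl2 i = x}) := by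
      rw [← Subgroup.closure_toSubmonoid_of_finite]; exact hg4
    refine Submonoid.closure_induction_left
      (motive := fun x _ => x • set100 0 ∈ set100 '' {j | j < 100}) ?_ ?_ hm
    · exact ⟨0, by simp, (one_smul _ _).symm⟩
    · rintro s ⟨x, ⟨i, hi, rfl⟩, rfl⟩ y _ ⟨j, hj, ej⟩
      obtain ⟨h1, h2, -⟩ := gens_check
      have hi' : (i : ℕ) ∈ reflData.map (fun e => e.1) := by
        rw [h1]; exact List.mem_map.2 ⟨i, hi, rfl⟩
      obtain ⟨e, he, hei⟩ := List.mem_map.1 hi'
      obtain ⟨r, hr, hrep⟩ := rep_refl he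
      obtain rfl : r = i := Fin.ext (hr.trans hei)
      have hk : e.2.1 ∈ elemTabs.take 4 := h2 ▸ List.mem_map.2 ⟨e, he, rfl⟩
      obtain ⟨k, hk', hke⟩ := List.getElem_of_mem hk
      have hk4 : k < 4 := by simp at hk'; omega
      have hek : elem k = rho (refl2 r) := by
        rw [elem]; refine permOf_eq ?_
        rw [List.getD_eq_getElem _ _ (by simp at hk'; omega)]
        rw [List.getElem_take] at hke
        rw [hke]; exact hrep
      obtain ⟨a, -, c⟩ := set_img hk4 hj
      exact ⟨_, a, by rw [mul_smul, ← ej, ← hek, c]⟩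
  · rintro _ ⟨j, hj, rfl⟩
    induction j using Nat.strong_induction_on with
    | _ j ih =>
      obtain ⟨-, -, -, -, hup, -⟩ := sets_check
      have h := List.all_eq_true.1 hup j (List.mem_range.2 hj)
      simp only [Bool.or_eq_true, Bool.and_eq_true, beq_iff_eq, Nat.blt_eq] at h
      rcases h with rfl | ⟨⟨hp, hg⟩, he⟩
      · exact MulAction.mem_orbit_self _
      · have hp100 : (setUp.getD j (0, 0)).1 < 100 := lt_trans hp hj
        obtain ⟨⟨x, hx⟩, e⟩ := ih _ hp hp100
        obtain ⟨-, hm, c⟩ := set_img hg hp100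
        refine ⟨⟨_, mul_mem hm hx⟩, ?_⟩
        show (_ * x) • set100 0 = _
        have e' : x • set100 0 = set100 (setUp.getD j (0, 0)).1 := e
        rw [mul_smul, e', c, he]

theorem ncard_orbit : (MulAction.orbit rho.range (set100 0)).ncard = 100 := by
  rw [orbit_sets, Set.InjOn.ncard_image (s := {j | j < 100}) fun a ha b hb e => set100_inj ha hb e,
    show {j : ℕ | j < 100} = ↑(Finset.range 100) by ext; simp, Set.ncard_coe_finset,
    Finset.card_range]

/-- The subgroup inside the range. -/
noncomputable def subR : Subgroup rho.range := subH.subgroupOf rho.range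

theorem stabilizer_eq : MulAction.stabilizer rho.range (set100 0) = subR := by
  have hle : subR ≤ MulAction.stabilizer rho.range (set100 0) := by
    intro x hx
    show (x : Equiv.Perm (Fin 315)) • set100 0 = set100 0
    have : subH ≤ MulAction.stabilizer (Equiv.Perm (Fin 315)) (set100 0) := by
      rw [subH, Subgroup.closure_le]
      intro y hy
      simp only [Set.mem_ofPred_eq, List.mem_cons, List.not_mem_nil, or_false] at hy
      obtain ⟨-, -, -, -, -, -, e0, e1⟩ := sets_check
      rcases hy with rfl | rfl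
      · have := (sub_img (g := 0) (j := 0) (by norm_num) (by norm_num)).2
        rw [e0] at this; exact this
      · have := (sub_img (g := 1) (j := 0) (by norm_num) (by norm_num)).2
        rw [e1] at this; exact this
    exact this hx
  have hcard : Nat.card subR = 6048 := by
    rw [subR, Nat.card_congr (Subgroup.subgroupOfEquivOfLe subH_le).toEquiv, card_subH]
  symm
  refine Subgroup.eq_of_le_of_card_ge hle ?_
  have h := (MulAction.stabilizer rho.range (set100 0)).card_mul_index
  rw [MulAction.index_stabilizer, ncard_orbit, card_range_rho] at h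
  omega

/-- The subgroup of the Hall–Janko group. -/
noncomputable def subJ : Subgroup Cfsg.Spor.J2 := subR.comap j2Equiv.toMonoidHom

theorem index_subJ : subJ.index = 100 := by
  rw [subJ, Subgroup.index_comap_of_surjective _ j2Equiv.surjective, ← stabilizer_eq,
    MulAction.index_stabilizer, ncard_orbit]

theorem subJ_equiv :
    Nonempty (subJ ≃* Cfsg.PSU 3 Cfsg.Agent.Recog.PSUThreeThreeSpectrum.R9 3) := by
  obtain ⟨e⟩ := subH_equiv
  have hmap : subJ.map j2Equiv.toMonoidHom = subR :=
    Subgroup.map_comap_eq_self_of_surjective j2Equiv.surjective _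
  exact ⟨(((j2Equiv.subgroupMap subJ).trans (MulEquiv.subgroupCongr hmap)).trans
    (Subgroup.subgroupOfEquivOfLe subH_le)).trans e⟩

theorem orbit_tree {q : List (ℕ × ℕ × ℕ)} (hq : treeClosed q = true) (hne : 0 < q.length) :
    ∀ x : Finset (Fin 315),
      (∃ g ∈ subH, g • set100 (q.getD 0 (0, 0, 0)).1 = x) ↔ ∃ e ∈ q, set100 e.1 = x := by
  simp only [treeClosed, List.all_eq_true, List.mem_range, Bool.and_eq_true, Nat.blt_eq,
    Bool.or_eq_true, beq_iff_eq, List.contains_iff_mem] at hq
  intro x
  constructor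
  · rintro ⟨g, hg, rfl⟩
    have hm : g ∈ Submonoid.closure {y | y ∈ [genA, genB]} := by
      rw [← Subgroup.closure_toSubmonoid_of_finite]; exact hg
    refine Submonoid.closure_induction_left
      (motive := fun y _ => ∃ e ∈ q, set100 e.1 = y • set100 (q.getD 0 (0, 0, 0)).1) ?_ ?_ hm
    · refine ⟨q.getD 0 (0, 0, 0), ?_, (one_smul _ _).symm⟩
      rw [List.getD_eq_getElem _ _ hne]; exact List.getElem_mem _
    · rintro s hs y _ ⟨e, he, ee⟩
      simp only [Set.mem_ofPred_eq, List.mem_cons, List.not_mem_nil, or_false] at hs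
      obtain ⟨k, hk, rfl⟩ := List.getElem_of_mem he
      obtain ⟨⟨he100, -⟩, hc⟩ := hq k hk
      rw [List.getD_eq_getElem _ _ hk] at he100 hc
      rcases hs with rfl | rfl
      · obtain ⟨e', he', ee'⟩ := List.mem_map.1 (hc 0 (by norm_num))
        refine ⟨e', he', ?_⟩
        rw [mul_smul, ← ee, ee']
        exact ((sub_img (g := 0) (by norm_num) he100).2).symm
      · obtain ⟨e', he', ee'⟩ := List.mem_map.1 (hc 1 (by norm_num))
        refine ⟨e', he', ?_⟩
        rw [mul_smul, ← ee, ee']
        exact ((sub_img (g := 1) (by norm_num) he100).2).symm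
  · rintro ⟨e, he, rfl⟩
    obtain ⟨k, hk, rfl⟩ := List.getElem_of_mem he
    induction k using Nat.strong_induction_on with
    | _ k ih =>
      obtain ⟨⟨-, hcase⟩, -⟩ := hq k hk
      rcases hcase with rfl | ⟨⟨hp, hg⟩, he'⟩
      · exact ⟨1, one_mem _, by rw [one_smul, List.getD_eq_getElem _ _ hk]⟩
      · have hpk : (q.getD k (0, 0, 0)).2.1 < q.length := by omega
        obtain ⟨g, hgm, hge⟩ := ih _ hp hpk (List.getElem_mem hpk)
        have hp100 := (hq _ hpk).1.1
        rw [List.getD_eq_getElem _ _ hpk] at hp100 he'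
        obtain ⟨-, hs⟩ := sub_img hg hp100
        rw [he'] at hs
        replace hs := hs.trans (show set100 (q.getD k (0, 0, 0)).1 = set100 q[k].1 by
          rw [List.getD_eq_getElem _ _ hk])
        refine ⟨_ * g, mul_mem ?_ hgm, by rw [mul_smul, hge]; exact hs⟩
        exact Subgroup.subset_closure (List.getElem_mem _)

theorem ncard_coset_orbit {q : List (ℕ × ℕ × ℕ)} (hq : treeClosed q = true) (hne : 0 < q.length)
    (hnd : (q.map fun a => a.1).Nodup) :
    ∃ c : Cfsg.Spor.J2 ⧸ subJ, (MulAction.orbit subJ c).ncard = q.length := by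
  have hroot : (q.getD 0 (0, 0, 0)).1 < 100 := by
    have h := List.all_eq_true.1 hq 0 (List.mem_range.2 hne)
    simp only [Bool.and_eq_true, Nat.blt_eq] at h
    exact h.1.1
  obtain ⟨t, ht⟩ : set100 (q.getD 0 (0, 0, 0)).1 ∈ MulAction.orbit rho.range (set100 0) := by
    rw [orbit_sets]; exact ⟨_, hroot, rfl⟩
  have ht' : (t : Equiv.Perm (Fin 315)) • set100 0 = set100 (q.getD 0 (0, 0, 0)).1 := ht
  let val : Cfsg.Spor.J2 → Equiv.Perm (Fin 315) := fun g => (j2Equiv g : Equiv.Perm (Fin 315))
  have hmul : ∀ a b, val (a * b) = val a * val b := fun a b => by simp [val]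
  have hmem : ∀ g, g ∈ subJ ↔ val g ∈ subH := fun g => Iff.rfl
  let Φ : Cfsg.Spor.J2 ⧸ subJ → Finset (Fin 315) := fun c => val (Quotient.out c) • set100 0
  have hfix : ∀ g, val g • set100 0 = set100 0 ↔ g ∈ subJ := by
    intro g
    constructor
    · intro h
      have : j2Equiv g ∈ MulAction.stabilizer rho.range (set100 0) := h
      rw [stabilizer_eq] at this
      exact this
    · intro h
      have : j2Equiv g ∈ MulAction.stabilizer rho.range (set100 0) := by
        rw [stabilizer_eq]; exact h
      exact this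
  have hΦ : ∀ g : Cfsg.Spor.J2, Φ (QuotientGroup.mk g) = val g • set100 0 := by
    intro g
    obtain ⟨h, hh⟩ := QuotientGroup.mk_out_eq_mul subJ g
    show val (Quotient.out (QuotientGroup.mk g : Cfsg.Spor.J2 ⧸ subJ)) • set100 0 = _
    rw [hh, hmul, mul_smul, (hfix _).2 h.2]
  have hinj : Function.Injective Φ := by
    intro a b h
    induction a using QuotientGroup.induction_on with
    | _ x =>
      induction b using QuotientGroup.induction_on with
      | _ y =>
        rw [hΦ, hΦ] at h
        rw [QuotientGroup.eq, ← hfix, hmul, mul_smul, ← h, ← mul_smul, ← hmul, inv_mul_cancel]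
        simp [val]
  refine ⟨QuotientGroup.mk (j2Equiv.symm t), ?_⟩
  rw [← Set.ncard_image_of_injective _ hinj]
  have himg : Φ '' MulAction.orbit subJ (QuotientGroup.mk (j2Equiv.symm t) : Cfsg.Spor.J2 ⧸ subJ) =
      (fun j => set100 j) '' {j | j ∈ q.map fun a => a.1} := by
    ext x
    have hbase : val (j2Equiv.symm t) = t := by simp [val]
    constructor
    · rintro ⟨_, ⟨h, rfl⟩, rfl⟩
      show Φ (QuotientGroup.mk ((h : Cfsg.Spor.J2) * j2Equiv.symm t)) ∈ _
      rw [hΦ, hmul, mul_smul, hbase, ht']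
      obtain ⟨e, he, ee⟩ := (orbit_tree hq hne _).1 ⟨val h, (hmem _).1 h.2, rfl⟩
      exact ⟨e.1, List.mem_map.2 ⟨e, he, rfl⟩, ee⟩
    · rintro ⟨j, hj, rfl⟩
      obtain ⟨e, he, rfl⟩ := List.mem_map.1 (show j ∈ q.map fun a => a.1 from hj)
      obtain ⟨g, hg, hge⟩ := (orbit_tree hq hne _).2 ⟨e, he, rfl⟩
      have hgJ : j2Equiv.symm ⟨g, subH_le hg⟩ ∈ subJ := by
        rw [hmem]; simpa [val] using hg
      refine ⟨_, ⟨⟨_, hgJ⟩, rfl⟩, ?_⟩
      show Φ (QuotientGroup.mk (j2Equiv.symm ⟨g, subH_le hg⟩ * j2Equiv.symm t)) = _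
      rw [hΦ, hmul, mul_smul, hbase, ht']
      simpa [val] using hge
  rw [himg, Set.InjOn.ncard_image, ← List.coe_toFinset, Set.ncard_coe_finset,
    List.toFinset_card_of_nodup hnd, List.length_map]
  intro a ha b hb e
  have h100 : ∀ j ∈ q.map (fun a => a.1), j < 100 := by
    intro j hj
    obtain ⟨e, he, rfl⟩ := List.mem_map.1 hj
    obtain ⟨k, hk, rfl⟩ := List.getElem_of_mem he
    have h := List.all_eq_true.1 hq k (List.mem_range.2 hk)
    simp only [Bool.and_eq_true, Nat.blt_eq] at h
    have := h.1.1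
    rwa [List.getD_eq_getElem _ _ hk] at this
  exact set100_inj (h100 a ha) (h100 b hb) e

end Cfsg.Agent.Icosian.Sub100
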