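import Cfsg.Agent.Lib.Icosian.Ring

/-!
The icosian Leech lattice in the integer model, and its reflections.
-/

set_option autoImplicit false

namespace Cfsg.Agent.Icosian

open Quaternion Cfsg.Spor Qz

/-- `h` in the model. -/
def hq : Qz := ⟨1, -2, 1, 0, 1, 0, 1, 0⟩

theorem phi_hq : phi hq = icoH := by
  ext <;> simp [hq, icoH, zv, sqrt_five_eq] <;> ring

theorem ico_hq : Ico hq := rfl

theorem ico_hqc : Ico (Qz.conj hq) := rfl

theorem ico_cq' : Ico (⟨-1, -2, 1, 0, 1, 0, 1, 0⟩ : Qz) := rfl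

/-- A linear congruence form. -/
def lf (a b c d e f g h : ℤ) (p : Qz) : ℤ :=
  a * p.c0 + b * p.d0 + c * p.c1 + d * p.d1 + e * p.c2 + f * p.d2 + g * p.c3 + h * p.d3

/-- The ideal `I h` of the model. -/
def inH (p : Qz) : Bool :=
  icoB p && lf 3 2 3 0 1 0 1 0 p % 4 == 0 && lf 1 1 3 1 1 1 1 1 p % 4 == 0 &&
    lf 3 0 3 2 1 0 1 0 p % 4 == 0 && lf 3 1 1 1 1 1 1 1 p % 4 == 0

/-- The ideal `I h̄` of the model. -/
def inHb (p : Qz) : Bool :=
  icoB p && lf 2 3 3 0 0 0 1 1 p % 4 == 0 && lf 3 3 0 2 1 0 0 1 p % 4 == 0 &&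
    lf 1 3 1 1 1 1 1 1 p % 4 == 0 && lf 3 2 2 2 0 1 1 1 p % 4 == 0

theorem inH_iff {p : Qz} : inH p = true ↔ Ico p ∧ lf 3 2 3 0 1 0 1 0 p % 4 = 0 ∧
    lf 1 1 3 1 1 1 1 1 p % 4 = 0 ∧ lf 3 0 3 2 1 0 1 0 p % 4 = 0 ∧
    lf 3 1 1 1 1 1 1 1 p % 4 = 0 := by
  simp [inH, Ico, and_assoc]

theorem inHb_iff {p : Qz} : inHb p = true ↔ Ico p ∧ lf 2 3 3 0 0 0 1 1 p % 4 = 0 ∧
    lf 3 3 0 2 1 0 0 1 p % 4 = 0 ∧ lf 1 3 1 1 1 1 1 1 p % 4 = 0 ∧
    lf 3 2 2 2 0 1 1 1 p % 4 = 0 := by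
  simp [inHb, Ico, and_assoc]

theorem inH_add {p q : Qz} (hp : inH p = true) (hq' : inH q = true) :
    inH (add p q) = true := by
  rw [inH_iff] at *
  refine ⟨ico_add hp.1 hq'.1, ?_⟩
  obtain ⟨-, hp⟩ := hp
  obtain ⟨-, hq'⟩ := hq'
  simp only [lf, Qz.add] at *
  omega

theorem inH_neg {p : Qz} (hp : inH p = true) : inH (Qz.neg p) = true := by
  rw [inH_iff] at *
  refine ⟨ico_neg hp.1, ?_⟩
  obtain ⟨-, hp⟩ := hp
  simp only [lf, Qz.neg] at *
  omega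

theorem inHb_add {p q : Qz} (hp : inHb p = true) (hq' : inHb q = true) :
    inHb (add p q) = true := by
  rw [inHb_iff] at *
  refine ⟨ico_add hp.1 hq'.1, ?_⟩
  obtain ⟨-, hp⟩ := hp
  obtain ⟨-, hq'⟩ := hq'
  simp only [lf, Qz.add] at *
  omega

theorem inHb_neg {p : Qz} (hp : inHb p = true) : inHb (Qz.neg p) = true := by
  rw [inHb_iff] at *
  refine ⟨ico_neg hp.1, ?_⟩
  obtain ⟨-, hp⟩ := hp
  simp only [lf, Qz.neg] at *
  omega

theorem basis_mul_h :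
    (basisB.all fun b => inH (mul b hq) && inHb (mul b (Qz.conj hq))) = true := by decide +kernel

theorem inH_mul {a : Qz} (ha : Ico a) : inH (mul a hq) = true := by
  have hB := basis_mul_h
  simp only [List.all_eq_true, Bool.and_eq_true] at hB
  let T : AddSubgroup ℍ[ℝ] :=
    { carrier := phi '' {p | inH p = true}
      zero_mem' := ⟨Qz.zero, rfl, phi_zero⟩
      add_mem' := by
        rintro _ _ ⟨p, hp, rfl⟩ ⟨q, hq', rfl⟩; exact ⟨_, inH_add hp hq', phi_add p q⟩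
      neg_mem' := by rintro _ ⟨p, hp, rfl⟩; exact ⟨_, inH_neg hp, phi_neg p⟩ }
  obtain ⟨r, hr, e⟩ := icoGroup_le (S := T.comap (AddMonoidHom.mulRight (phi hq)))
    (fun b hb => ⟨mul b hq, (hB b hb).1,
      (phi_mul (icoB_of_basis hb) (show Ico hq from rfl)).symm⟩) ⟨a, ha, rfl⟩
  exact phi_injective (e.trans (phi_mul ha (show Ico hq from rfl))) ▸ hr

theorem inHb_mul {a : Qz} (ha : Ico a) : inHb (mul a (Qz.conj hq)) = true := by
  have hB := basis_mul_h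
  simp only [List.all_eq_true, Bool.and_eq_true] at hB
  let T : AddSubgroup ℍ[ℝ] :=
    { carrier := phi '' {p | inHb p = true}
      zero_mem' := ⟨Qz.zero, rfl, phi_zero⟩
      add_mem' := by
        rintro _ _ ⟨p, hp, rfl⟩ ⟨q, hq', rfl⟩; exact ⟨_, inHb_add hp hq', phi_add p q⟩
      neg_mem' := by rintro _ ⟨p, hp, rfl⟩; exact ⟨_, inHb_neg hp, phi_neg p⟩ }
  obtain ⟨r, hr, e⟩ := icoGroup_le (S := T.comap (AddMonoidHom.mulRight (phi (Qz.conj hq))))
    (fun b hb => ⟨mul b (Qz.conj hq), (hB b hb).2,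
      (phi_mul (icoB_of_basis hb) (show Ico (Qz.conj hq) from rfl)).symm⟩) ⟨a, ha, rfl⟩
  exact phi_injective (e.trans (phi_mul ha (show Ico (Qz.conj hq) from rfl))) ▸ hr

/-- A representative of `I` modulo `2I`. -/
def rep2 (e0 e1 e2 e3 e4 e5 e6 e7 : ℤ) : Qz :=
  ⟨e0, e1, e2, e3, e1 + e2 + e3 + 2 * e4, e0 + e1 + e2 + 2 * e5, e0 + e1 + e3 + 2 * e6,
    e0 + e2 + e3 + 2 * e7⟩

/-- All representatives of `I` modulo `2I`. -/
def reps2 : List Qz :=
  [0, 1].flatMap fun e0 => [0, 1].flatMap fun e1 => [0, 1].flatMap fun e2 => [0, 1].flatMap fun e3 =>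
  [0, 1].flatMap fun e4 => [0, 1].flatMap fun e5 => [0, 1].flatMap fun e6 =>
    [0, 1].map fun e7 => rep2 e0 e1 e2 e3 e4 e5 e6 e7

theorem exists_rep2 {p : Qz} (hp : Ico p) : ∃ r ∈ reps2, ∃ y, Ico y ∧ p = add r (dbl y) := by
  rw [ico_iff] at hp
  obtain ⟨k4, h4⟩ : ∃ k : ℤ, p.c2 = p.d0 + p.c1 + p.d1 + 2 * k :=
    ⟨(p.c2 - (p.d0 + p.c1 + p.d1)) / 2, by omega⟩
  obtain ⟨k5, h5⟩ : ∃ k : ℤ, p.d2 = p.c0 + p.d0 + p.c1 + 2 * k :=
    ⟨(p.d2 - (p.c0 + p.d0 + p.c1)) / 2, by omega⟩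
  obtain ⟨k6, h6⟩ : ∃ k : ℤ, p.c3 = p.c0 + p.d0 + p.d1 + 2 * k :=
    ⟨(p.c3 - (p.c0 + p.d0 + p.d1)) / 2, by omega⟩
  obtain ⟨k7, h7⟩ : ∃ k : ℤ, p.d3 = p.c0 + p.c1 + p.d1 + 2 * k :=
    ⟨(p.d3 - (p.c0 + p.c1 + p.d1)) / 2, by omega⟩
  have hb : ∀ x : ℤ, x % 2 ∈ [(0 : ℤ), 1] := fun x => by
    rcases Int.emod_two_eq x with h | h <;> simp [h]
  refine ⟨rep2 (p.c0 % 2) (p.d0 % 2) (p.c1 % 2) (p.d1 % 2) (k4 % 2) (k5 % 2) (k6 % 2) (k7 % 2), ?_,
    rep2 (p.c0 / 2) (p.d0 / 2) (p.c1 / 2) (p.d1 / 2) (k4 / 2) (k5 / 2) (k6 / 2) (k7 / 2), ?_, ?_⟩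
  · simp only [reps2, List.mem_flatMap, List.mem_map]
    exact ⟨_, hb _, _, hb _, _, hb _, _, hb _, _, hb _, _, hb _, _, hb _, _, hb _, rfl⟩
  · rw [ico_iff]; simp only [rep2]; omega
  · obtain ⟨c0, d0, c1, d1, c2, d2, c3, d3⟩ := p
    simp only [rep2, dbl, Qz.add, Qz.mk.injEq] at *
    refine ⟨?_, ?_, ?_, ?_, ?_, ?_, ?_, ?_⟩ <;> omega

theorem reps2_ok :
    (reps2.all fun r =>
      (!inH r || evenB (mul r (Qz.conj hq)) && icoB (half (mul r (Qz.conj hq)))) &&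
      (!inHb r || evenB (mul r hq) && icoB (half (mul r hq))) &&
      (!(inH r && inHb r) || evenB r && icoB (half r))) = true := by decide +kernel

theorem h_mul_hb : phi hq * phi (Qz.conj hq) = (2 : ℝ) • (1 : ℍ[ℝ]) := by
  rw [phi_mul ico_hq ico_hqc, ← phi_one, ← phi_dbl]; rfl

theorem hb_mul_h : phi (Qz.conj hq) * phi hq = (2 : ℝ) • (1 : ℍ[ℝ]) := by
  rw [phi_mul ico_hqc ico_hq, ← phi_one, ← phi_dbl]; rfl

theorem inH_dbl {y : Qz} (hy : Ico y) : inH (dbl y) = true := by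
  have e : dbl y = mul (mul y (Qz.conj hq)) hq := by
    apply phi_injective
    rw [← phi_mul (ico_mul hy ico_hqc) ico_hq, ← phi_mul hy ico_hqc, phi_dbl, mul_assoc, hb_mul_h,
      mul_smul_comm, mul_one]
  exact e ▸ inH_mul (ico_mul hy ico_hqc)

theorem inHb_dbl {y : Qz} (hy : Ico y) : inHb (dbl y) = true := by
  have e : dbl y = mul (mul y hq) (Qz.conj hq) := by
    apply phi_injective
    rw [← phi_mul (ico_mul hy ico_hq) ico_hqc, ← phi_mul hy ico_hq, phi_dbl, mul_assoc, h_mul_hb,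
      mul_smul_comm, mul_one]
  exact e ▸ inHb_mul (ico_mul hy ico_hq)

theorem inH_exists {x : Qz} (hx : inH x = true) : ∃ a, Ico a ∧ phi a * phi hq = phi x := by
  obtain ⟨r, hr, y, hy, rfl⟩ := exists_rep2 (inH_iff.1 hx).1
  have hr' : inH r = true := by
    have e : r = add (add r (dbl y)) (Qz.neg (dbl y)) := by
      cases r; simp [Qz.add, Qz.neg]
    rw [e]; exact inH_add hx (inH_neg (inH_dbl hy))
  have hR := List.all_eq_true.1 reps2_ok r hr
  simp only [Bool.and_eq_true, Bool.or_eq_true, hr', Bool.not_true, Bool.false_eq_true,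
    false_or] at hR
  have hh : Ico (half (mul r (Qz.conj hq))) := hR.1.1.2
  refine ⟨add (half (mul r (Qz.conj hq))) (mul y (Qz.conj hq)), ico_add hh (ico_mul hy ico_hqc), ?_⟩
  have e1 : (2 : ℝ) • (phi (half (mul r (Qz.conj hq))) * phi hq) = (2 : ℝ) • phi r := by
    rw [← smul_mul_assoc, ← phi_dbl, dbl_half hR.1.1.1, ← phi_mul (inH_iff.1 hr').1 ico_hqc, mul_assoc,
      hb_mul_h, mul_smul_comm, mul_one]
  rw [phi_add, add_mul, smul_right_injective ℍ[ℝ] (two_ne_zero' ℝ) e1, phi_add, phi_dbl,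
    ← phi_mul hy ico_hqc, mul_assoc, hb_mul_h, mul_smul_comm, mul_one]

theorem inHb_exists {x : Qz} (hx : inHb x = true) :
    ∃ a, Ico a ∧ phi a * phi (Qz.conj hq) = phi x := by
  obtain ⟨r, hr, y, hy, rfl⟩ := exists_rep2 (inHb_iff.1 hx).1
  have hr' : inHb r = true := by
    have e : r = add (add r (dbl y)) (Qz.neg (dbl y)) := by
      cases r; simp [Qz.add, Qz.neg]
    rw [e]; exact inHb_add hx (inHb_neg (inHb_dbl hy))
  have hR := List.all_eq_true.1 reps2_ok r hr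
  simp only [Bool.and_eq_true, Bool.or_eq_true, hr', Bool.not_true, Bool.false_eq_true,
    false_or] at hR
  have hh : Ico (half (mul r hq)) := hR.1.2.2
  refine ⟨add (half (mul r hq)) (mul y hq), ico_add hh (ico_mul hy ico_hq), ?_⟩
  have e1 : (2 : ℝ) • (phi (half (mul r hq)) * phi (Qz.conj hq)) = (2 : ℝ) • phi r := by
    rw [← smul_mul_assoc, ← phi_dbl, dbl_half hR.1.2.1, ← phi_mul (inHb_iff.1 hr').1 ico_hq, mul_assoc,
      h_mul_hb, mul_smul_comm, mul_one]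
  rw [phi_add, add_mul, smul_right_injective ℍ[ℝ] (two_ne_zero' ℝ) e1, phi_add, phi_dbl,
    ← phi_mul hy ico_hq, mul_assoc, h_mul_hb, mul_smul_comm, mul_one]

/-- An element of both ideals is twice an icosian. -/
theorem even_of_inH_inHb {p : Qz} (h1 : inH p = true) (h2 : inHb p = true) :
    evenB p = true ∧ Ico (half p) := by
  obtain ⟨r, hr, y, hy, rfl⟩ := exists_rep2 (inH_iff.1 h1).1
  have e : r = add (add r (dbl y)) (Qz.neg (dbl y)) := by
    cases r; simp [Qz.add, Qz.neg]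
  have a1 : inH r = true := by rw [e]; exact inH_add h1 (inH_neg (inH_dbl hy))
  have a2 : inHb r = true := by rw [e]; exact inHb_add h2 (inHb_neg (inHb_dbl hy))
  have hR := List.all_eq_true.1 reps2_ok r hr
  simp only [Bool.and_eq_true, Bool.or_eq_true] at hR
  obtain ⟨he, hh⟩ := hR.2.resolve_left (by simp [a1, a2])
  have ehalf : half (add r (dbl y)) = add (half r) y := by
    rw [evenB_iff] at he
    cases r; cases y
    simp only [half, dbl, Qz.add, Qz.mk.injEq] at *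
    omega
  refine ⟨?_, ehalf ▸ ico_add hh hy⟩
  rw [evenB_iff] at he ⊢
  simp only [dbl, Qz.add]
  omega

theorem mem_leftIdeal_h {p : Qz} : phi p ∈ leftIdeal icoH ↔ inH p = true := by
  constructor
  · rintro ⟨_, ha, e⟩
    obtain ⟨a, hA, rfl⟩ := mem_icosians.1 ha
    rw [← phi_hq, phi_mul hA (show Ico hq from rfl)] at e
    exact phi_injective e ▸ inH_mul hA
  · intro hp
    obtain ⟨a, h1, h2⟩ := inH_exists hp
    exact ⟨_, phi_mem_icosians h1, by rw [← phi_hq, h2]⟩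

theorem mem_leftIdeal_hb {p : Qz} : phi p ∈ leftIdeal (star icoH) ↔ inHb p = true := by
  constructor
  · rintro ⟨_, ha, e⟩
    obtain ⟨a, hA, rfl⟩ := mem_icosians.1 ha
    rw [← phi_hq, ← phi_conj, phi_mul hA (show Ico (Qz.conj hq) from rfl)] at e
    exact phi_injective e ▸ inHb_mul hA
  · intro hp
    obtain ⟨a, h1, h2⟩ := inHb_exists hp
    exact ⟨_, phi_mem_icosians h1, by rw [← phi_hq, ← phi_conj, h2]⟩

theorem leftIdeal_sub {q x y : ℍ[ℝ]} (hx : x ∈ leftIdeal q) (hy : y ∈ leftIdeal q) :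
    x - y ∈ leftIdeal q := by
  obtain ⟨a, ha, rfl⟩ := hx
  obtain ⟨b, hb, rfl⟩ := hy
  exact ⟨a - b, sub_mem ha hb, (sub_mul a b q).symm⟩

theorem leftIdeal_mul {q x a : ℍ[ℝ]} (ha : a ∈ icosians) (hx : x ∈ leftIdeal q) :
    a * x ∈ leftIdeal q := by
  obtain ⟨b, hb, rfl⟩ := hx
  exact ⟨a * b, mul_mem ha hb, (mul_assoc a b q).symm⟩

/-- A triple of model quaternions. -/
structure V3 where
  x : Qz
  y : Qz
  z : Qz
deriving DecidableEq

/-- The vector of a model triple. -/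
noncomputable def psi (v : V3) : Fin 3 → ℍ[ℝ] := ![phi v.x, phi v.y, phi v.z]

theorem psi_injective : Function.Injective psi := by
  intro u v h
  have h0 := phi_injective (congrFun h 0)
  have h1 := phi_injective (congrFun h 1)
  have h2 := phi_injective (congrFun h 2)
  cases u; cases v; simp_all

/-- The lattice in the model. -/
def lamB (v : V3) : Bool :=
  icoB v.x && icoB v.y && icoB v.z && inH (sub v.x v.y) && inH (sub v.y v.z) &&
    inHb (add (add v.x v.y) v.z)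

/-- `v` lies in the lattice. -/
def Lam (v : V3) : Prop := lamB v = true

theorem lam_iff {v : V3} : Lam v ↔ Ico v.x ∧ Ico v.y ∧ Ico v.z ∧ inH (sub v.x v.y) = true ∧
    inH (sub v.y v.z) = true ∧ inHb (add (add v.x v.y) v.z) = true := by
  simp [Lam, lamB, Ico, and_assoc]

theorem psi_mem {v : V3} (hv : Lam v) : psi v ∈ icoLeech := by
  obtain ⟨hx, hy, hz, a, b, c⟩ := lam_iff.1 hv
  refine ⟨fun t => ?_, ?_, ?_, ?_⟩
  · fin_cases t
    · exact phi_mem_icosians hx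
    · exact phi_mem_icosians hy
    · exact phi_mem_icosians hz
  · show phi v.x - phi v.y ∈ _; rw [← phi_sub, mem_leftIdeal_h]; exact a
  · show phi v.y - phi v.z ∈ _; rw [← phi_sub, mem_leftIdeal_h]; exact b
  · show phi v.x + phi v.y + phi v.z ∈ _; rw [← phi_add, ← phi_add, mem_leftIdeal_hb]; exact c

theorem exists_psi {w : Fin 3 → ℍ[ℝ]} (hw : w ∈ icoLeech) : ∃ v, Lam v ∧ psi v = w := by
  obtain ⟨h, a, b, c⟩ := hw
  obtain ⟨x, hx, ex⟩ := mem_icosians.1 (h 0)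
  obtain ⟨y, hy, ey⟩ := mem_icosians.1 (h 1)
  obtain ⟨z, hz, ez⟩ := mem_icosians.1 (h 2)
  refine ⟨⟨x, y, z⟩, lam_iff.2 ⟨hx, hy, hz, ?_, ?_, ?_⟩, ?_⟩
  · rw [← mem_leftIdeal_h, phi_sub, ex, ey]; exact a
  · rw [← mem_leftIdeal_h, phi_sub, ey, ez]; exact b
  · rw [← mem_leftIdeal_hb, phi_add, phi_add, ex, ey, ez]; exact c
  · funext t; fin_cases t <;> assumption

/-! ### Vectors with a left scalar multiplication -/

/-- Left scalar multiple. -/
noncomputable def lmul (a : ℍ[ℝ]) (v : Fin 3 → ℍ[ℝ]) : Fin 3 → ℍ[ℝ] := fun t => a * v t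

theorem sub_mem_leech {u v : Fin 3 → ℍ[ℝ]} (hu : u ∈ icoLeech) (hv : v ∈ icoLeech) :
    u - v ∈ icoLeech := by
  obtain ⟨hi, a, b, c⟩ := hu
  obtain ⟨hi', a', b', c'⟩ := hv
  refine ⟨fun t => sub_mem (hi t) (hi' t), ?_, ?_, ?_⟩
  · rw [show (u - v) 0 - (u - v) 1 = (u 0 - u 1) - (v 0 - v 1) by simp only [Pi.sub_apply]; abel]
    exact leftIdeal_sub a a'
  · rw [show (u - v) 1 - (u - v) 2 = (u 1 - u 2) - (v 1 - v 2) by simp only [Pi.sub_apply]; abel]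
    exact leftIdeal_sub b b'
  · rw [show (u - v) 0 + (u - v) 1 + (u - v) 2 = (u 0 + u 1 + u 2) - (v 0 + v 1 + v 2) by
      simp only [Pi.sub_apply]; abel]
    exact leftIdeal_sub c c'

theorem zero_mem_leech : (0 : Fin 3 → ℍ[ℝ]) ∈ icoLeech :=
  ⟨fun _ => zero_mem _, ⟨0, zero_mem _, by simp⟩, ⟨0, zero_mem _, by simp⟩,
    ⟨0, zero_mem _, by simp⟩⟩

theorem neg_mem_leech {u : Fin 3 → ℍ[ℝ]} (hu : u ∈ icoLeech) : -u ∈ icoLeech := by
  simpa using sub_mem_leech zero_mem_leech hu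

theorem add_mem_leech {u v : Fin 3 → ℍ[ℝ]} (hu : u ∈ icoLeech) (hv : v ∈ icoLeech) :
    u + v ∈ icoLeech := by
  simpa using sub_mem_leech hu (neg_mem_leech hv)

theorem lmul_mem_leech {a : ℍ[ℝ]} {u : Fin 3 → ℍ[ℝ]} (ha : a ∈ icosians) (hu : u ∈ icoLeech) :
    lmul a u ∈ icoLeech := by
  obtain ⟨hi, p, q, r⟩ := hu
  refine ⟨fun t => mul_mem ha (hi t), ?_, ?_, ?_⟩
  · show a * u 0 - a * u 1 ∈ _; rw [← mul_sub]; exact leftIdeal_mul ha p
  · show a * u 1 - a * u 2 ∈ _; rw [← mul_sub]; exact leftIdeal_mul ha q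
  · show a * u 0 + a * u 1 + a * u 2 ∈ _; rw [← mul_add, ← mul_add]; exact leftIdeal_mul ha r

theorem qip_eq (x r : Fin 3 → ℍ[ℝ]) :
    qip x r = x 0 * star (r 0) + x 1 * star (r 1) + x 2 * star (r 2) := by
  rw [qip, Fin.sum_univ_three]

theorem qip_sub_left (x y r : Fin 3 → ℍ[ℝ]) : qip (x - y) r = qip x r - qip y r := by
  simp only [qip_eq, Pi.sub_apply, sub_mul]; abel

theorem qip_sub_right (x y r : Fin 3 → ℍ[ℝ]) : qip r (x - y) = qip r x - qip r y := by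
  simp only [qip_eq, Pi.sub_apply, star_sub, mul_sub]; abel

theorem qip_add_left (x y r : Fin 3 → ℍ[ℝ]) : qip (x + y) r = qip x r + qip y r := by
  simp only [qip_eq, Pi.add_apply, add_mul]; abel

theorem qip_add_right (x y r : Fin 3 → ℍ[ℝ]) : qip r (x + y) = qip r x + qip r y := by
  simp only [qip_eq, Pi.add_apply, star_add, mul_add]; abel

theorem qip_lmul_left (a : ℍ[ℝ]) (x r : Fin 3 → ℍ[ℝ]) : qip (lmul a x) r = a * qip x r := by
  simp only [qip_eq, lmul, mul_add, mul_assoc]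

theorem qip_lmul_right (a : ℍ[ℝ]) (x r : Fin 3 → ℍ[ℝ]) :
    qip r (lmul a x) = qip r x * star a := by
  simp only [qip_eq, lmul, star_mul, add_mul, mul_assoc]

theorem star_qip (x r : Fin 3 → ℍ[ℝ]) : star (qip x r) = qip r x := by
  simp only [qip_eq, star_add, star_mul, star_star]

theorem qrefl_eq (r x : Fin 3 → ℍ[ℝ]) :
    qrefl r x = x - lmul ((1 / 2 : ℝ) • qip x r) r := rfl

/-- Hermitian product in the model. -/
def ipz (u v : V3) : Qz :=
  add (add (mul u.x (Qz.conj v.x)) (mul u.y (Qz.conj v.y))) (mul u.z (Qz.conj v.z))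

theorem qip_psi {u v : V3} (hu : Lam u) (hv : Lam v) : qip (psi u) (psi v) = phi (ipz u v) := by
  obtain ⟨a, b, c, -⟩ := lam_iff.1 hu
  obtain ⟨a', b', c', -⟩ := lam_iff.1 hv
  rw [qip_eq, ipz, phi_add, phi_add, ← phi_mul a (ico_conj a'), ← phi_mul b (ico_conj b'),
    ← phi_mul c (ico_conj c'), phi_conj, phi_conj, phi_conj]
  rfl

theorem ico_ipz {u v : V3} (hu : Lam u) (hv : Lam v) : Ico (ipz u v) := by
  obtain ⟨a, b, c, -⟩ := lam_iff.1 hu
  obtain ⟨a', b', c', -⟩ := lam_iff.1 hv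
  exact ico_add (ico_add (ico_mul a (ico_conj a')) (ico_mul b (ico_conj b')))
    (ico_mul c (ico_conj c'))

/-- The element `c` with `1 - c ∈ I h` and `2 + c ∈ I h̄`. -/
def cq : Qz := ⟨-1, -2, 1, 0, 1, 0, 1, 0⟩

/-- Module generators of the lattice. -/
def latGens : List V3 :=
  [⟨Qz.one, Qz.one, cq⟩, ⟨Qz.zero, hq, Qz.neg hq⟩, ⟨Qz.zero, Qz.zero, dbl Qz.one⟩]

theorem latGens_ok :
    (latGens.all fun u => lamB u &&
      latGens.all fun v => evenB (ipz u v) && icoB (half (ipz u v))) = true := by decide +kernel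

theorem decompose {v : V3} (hv : Lam v) : ∃ a b c : Qz, Ico a ∧ Ico b ∧ Ico c ∧
    psi v = lmul (phi a) (psi ⟨Qz.one, Qz.one, cq⟩) + lmul (phi b) (psi ⟨Qz.zero, hq, Qz.neg hq⟩) +
      lmul (phi c) (psi ⟨Qz.zero, Qz.zero, dbl Qz.one⟩) := by
  obtain ⟨hx, hy, hz, h1, h2, h3⟩ := lam_iff.1 hv
  set w := add (sub v.z (mul v.x cq)) (sub v.y v.x) with hw
  have i1 := mem_leftIdeal_h.2 h1
  have i2 := mem_leftIdeal_h.2 h2
  have i3 := mem_leftIdeal_hb.2 h3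
  have c1 : phi Qz.one - phi cq ∈ leftIdeal icoH := by
    rw [← phi_sub]; exact mem_leftIdeal_h.2 (by decide +kernel)
  have c2 : phi Qz.one + phi Qz.one + phi cq ∈ leftIdeal (star icoH) := by
    rw [← phi_add, ← phi_add]; exact mem_leftIdeal_hb.2 (by decide +kernel)
  simp only [phi_sub, phi_add] at i1 i2 i3
  rw [phi_one] at c1 c2
  have z0 : (0 : ℍ[ℝ]) ∈ leftIdeal icoH := ⟨0, zero_mem _, by simp⟩
  have ew : phi w = phi v.z - phi v.x * phi cq + (phi v.y - phi v.x) := by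
    rw [hw, phi_add, phi_sub, phi_sub, phi_mul hx (show Ico cq from rfl)]
  have hyx : inH (sub v.y v.x) = true := by
    rw [← mem_leftIdeal_h, phi_sub]
    simpa using leftIdeal_sub z0 i1
  have key := even_of_inH_inHb (p := w) (mem_leftIdeal_h.1 (by
      rw [ew, show phi v.z - phi v.x * phi cq + (phi v.y - phi v.x) =
        phi v.x * (1 - phi cq) - (phi v.y - phi v.z) - ((phi v.x - phi v.y) - (0 - (phi v.x - phi v.y))) by
          rw [mul_sub, mul_one]; abel]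
      exact leftIdeal_sub (leftIdeal_sub (leftIdeal_mul (phi_mem_icosians hx) c1) i2)
        (leftIdeal_sub i1 (leftIdeal_sub z0 i1))))
    (mem_leftIdeal_hb.1 (by
      rw [ew, show phi v.z - phi v.x * phi cq + (phi v.y - phi v.x) =
        (phi v.x + phi v.y + phi v.z) - phi v.x * (1 + 1 + phi cq) by
          rw [mul_add, mul_add, mul_one]; abel]
      exact leftIdeal_sub i3 (leftIdeal_mul (phi_mem_icosians hx) c2)))
  obtain ⟨b, hb, hb'⟩ := inH_exists hyx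
  refine ⟨v.x, b, _, hx, hb, key.2, ?_⟩
  have e1 : phi b * phi hq = phi v.y - phi v.x := by rw [hb', phi_sub]
  have e2 : (2 : ℝ) • phi (half w) = phi v.z - phi v.x * phi cq + (phi v.y - phi v.x) := by
    rw [← phi_dbl, dbl_half key.1, ew]
  funext t
  fin_cases t
  · simp [psi, lmul, phi_one, phi_zero]
  · show phi v.y = phi v.x * phi Qz.one + _ * phi hq + _ * phi Qz.zero
    rw [phi_one, phi_zero, e1]; simp
  · show phi v.z = phi v.x * phi cq + _ * phi (Qz.neg hq) + phi (half w) * phi (dbl Qz.one)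
    rw [phi_neg, mul_neg, e1, phi_dbl, phi_one, mul_smul_comm, mul_one, e2]; abel

theorem qip_mem_two {x y : Fin 3 → ℍ[ℝ]} (hx : x ∈ icoLeech) (hy : y ∈ icoLeech) :
    ∃ s ∈ icosians, qip x y = (2 : ℝ) • s := by
  obtain ⟨u, hu, rfl⟩ := exists_psi hx
  obtain ⟨v, hv, rfl⟩ := exists_psi hy
  let S : AddSubgroup ℍ[ℝ] :=
    icosians.toAddSubgroup.map (DistribSMul.toAddMonoidHom ℍ[ℝ] (2 : ℝ))
  have hmul : ∀ a ∈ icosians, ∀ b ∈ icosians, ∀ s ∈ S, a * s * b ∈ S := by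
    rintro a ha b hb _ ⟨s, hs, rfl⟩
    have hs' : s ∈ icosians := hs
    have hasb : a * s * b ∈ icosians := mul_mem (mul_mem ha hs') hb
    refine ⟨a * s * b, hasb, ?_⟩
    show (2 : ℝ) • (a * s * b) = a * ((2 : ℝ) • s) * b
    rw [mul_smul_comm, smul_mul_assoc]
  have hG := latGens_ok
  simp only [List.all_eq_true, Bool.and_eq_true] at hG
  have base : ∀ g ∈ latGens, ∀ g' ∈ latGens, qip (psi g) (psi g') ∈ S := by
    intro g hg g' hg'
    obtain ⟨he, hh⟩ := (hG g hg).2 g' hg'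
    refine ⟨phi (half (ipz g g')), phi_mem_icosians hh, ?_⟩
    show (2 : ℝ) • phi (half (ipz g g')) = _
    rw [qip_psi (hG g hg).1 (hG g' hg').1, ← phi_dbl, dbl_half he]
  obtain ⟨a, b, c, ha, hb, hc, eu⟩ := decompose hu
  obtain ⟨a', b', c', ha', hb', hc', ev⟩ := decompose hv
  have hstar : ∀ {p : Qz}, Ico p → star (phi p) ∈ icosians := fun hp => by
    rw [← phi_conj]; exact phi_mem_icosians (ico_conj hp)
  have : qip (psi u) (psi v) ∈ S := by
    simp only [eu, ev, qip_add_left, qip_add_right, qip_lmul_left, qip_lmul_right]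
    simp only [add_mul]
    repeat' apply add_mem
    all_goals
      refine hmul _ (phi_mem_icosians (by assumption)) _ (hstar (by assumption)) _ (base _ ?_ _ ?_)
    all_goals simp [latGens]
  obtain ⟨s, hs, e⟩ := this
  exact ⟨s, hs, e.symm⟩

theorem qrefl_mem {r x : Fin 3 → ℍ[ℝ]} (hr : r ∈ icoLeech) (hx : x ∈ icoLeech) :
    qrefl r x ∈ icoLeech := by
  obtain ⟨s, hs, e⟩ := qip_mem_two hx hr
  rw [qrefl_eq, e, smul_smul, show (1 / 2 : ℝ) * 2 = 1 by norm_num, one_smul]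
  exact sub_mem_leech hx (lmul_mem_leech hs hr)

theorem mul_four (a : ℍ[ℝ]) : a * 4 = (4 : ℝ) • a := by
  rw [show (4 : ℍ[ℝ]) = algebraMap ℝ ℍ[ℝ] 4 from (map_ofNat _ 4).symm, ← Algebra.commutes,
    ← Algebra.smul_def]

theorem qip_qrefl {r : Fin 3 → ℍ[ℝ]} (hr : qip r r = 4) (x : Fin 3 → ℍ[ℝ]) :
    qip (qrefl r x) r = -qip x r := by
  rw [qrefl_eq, qip_sub_left, qip_lmul_left, hr, mul_four, smul_smul,
    show (4 : ℝ) * (1 / 2) = 1 + 1 by norm_num, add_smul, one_smul]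
  abel

theorem qrefl_qrefl {r : Fin 3 → ℍ[ℝ]} (hr : qip r r = 4) (x : Fin 3 → ℍ[ℝ]) :
    qrefl r (qrefl r x) = x := by
  rw [qrefl_eq r (qrefl r x), qip_qrefl hr, qrefl_eq]
  funext t
  simp [lmul]

theorem qrefl_self {r : Fin 3 → ℍ[ℝ]} (hr : qip r r = 4) : qrefl r r = -r := by
  rw [qrefl_eq, hr]
  funext t
  simp only [lmul, Pi.sub_apply, Pi.neg_apply, smul_mul_assoc]
  rw [show (4 : ℍ[ℝ]) * r t = (4 : ℝ) • r t by
    rw [show (4 : ℍ[ℝ]) = algebraMap ℝ ℍ[ℝ] 4 from (map_ofNat _ 4).symm, ← Algebra.smul_def],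
    smul_smul,
    show (1 / 2 : ℝ) * 4 = 1 + 1 by norm_num, add_smul, one_smul]
  abel

/-- The reflection in a vector of norm 4 as a permutation of the lattice. -/
noncomputable def reflPerm (r : icoLeech) (hr : qip (r : Fin 3 → ℍ[ℝ]) r = 4) :
    Equiv.Perm icoLeech :=
  Function.Involutive.toPerm (fun x => ⟨qrefl r x, qrefl_mem r.2 x.2⟩)
    (fun x => Subtype.ext (qrefl_qrefl hr _))

theorem coe_reflPerm (r : icoLeech) (hr : qip (r : Fin 3 → ℍ[ℝ]) r = 4) (x : icoLeech) :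
    ((reflPerm r hr x : icoLeech) : Fin 3 → ℍ[ℝ]) = qrefl r x := rfl

theorem isIcoReflection_iff {f : Equiv.Perm icoLeech} :
    IsIcoReflection f ↔ ∃ r : icoLeech, ∃ hr : qip (r : Fin 3 → ℍ[ℝ]) r = 4, f = reflPerm r hr :=
  ⟨fun ⟨r, hr, h⟩ => ⟨r, hr, Equiv.ext fun x => Subtype.ext (h x)⟩,
    fun ⟨r, hr, h⟩ => ⟨r, hr, fun x => by rw [h, coe_reflPerm]⟩⟩

end Cfsg.Agent.Icosian
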