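import Cfsg.Agent.Lib.Icosian.ReflData

/-!
Kernel check of the four reflection tables.
-/

set_option autoImplicit false
set_option maxRecDepth 100000

namespace Cfsg.Agent.Icosian

open Qz Enum

/-- A field of a table of lines. -/
def app (p i : ℕ) : ℕ := Nat.land (Nat.shiftRight p (9 * i)) 511

/-- The image of a vector under a reflection, in the model. -/
def reflV (r x : V3) : V3 :=
  ⟨sub x.x (mul (half (ipz x r)) r.x), sub x.y (mul (half (ipz x r)) r.y),
    sub x.z (mul (half (ipz x r)) r.z)⟩

/-- A check on one reflection table at one line. -/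
def reflEntryOk (g t u i : ℕ) : Bool :=
  reflV (lines.getD g ⟨Qz.zero, Qz.zero, Qz.zero⟩) (lines.getD i ⟨Qz.zero, Qz.zero, Qz.zero⟩) ==
    smulV (units.getD (Nat.land (Nat.shiftRight u (7 * i)) 127) Qz.zero)
      (lines.getD (app t i) ⟨Qz.zero, Qz.zero, Qz.zero⟩) &&
    Nat.blt (Nat.land (Nat.shiftRight u (7 * i)) 127) units.length && Nat.blt (app t i) 315

theorem reflData_check :
    (reflData.all fun e => Nat.blt e.1 315 &&
      (List.range 315).all fun i => reflEntryOk e.1 e.2.1 e.2.2 i) = true := by decide +kernel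

end Cfsg.Agent.Icosian
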