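import Cfsg.Agent.Lib.Icosian.Short
import Cfsg.Agent.Lib.Icosian.ReflCheck

/-!
The action of `twoJ2` on the 315 lines.
-/

set_option autoImplicit false
set_option maxRecDepth 100000

namespace Cfsg.Agent.Icosian

open Quaternion Cfsg.Spor Qz Enum

/-- A permutation of the lattice which is left linear and preserves the Hermitian product. -/
def goodGroup : Subgroup (Equiv.Perm icoLeech) where
  carrier := {g | (∀ a ∈ icosians, ∀ x y : icoLeech, (y : Fin 3 → ℍ[ℝ]) = lmul a x →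
      ((g y : icoLeech) : Fin 3 → ℍ[ℝ]) = lmul a (g x : icoLeech)) ∧
    (∀ x y z : icoLeech, (z : Fin 3 → ℍ[ℝ]) = (x : Fin 3 → ℍ[ℝ]) + y →
      ((g z : icoLeech) : Fin 3 → ℍ[ℝ]) = ((g x : icoLeech) : Fin 3 → ℍ[ℝ]) + (g y : icoLeech)) ∧
    ∀ x y : icoLeech, qip (g x : icoLeech) (g y : icoLeech) =
      qip (x : Fin 3 → ℍ[ℝ]) (y : Fin 3 → ℍ[ℝ])}
  one_mem' := ⟨fun _ _ _ _ h => h, fun _ _ _ h => h, fun _ _ => rfl⟩
  mul_mem' := by
    rintro g h ⟨g1, g2, g3⟩ ⟨h1, h2, h3⟩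
    exact ⟨fun a ha x y e => g1 a ha _ _ (h1 a ha x y e),
      fun x y z e => g2 _ _ _ (h2 x y z e), fun x y => (g3 _ _).trans (h3 x y)⟩
  inv_mem' := by
    rintro g ⟨g1, g2, g3⟩
    refine ⟨fun a ha x y e => ?_, fun x y z e => ?_, fun x y => ?_⟩
    · let w : icoLeech := ⟨lmul a (g⁻¹ x : icoLeech), lmul_mem_leech ha (g⁻¹ x).2⟩
      have hw : g w = y := by
        apply Subtype.ext
        rw [g1 a ha (g⁻¹ x) w rfl, Equiv.Perm.coe_inv, Equiv.apply_symm_apply, e]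
      rw [← hw, Equiv.Perm.coe_inv, Equiv.symm_apply_apply]
      rfl
    · let w : icoLeech := ⟨((g⁻¹ x : icoLeech) : Fin 3 → ℍ[ℝ]) + (g⁻¹ y : icoLeech),
        add_mem_leech (g⁻¹ x).2 (g⁻¹ y).2⟩
      have hw : g w = z := by
        apply Subtype.ext
        rw [g2 (g⁻¹ x) (g⁻¹ y) w rfl, Equiv.Perm.coe_inv, Equiv.apply_symm_apply,
          Equiv.apply_symm_apply, e]
      rw [← hw, Equiv.Perm.coe_inv, Equiv.symm_apply_apply]
      rfl
    · rw [← g3 (g⁻¹ x) (g⁻¹ y), Equiv.Perm.coe_inv, Equiv.apply_symm_apply, Equiv.apply_symm_apply]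

theorem good_iff {g : Equiv.Perm icoLeech} : g ∈ goodGroup ↔
    (∀ a ∈ icosians, ∀ x y : icoLeech, (y : Fin 3 → ℍ[ℝ]) = lmul a x →
      ((g y : icoLeech) : Fin 3 → ℍ[ℝ]) = lmul a (g x : icoLeech)) ∧
    (∀ x y z : icoLeech, (z : Fin 3 → ℍ[ℝ]) = (x : Fin 3 → ℍ[ℝ]) + y →
      ((g z : icoLeech) : Fin 3 → ℍ[ℝ]) = ((g x : icoLeech) : Fin 3 → ℍ[ℝ]) + (g y : icoLeech)) ∧
    ∀ x y : icoLeech, qip (g x : icoLeech) (g y : icoLeech) =
      qip (x : Fin 3 → ℍ[ℝ]) (y : Fin 3 → ℍ[ℝ]) := Iff.rfl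

theorem qip_qrefl_qrefl {r : Fin 3 → ℍ[ℝ]} (hr : qip r r = 4) (x y : Fin 3 → ℍ[ℝ]) :
    qip (qrefl r x) (qrefl r y) = qip x y := by
  rw [qrefl_eq r y, qip_sub_right, qip_lmul_right, qip_qrefl hr, qrefl_eq, qip_sub_left,
    qip_lmul_left, Quaternion.star_smul, star_qip]
  simp only [smul_mul_assoc, mul_smul_comm, neg_mul]
  module

theorem reflPerm_good (r : icoLeech) (hr : qip (r : Fin 3 → ℍ[ℝ]) r = 4) :
    reflPerm r hr ∈ goodGroup := by
  refine good_iff.2 ⟨fun a _ x y e => ?_, fun x y z e => ?_, fun x y => ?_⟩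
  · rw [coe_reflPerm, coe_reflPerm, e, qrefl_eq, qrefl_eq, qip_lmul_left]
    funext t
    simp only [lmul, Pi.sub_apply, mul_sub, smul_mul_assoc, mul_smul_comm, mul_assoc]
  · rw [coe_reflPerm, coe_reflPerm, coe_reflPerm, e, qrefl_eq, qrefl_eq, qrefl_eq, qip_add_left]
    funext t
    simp only [lmul, Pi.sub_apply, Pi.add_apply, smul_add, add_mul]
    abel
  · simp only [coe_reflPerm]; exact qip_qrefl_qrefl hr _ _

theorem twoJ2_le_good : twoJ2 ≤ goodGroup := by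
  rw [twoJ2, Subgroup.closure_le]
  intro f hf
  obtain ⟨r, hr, rfl⟩ := isIcoReflection_iff.1 hf
  exact reflPerm_good r hr

theorem conj_reflPerm {g : Equiv.Perm icoLeech} (hg : g ∈ goodGroup) (r : icoLeech)
    (hr : qip (r : Fin 3 → ℍ[ℝ]) r = 4)
    (hr' : qip ((g r : icoLeech) : Fin 3 → ℍ[ℝ]) (g r : icoLeech) = 4) :
    g * reflPerm r hr * g⁻¹ = reflPerm (g r) hr' := by
  obtain ⟨g1, g2, g3⟩ := good_iff.1 hg
  rw [mul_inv_eq_iff_eq_mul]
  refine Equiv.ext fun x => Subtype.ext ?_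
  rw [Equiv.Perm.mul_apply, Equiv.Perm.mul_apply, coe_reflPerm (g r)]
  obtain ⟨s, hs, e⟩ := qip_mem_two x.2 r.2
  have hhalf : (1 / 2 : ℝ) • qip (x : Fin 3 → ℍ[ℝ]) r = s := by
    rw [e, smul_smul]; norm_num
  have h1 : (x : Fin 3 → ℍ[ℝ]) = ((reflPerm r hr x : icoLeech) : Fin 3 → ℍ[ℝ]) +
      ((⟨lmul s r, lmul_mem_leech hs r.2⟩ : icoLeech) : Fin 3 → ℍ[ℝ]) := by
    rw [coe_reflPerm, qrefl_eq, hhalf]; simp
  have h2 := g2 _ _ _ h1
  rw [g1 s hs r ⟨lmul s r, lmul_mem_leech hs r.2⟩ rfl] at h2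
  rw [qrefl_eq, g3, hhalf, h2]
  simp

theorem reflPerm_congr {r r' : icoLeech} (hr : qip (r : Fin 3 → ℍ[ℝ]) r = 4)
    (hr' : qip (r' : Fin 3 → ℍ[ℝ]) r' = 4) {q : ℍ[ℝ]} (hq : star q * q = 1)
    (e : (r' : Fin 3 → ℍ[ℝ]) = lmul q r) : reflPerm r' hr' = reflPerm r hr := by
  refine Equiv.ext fun x => Subtype.ext ?_
  rw [coe_reflPerm, coe_reflPerm, qrefl_eq, qrefl_eq, e, qip_lmul_right]
  funext t
  simp only [lmul, Pi.sub_apply, smul_mul_assoc, mul_assoc]
  rw [← mul_assoc (star q), hq, one_mul]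

/-- A line representative as a lattice point. -/
noncomputable def pointL (i : Fin 315) : icoLeech := ⟨psi (line i), psi_mem (line_spec i).1⟩

theorem qip_pointL (i : Fin 315) :
    qip (pointL i : Fin 3 → ℍ[ℝ]) (pointL i : Fin 3 → ℍ[ℝ]) = 4 :=
  (line_spec i).2

/-- The reflection of a line. -/
noncomputable def lineRefl (i : Fin 315) : Equiv.Perm icoLeech := reflPerm (pointL i) (qip_pointL i)

theorem exists_lineRefl {f : Equiv.Perm icoLeech} (hf : IsIcoReflection f) : ∃ i, f = lineRefl i := by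
  obtain ⟨r, hr, rfl⟩ := isIcoReflection_iff.1 hf
  obtain ⟨i, u, hu, e⟩ := exists_smul_line r.2 hr
  refine ⟨i, reflPerm_congr _ hr ?_ e⟩
  rw [star_star]; exact (unit_spec hu).2.1

theorem lineRefl_isRefl (i : Fin 315) : IsIcoReflection (lineRefl i) :=
  isIcoReflection_iff.2 ⟨_, _, rfl⟩

theorem lineRefl_mem (i : Fin 315) : lineRefl i ∈ twoJ2 :=
  Subgroup.subset_closure (lineRefl_isRefl i)

theorem exists_mul_two {w : Fin 3 → ℍ[ℝ]} (hw : w ∈ icoLeech) (h : qip w w = 4) :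
    ∃ i, ∃ q : ℍ[ℝ], q * star q = 1 ∧ star q * q = 1 ∧ w = lmul q (psi (line i)) := by
  obtain ⟨i, u, hu, e⟩ := exists_smul_line hw h
  obtain ⟨-, h1, h2⟩ := unit_spec hu
  exact ⟨i, star (phi u), by rw [star_star]; exact h2, by rw [star_star]; exact h1, e⟩

theorem exists_lineOf (g : goodGroup) (i : Fin 315) :
    ∃ j, ∃ q : ℍ[ℝ], q * star q = 1 ∧ star q * q = 1 ∧
      ((g.1 (pointL i) : icoLeech) : Fin 3 → ℍ[ℝ]) = lmul q (psi (line j)) :=
  exists_mul_two (g.1 (pointL i)).2 (by rw [(good_iff.1 g.2).2.2]; exact qip_pointL i)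

/-- The image of a line. -/
noncomputable def lineOf (g : goodGroup) (i : Fin 315) : Fin 315 := (exists_lineOf g i).choose

theorem lineOf_eq {g : goodGroup} {i j : Fin 315} {q : ℍ[ℝ]}
    (e : ((g.1 (pointL i) : icoLeech) : Fin 3 → ℍ[ℝ]) = lmul q (psi (line j))) :
    lineOf g i = j := by
  obtain ⟨p, h1, h2, e'⟩ := (exists_lineOf g i).choose_spec
  refine line_eq_of_smul (q := star p * q) ?_
  have := e'.symm.trans e
  funext t
  have ht := congrFun this t
  simp only [lmul] at ht ⊢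
  rw [mul_assoc, ← ht, ← mul_assoc, h2, one_mul]
  rfl

theorem lineOf_one (i : Fin 315) : lineOf 1 i = i :=
  lineOf_eq (q := 1) (by funext t; simp [pointL, lmul])

/-- The icosian multiplier of a unit multiple, which is an icosian. -/
theorem exists_lineOf_unit (g : goodGroup) (i : Fin 315) :
    ∃ q ∈ icosians, ((g.1 (pointL i) : icoLeech) : Fin 3 → ℍ[ℝ]) = lmul q (psi (line (lineOf g i))) := by
  obtain ⟨j, u, hu, e⟩ := exists_smul_line (g.1 (pointL i)).2
    (by rw [(good_iff.1 g.2).2.2]; exact qip_pointL i)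
  refine ⟨star (phi u), ?_, by rw [lineOf_eq e]; exact e⟩
  rw [← phi_conj]; exact phi_mem_icosians (ico_conj (unit_spec hu).1)

theorem lineOf_mul (g h : goodGroup) (i : Fin 315) :
    lineOf (g * h) i = lineOf g (lineOf h i) := by
  obtain ⟨q, hq, e⟩ := exists_lineOf_unit h i
  obtain ⟨p, hp, e'⟩ := exists_lineOf_unit g (lineOf h i)
  refine lineOf_eq (q := q * p) ?_
  show ((g.1 (h.1 (pointL i)) : icoLeech) : Fin 3 → ℍ[ℝ]) = _
  rw [(good_iff.1 g.2).1 q hq (pointL (lineOf h i)) (h.1 (pointL i)) e, e']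
  funext t
  simp [lmul, mul_assoc]

/-- The action on lines. -/
noncomputable def rhoGood : goodGroup →* Equiv.Perm (Fin 315) where
  toFun g :=
    { toFun := lineOf g
      invFun := lineOf g⁻¹
      left_inv := fun i => by rw [← lineOf_mul, inv_mul_cancel, lineOf_one]
      right_inv := fun i => by rw [← lineOf_mul, mul_inv_cancel, lineOf_one] }
  map_one' := Equiv.ext lineOf_one
  map_mul' g h := Equiv.ext (lineOf_mul g h)

/-- The action of `twoJ2` on lines. -/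
noncomputable def rho : twoJ2 →* Equiv.Perm (Fin 315) :=
  rhoGood.comp (Subgroup.inclusion twoJ2_le_good)

theorem rho_apply_eq {g : twoJ2} {i j : Fin 315} {q : ℍ[ℝ]}
    (e : ((g.1 (pointL i) : icoLeech) : Fin 3 → ℍ[ℝ]) = lmul q (psi (line j))) :
    rho g i = j :=
  lineOf_eq (g := Subgroup.inclusion twoJ2_le_good g) e

theorem exists_rho_unit (g : twoJ2) (i : Fin 315) :
    ∃ q ∈ icosians, ((g.1 (pointL i) : icoLeech) : Fin 3 → ℍ[ℝ]) = lmul q (psi (line (rho g i))) :=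
  exists_lineOf_unit (Subgroup.inclusion twoJ2_le_good g) i

/-- The reflection of a line as an element of `twoJ2`. -/
noncomputable def refl2 (i : Fin 315) : twoJ2 := ⟨lineRefl i, lineRefl_mem i⟩

theorem conj_refl2 (g : twoJ2) (i : Fin 315) : g * refl2 i * g⁻¹ = refl2 (rho g i) := by
  apply Subtype.ext
  show (g : Equiv.Perm icoLeech) * lineRefl i * (g : Equiv.Perm icoLeech)⁻¹ = lineRefl (rho g i)
  have hg := twoJ2_le_good g.2
  have hq4 : qip ((g.1 (pointL i) : icoLeech) : Fin 3 → ℍ[ℝ]) (g.1 (pointL i) : icoLeech) = 4 := by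
    rw [(good_iff.1 hg).2.2]; exact qip_pointL i
  rw [lineRefl, conj_reflPerm hg _ _ hq4]
  obtain ⟨j, u, hu, e⟩ := exists_smul_line (g.1 (pointL i)).2 hq4
  rw [rho_apply_eq e]
  refine reflPerm_congr _ _ ?_ e
  rw [star_star]; exact (unit_spec hu).2.1

theorem lineRefl_injective : Function.Injective lineRefl := by
  intro i j h
  have e := congrArg (fun f : Equiv.Perm icoLeech => ((f (pointL i) : icoLeech) : Fin 3 → ℍ[ℝ])) h
  simp only [lineRefl, coe_reflPerm] at e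
  rw [qrefl_self (qip_pointL i), qrefl_eq] at e
  refine line_eq_of_smul (q := (1 / 2 : ℝ) • (1 / 2 : ℝ) • qip (pointL i : Fin 3 → ℍ[ℝ])
    (pointL j : Fin 3 → ℍ[ℝ])) ?_
  funext t
  have ht := congrFun e t
  simp only [lmul, Pi.sub_apply, Pi.neg_apply, pointL] at ht ⊢
  rw [smul_mul_assoc]
  have h2 : ((1 / 2 : ℝ) • qip (psi (line i)) (psi (line j))) * psi (line j) t =
      psi (line i) t + psi (line i) t := by
    calc _ = psi (line i) t - (psi (line i) t - ((1 / 2 : ℝ) • qip (psi (line i)) (psi (line j))) *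
          psi (line j) t) := by abel
      _ = _ := by rw [← ht]; abel
  rw [h2, smul_add, ← add_smul]
  norm_num

theorem ncard_reflections : {f : Equiv.Perm icoLeech | IsIcoReflection f}.ncard = 315 := by
  have : {f : Equiv.Perm icoLeech | IsIcoReflection f} = Set.range lineRefl := by
    ext f
    exact ⟨fun h => (exists_lineRefl h).imp fun _ => Eq.symm, fun ⟨i, h⟩ => h ▸ lineRefl_isRefl i⟩
  rw [this, Set.ncard_range_of_injective lineRefl_injective, Nat.card_fin]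

/-- `p` is the table of `σ`. -/
def Rep (p : ℕ) (σ : Equiv.Perm (Fin 315)) : Prop := ∀ i : Fin 315, app p i = (σ i : ℕ)

theorem psi_reflV {r x : V3} (hr : Lam r) (hx : Lam x) :
    psi (reflV r x) = qrefl (psi r) (psi x) := by
  obtain ⟨s, hs, e⟩ := qip_mem_two (psi_mem hx) (psi_mem hr)
  obtain ⟨p, hp, rfl⟩ := mem_icosians.1 hs
  rw [qip_psi hx hr, ← phi_dbl] at e
  have e1 := phi_injective e
  have eh : half (ipz x r) = p := by
    rw [e1]
    obtain ⟨c0, d0, c1, d1, c2, d2, c3, d3⟩ := p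
    simp only [half, dbl, Qz.add, Qz.mk.injEq]
    omega
  have es : (1 / 2 : ℝ) • qip (psi x) (psi r) = phi p := by
    rw [qip_psi hx hr, e1, phi_dbl, smul_smul]; norm_num
  obtain ⟨a, b, c, -⟩ := lam_iff.1 hr
  rw [qrefl_eq, es, reflV, eh]
  funext t
  fin_cases t <;> simp [psi, lmul, phi_sub, phi_mul hp a, phi_mul hp b, phi_mul hp c]

theorem rep_refl {e : ℕ × ℕ × ℕ} (he : e ∈ reflData) :
    ∃ g : Fin 315, (g : ℕ) = e.1 ∧ Rep e.2.1 (rho (refl2 g)) := by
  have h := List.all_eq_true.1 reflData_check e he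
  simp only [Bool.and_eq_true, Nat.blt_eq, List.all_eq_true, List.mem_range] at h
  refine ⟨⟨e.1, h.1⟩, rfl, fun i => ?_⟩
  have hi := h.2 i i.isLt
  simp only [reflEntryOk, Bool.and_eq_true, Nat.blt_eq, beq_iff_eq] at hi
  obtain ⟨⟨hv, hu⟩, hj⟩ := hi
  have humem : units.getD (Nat.land (Nat.shiftRight e.2.2 (7 * (i : ℕ))) 127) Qz.zero ∈ units := by
    rw [List.getD_eq_getElem _ _ hu]; exact List.getElem_mem hu
  have key := congrArg psi hv
  rw [← line] at key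
  rw [show (app e.2.1 i) = ((⟨app e.2.1 i, hj⟩ : Fin 315) : ℕ) from rfl] at key ⊢
  rw [← line] at key
  rw [show lines.getD e.1 ⟨Qz.zero, Qz.zero, Qz.zero⟩ = line ⟨e.1, h.1⟩ from rfl,
    psi_reflV (line_spec _).1 (line_spec _).1, psi_smulV (unit_spec humem).1 (line_spec _).1] at key
  exact congrArg Fin.val (rho_apply_eq key).symm

end Cfsg.Agent.Icosian
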