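import Cfsg.Agent.Lib.Icosian.OuterData
import Cfsg.Agent.Lib.Icosian.CentCheck

/-!
Kernel checks for the automorphism group of the Hall–Janko group.
-/

set_option autoImplicit false
set_option maxRecDepth 100000

namespace Cfsg.Agent.Icosian.Outer

open Cert

/-- The level-zero transversal elements, as indices. -/
def topElems : List ℕ := (levelData.headD ⟨0, [], [], []⟩).tree.map elemOf

/-- A field of a label table. -/
def lab4 (p i : ℕ) : ℕ := Nat.land (Nat.shiftRight p (4 * i)) 15

/-- Evaluate an element. -/
def el (k x : ℕ) : ℕ := app (elemTabs.getD k 0) x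

/-- Evaluate the first reflection. -/
def z (x : ℕ) : ℕ := evalWord elemTabs centreWord x

/-- A list of copies of a word. -/
def wpow (w : List ℕ) (m : ℕ) : List ℕ := (List.replicate m w).flatten

theorem roots_check :
    rootRefl.length = 6 ∧
    ((List.range 6).all fun k =>
      let e := rootRefl.getD k (0, 0, [])
      Nat.blt e.2.1 elemTabs.length && e.2.2.all (fun a => Nat.blt a elemTabs.length) &&
        ((suborbitData.getD k []).getD 0 (0, 0, 0)).1 == e.1 && el e.2.1 0 == e.1 &&
        detLines.all (fun f => el e.2.1 (z f) == evalWord elemTabs e.2.2 (el e.2.1 f)) &&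
        (List.range 6).all (fun m => m == 0 || Nat.blt (lab4 prodLabel e.1) m ||
          (sigF (wpow (centreWord ++ e.2.2) m) == detLines) == (m == lab4 prodLabel e.1)) &&
        Nat.blt 0 (lab4 prodLabel e.1) && Nat.blt (lab4 prodLabel e.1) 6 &&
        (suborbitData.getD k []).all fun q => lab4 prodLabel q.1 == lab4 prodLabel e.1) = true := by
  decide +kernel

/-- A line agrees with the reference line on the first `k` invariants. -/
def inClass (k i j : ℕ) : Bool :=
  (List.range k).all fun a => lab4 (prodRows.getD a 0) i == lab4 (prodRows.getD a 0) j

theorem rigid_check :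
    rigidLines.length = 5 ∧ classSizes = [64, 5, 4, 3] ∧
    ((List.range 5).all fun a =>
      let e := rigidLines.getD a (0, 0)
      Nat.blt e.1 315 && Nat.blt e.2 elemTabs.length && el e.2 0 == e.1 &&
        (List.range 315).all fun y => lab4 (prodRows.getD a 0) (el e.2 y) == lab4 prodLabel y) = true ∧
    ((List.range 4).all fun k =>
      ((List.range 315).filter fun j =>
        inClass (k + 1) (rigidLines.getD (k + 1) (0, 0)).1 j).length == classSizes.getD k 0) = true ∧
    (uniqueLines.all fun u => Nat.blt u 315 &&
      (List.range 315).all fun j => j == u || !inClass 5 u j) = true ∧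
    ((List.range closeSteps.length).all fun k =>
      let e := closeSteps.getD k (0, 0, 0, 0, 0)
      let known := uniqueLines ++ (closeSteps.take k).map fun a => a.2.2.2.2
      Nat.blt e.2.1 elemTabs.length && Nat.blt e.2.2.2.1 315 && Nat.blt e.1 315 &&
        Nat.blt e.2.2.1 315 && known.contains e.1 && known.contains e.2.2.1 &&
        el e.2.1 0 == e.1 && el e.2.1 e.2.2.2.1 == e.2.2.1 &&
        el e.2.1 (z e.2.2.2.1) == e.2.2.2.2) = true ∧
    ([312, 95, 114, 248].all fun g =>
      (uniqueLines ++ closeSteps.map fun a => a.2.2.2.2).contains g) = true := by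
  decide +kernel

theorem syl_check :
    sylWords.length = 128 ∧ sylWords.getD 0 [] = sylWords.getD 0 [] ∧
    (sylWords.all fun w => w.all fun k => (allElems levelData.tail).contains k) = true ∧
    (sylGens.all fun w => w.all fun k => (allElems levelData.tail).contains k) = true ∧
    (sigF (sylWords.getD 0 []) == detLines) = true ∧
    (sylWords.map sigF).Nodup ∧
    ((List.range sylGens.length).all fun g => (List.range 128).all fun i =>
      Nat.blt ((sylImg.getD g []).getD i 128) 128 &&
        sigF (sylGens.getD g [] ++ sylWords.getD i []) ==
          sigF (sylWords.getD ((sylImg.getD g []).getD i 128) [])) = true ∧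
    ((List.range 128).all fun i => i == 0 ||
      Nat.blt (sylUp.getD i (0, 0)).1 i && Nat.blt (sylUp.getD i (0, 0)).2 sylGens.length &&
        (sylImg.getD (sylUp.getD i (0, 0)).2 []).getD (sylUp.getD i (0, 0)).1 128 == i) = true ∧
    ((List.range 128).all fun i =>
      sigF (wpow (sylWords.getD i []) 2) == detLines ||
        !(sigF (wpow (sylWords.getD i []) 4) == detLines) ||
          Nat.blt (sylSquare.getD i 0) elemTabs.length && detLines.all fun f =>
            el (sylSquare.getD i 0) (z f) ==
              evalWord elemTabs (wpow (sylWords.getD i []) 2) (el (sylSquare.getD i 0) f)) = true ∧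
    (rootWord.all fun k => (allElems levelData.tail).contains k) = true ∧
    (sigF (wpow rootWord 2) == sigF centreWord) = true := by
  decide +kernel

theorem outer_check :
    ((List.range 315).all fun x => Nat.blt (app outTab x) 315 && Nat.blt (app outInvTab x) 315 &&
      app outTab (app outInvTab x) == x && app outInvTab (app outTab x) == x) = true ∧
    ((List.range 4).all fun k => Nat.blt (outConj.getD k 0) elemTabs.length &&
      (List.range 315).all fun x =>
        app outTab (el k (app outInvTab (el (outConj.getD k 0) x))) ==
          el (outConj.getD k 0) (z x)) = true ∧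
    app outTab 0 = 0 ∧ app outTab 241 = 273 ∧
    ((suborbitData.getD 3 []).map fun e => e.1).contains 241 = true ∧
    ((suborbitData.getD 3 []).map fun e => e.1).contains 273 = false ∧
    (stabGens.all fun s => (suborbitData.getD 3 []).all fun e =>
      ((suborbitData.getD 3 []).map fun a => a.1).contains (el s e.1)) = true := by
  decide +kernel

end Cfsg.Agent.Icosian.Outer
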