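import Cfsg.Agent.Lib.Icosian.Centraliser
import Cfsg.Agent.Lib.Icosian.OuterCheck
import Cfsg.Prelude.Def_KGroupFacts

/-!
The automorphism group of the Hall–Janko group.
-/

set_option autoImplicit false
set_option maxRecDepth 100000

namespace Cfsg.Agent.Icosian.Outer

open Cert

/-- The Hall–Janko group on lines. -/
noncomputable abbrev R : Subgroup (Equiv.Perm (Fin 315)) := rho.range

/-- The reflection of a line, on lines. -/
noncomputable def fr (i : Fin 315) : R := ⟨rho (refl2 i), refl2 i, rfl⟩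

theorem fr_zero : ((fr 0 : R) : Equiv.Perm (Fin 315)) = z0 := rfl

theorem conj_fr (g : R) (i : Fin 315) : g * fr i * g⁻¹ = fr ((g : Equiv.Perm (Fin 315)) i) := by
  obtain ⟨_, x, rfl⟩ := g
  apply Subtype.ext
  show rho x * rho (refl2 i) * (rho x)⁻¹ = rho (refl2 (rho x i))
  rw [← map_inv, ← map_mul, ← map_mul, conj_refl2]

theorem exists_move (i : Fin 315) : ∃ g : R, (g : Equiv.Perm (Fin 315)) 0 = i := by
  obtain ⟨x, hx⟩ := exists_rho_eq 0 i
  exact ⟨⟨_, x, rfl⟩, hx⟩

theorem fr_injective : Function.Injective fr := by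
  intro i j h
  obtain ⟨a, ha⟩ := exists_move i
  obtain ⟨b, hb⟩ := exists_move j
  rw [← ha, ← hb, ← conj_fr, ← conj_fr] at h
  have hc : (b⁻¹ * a) * fr 0 = fr 0 * (b⁻¹ * a) := by
    calc (b⁻¹ * a) * fr 0 = b⁻¹ * (a * fr 0 * a⁻¹) * a := by group
      _ = _ := by rw [h]; group
  have hmem := (commute_iff (b⁻¹ * a).2).1 (congrArg Subtype.val hc)
  have h0 := stab0_spec.2.1 _ hmem
  rw [Subgroup.coe_mul, Subgroup.coe_inv, Equiv.Perm.mul_apply, ha, Equiv.Perm.coe_inv,
    Equiv.symm_apply_eq, hb] at h0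
  exact h0

/-- An element given by an index. -/
noncomputable def elR {k : ℕ} (hk : k < elemTabs.length) : R := ⟨elem k, elem_mem_range hk⟩

theorem el_eq {k : ℕ} (hk : k < elemTabs.length) (x : Fin 315) :
    el k x = ((elR hk : Equiv.Perm (Fin 315)) x : ℕ) :=
  (elem_spec hk).2 x

theorem z_eq (x : Fin 315) : z x = (z0 x : ℕ) := by
  rw [z0_eq]; exact (wordPerm_mem centre_word_mem).2 x

theorem det_lt {f : ℕ} (hf : f ∈ detLines) : f < 315 := by
  simpa using List.all_eq_true.1 chain_check.2.2.1 f hf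

/-- A reflection from an equation with a transversal element. -/
theorem fr_of_eq {k : ℕ} (hk : k < elemTabs.length) {w : List ℕ} (hw : ∀ a ∈ w, a < elemTabs.length)
    {i : Fin 315} (hki : el k 0 = (i : ℕ))
    (h : ∀ f ∈ detLines, el k (z f) = evalWord elemTabs w (el k f)) :
    (fr i : Equiv.Perm (Fin 315)) = wordPerm w := by
  have hi : (elR hk : Equiv.Perm (Fin 315)) 0 = i := Fin.ext ((el_eq hk 0).symm.trans hki)
  have hmem : wordPerm w ∈ R := list_prod_mem fun y hy => by
    obtain ⟨a, ha, rfl⟩ := List.mem_map.1 hy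
    exact elem_mem_range (hw a ha)
  have e : elem k * z0 = wordPerm w * elem k := by
    refine eq_of_sig (mul_mem (elem_mem_range hk) ⟨_, rfl⟩) (mul_mem hmem (elem_mem_range hk))
      fun f hf hf' => Fin.ext ?_
    have := h f hf
    rw [z_eq ⟨f, hf'⟩, el_eq hk, el_eq hk ⟨f, hf'⟩, evalWord_eq w hw] at this
    exact this
  rw [← hi, ← conj_fr, Subgroup.coe_mul, Subgroup.coe_mul, Subgroup.coe_inv, fr_zero]
  show elem k * z0 * (elem k)⁻¹ = _
  rw [e, mul_inv_cancel_right]

theorem wordPerm_append (u v : List ℕ) : wordPerm (u ++ v) = wordPerm u * wordPerm v := by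
  simp [wordPerm]

theorem wordPerm_wpow (w : List ℕ) : ∀ m : ℕ, wordPerm (wpow w m) = wordPerm w ^ m
  | 0 => rfl
  | m + 1 => by
    rw [wpow, List.replicate_succ, List.flatten_cons, wordPerm_append, pow_succ']
    exact congrArg (wordPerm w * ·) (wordPerm_wpow w m)

theorem wpow_lt {w : List ℕ} {m : ℕ} (hw : ∀ a ∈ w, a < elemTabs.length) :
    ∀ a ∈ wpow w m, a < elemTabs.length := by
  intro a ha
  obtain ⟨l, hl, hal⟩ := List.mem_flatten.1 ha
  rw [List.eq_of_mem_replicate hl] at hal
  exact hw a hal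

theorem word_mem_R {w : List ℕ} (hw : ∀ a ∈ w, a < elemTabs.length) : wordPerm w ∈ R :=
  list_prod_mem fun y hy => by
    obtain ⟨a, ha, rfl⟩ := List.mem_map.1 hy
    exact elem_mem_range (hw a ha)

theorem sig_one {w : List ℕ} (hw : ∀ a ∈ w, a < elemTabs.length) :
    sigF w = detLines ↔ wordPerm w = 1 := by
  constructor
  · intro h
    refine eq_of_sig (word_mem_R hw) (one_mem _) fun f hf hf' => Fin.ext ?_
    have := map_fix h f hf
    rw [evalWord_eq w hw ⟨f, hf'⟩] at this
    exact this
  · intro h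
    conv_rhs => rw [← List.map_id' detLines]
    refine List.map_congr_left fun f hf => ?_
    rw [evalWord_eq w hw ⟨f, det_lt hf⟩, h]
    rfl

theorem sig_eq_iff {u v : List ℕ} (hu : ∀ a ∈ u, a < elemTabs.length)
    (hv : ∀ a ∈ v, a < elemTabs.length) : sigF u = sigF v ↔ wordPerm u = wordPerm v := by
  constructor
  · intro h
    refine eq_of_sig (word_mem_R hu) (word_mem_R hv) fun f hf hf' => Fin.ext ?_
    have := List.map_eq_map_iff.1 h f hf
    rw [evalWord_eq u hu ⟨f, hf'⟩, evalWord_eq v hv ⟨f, hf'⟩] at this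
    exact this
  · intro h
    refine List.map_congr_left fun f hf => ?_
    rw [evalWord_eq u hu ⟨f, det_lt hf⟩, evalWord_eq v hv ⟨f, det_lt hf⟩, h]

theorem centre_lt : ∀ a ∈ centreWord, a < elemTabs.length := fun a ha =>
  (stab0_spec.2.2.2 a (centre_word_mem a ha)).1

theorem tail_lt {w : List ℕ} (hw : ∀ k ∈ w, k ∈ allElems levelData.tail) :
    ∀ a ∈ w, a < elemTabs.length := fun a ha => (stab0_spec.2.2.2 a (hw a ha)).1

/-! ### Orders of products -/

theorem orderOf_root {k : ℕ} (hk : k < 6) :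
    ∃ r : Fin 315, (r : ℕ) = (rootRefl.getD k (0, 0, [])).1 ∧
      orderOf (fr 0 * fr r) = lab4 prodLabel r := by
  obtain ⟨-, h⟩ := roots_check
  have h' := List.all_eq_true.1 h k (List.mem_range.2 hk)
  simp only [Bool.and_eq_true, Nat.blt_eq, List.all_eq_true, beq_iff_eq, Bool.or_eq_true,
    List.mem_range] at h'
  obtain ⟨⟨⟨⟨⟨⟨⟨⟨hlt, hw⟩, -⟩, he⟩, heq⟩, hm⟩, hpos⟩, h6⟩, -⟩ := h'
  set e := rootRefl.getD k (0, 0, []) with he'
  have hr : e.1 < 315 := by
    rw [← he, show (0 : ℕ) = ((0 : Fin 315) : ℕ) from rfl, el_eq hlt]; exact Fin.isLt _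
  refine ⟨⟨e.1, hr⟩, rfl, ?_⟩
  have hfr := fr_of_eq hlt hw (i := ⟨e.1, hr⟩) he heq
  have hw' : ∀ a ∈ centreWord ++ e.2.2, a < elemTabs.length := fun a ha => by
    rcases List.mem_append.1 ha with ha | ha
    exacts [centre_lt a ha, hw a ha]
  have hval : ((fr 0 * fr ⟨e.1, hr⟩ : R) : Equiv.Perm (Fin 315)) = wordPerm (centreWord ++ e.2.2) := by
    rw [Subgroup.coe_mul, hfr, wordPerm_append, fr_zero, z0_eq]
  rw [← Subgroup.orderOf_coe, hval]
  have hp : ∀ m, 0 < m → m < 6 → m ≤ lab4 prodLabel e.1 →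
      (wordPerm (centreWord ++ e.2.2) ^ m = 1 ↔ m = lab4 prodLabel e.1) := by
    intro m hm0 hm6 hml
    have := (hm m hm6).resolve_left (by omega)
    rw [← wordPerm_wpow, ← sig_one (wpow_lt hw')]
    constructor
    · intro hs
      rw [hs, beq_self_eq_true] at this
      simpa using this.symm
    · intro hs
      rw [hs, beq_self_eq_true] at this
      rw [hs]
      simpa using this
  rw [orderOf_eq_iff hpos]
  refine ⟨(hp _ hpos h6 le_rfl).2 rfl, fun m hm hm0 hone => ?_⟩
  exact absurd ((hp m hm0 (by omega) hm.le).1 hone) (by omega)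

theorem orderOf_label (j : Fin 315) : orderOf (fr 0 * fr j) = lab4 prodLabel j := by
  obtain ⟨hlen, -, htree, hnd, htot, -⟩ := suborbit_check
  have hcover : (j : ℕ) ∈ (List.range 6).flatMap suborbit := by
    have hsub : ((List.range 6).flatMap suborbit).toFinset ⊆ Finset.range 315 := by
      intro x hx
      simp only [List.mem_toFinset, List.mem_flatMap, List.mem_range] at hx
      obtain ⟨k, hk, hx⟩ := hx
      obtain ⟨e, he, rfl⟩ := List.mem_map.1 hx
      obtain ⟨i, hi, rfl⟩ := List.getElem_of_mem he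
      have ht := List.all_eq_true.1 htree (suborbitData.getD k []) (by
        rw [List.getD_eq_getElem _ _ (hlen ▸ hk)]; exact List.getElem_mem _)
      simp only [List.all_eq_true, List.mem_range, Bool.and_eq_true, Nat.blt_eq] at ht
      have := (ht i hi).1
      rw [List.getD_eq_getElem _ _ hi] at this
      simpa using this
    have := Finset.eq_of_subset_of_card_le hsub
      (by rw [List.toFinset_card_of_nodup hnd, htot]; simp)
    rw [← List.mem_toFinset, this]; simp
  obtain ⟨k, hk, hjk⟩ := List.mem_flatMap.1 hcover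
  rw [List.mem_range] at hk
  obtain ⟨r, hr, hord⟩ := orderOf_root hk
  obtain ⟨-, hR⟩ := roots_check
  have hR' := List.all_eq_true.1 hR k (List.mem_range.2 hk)
  simp only [Bool.and_eq_true, List.all_eq_true, beq_iff_eq] at hR'
  have hlabel := hR'.2
  have hroot : ((suborbitData.getD k []).getD 0 (0, 0, 0)).1 = (r : ℕ) := by
    rw [hr]; exact hR'.1.1.1.1.1.1.2
  obtain ⟨e, he, hej⟩ := List.mem_map.1 hjk
  have hl : lab4 prodLabel j = lab4 prodLabel r := by
    rw [← hej, hlabel e he, hr]
  rw [hl, ← hord]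
  have htr := List.all_eq_true.1 htree (suborbitData.getD k []) (by
    rw [List.getD_eq_getElem _ _ (hlen ▸ hk)]; exact List.getElem_mem _)
  simp only [List.all_eq_true, List.mem_range, Bool.and_eq_true, Nat.blt_eq, Bool.or_eq_true,
    beq_iff_eq, List.contains_iff_mem] at htr
  have key : ∀ i, i < (suborbitData.getD k []).length → ∀ x : Fin 315,
      (x : ℕ) = ((suborbitData.getD k []).getD i (0, 0, 0)).1 →
        orderOf (fr 0 * fr x) = orderOf (fr 0 * fr r) := by
    intro i
    induction i using Nat.strong_induction_on with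
    | _ i ih =>
      intro hi x hx
      rcases (htr i hi).2 with rfl | ⟨⟨hp, hs⟩, happ⟩
      · rw [show x = r from Fin.ext (hx.trans hroot)]
      · have hp' : ((suborbitData.getD k []).getD i (0, 0, 0)).2.1 < (suborbitData.getD k []).length := by
          omega
        have hs' := List.all_eq_true.1 stab_check.1 _ hs
        simp only [Bool.and_eq_true, Nat.blt_eq, beq_iff_eq] at hs'
        set s := elR hs'.1 with hsdef
        have hs0 : (s : Equiv.Perm (Fin 315)) 0 = 0 := Fin.ext ((el_eq hs'.1 0).symm.trans hs'.2)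
        have hy := (htr _ hp').1
        have hx' : x = (s : Equiv.Perm (Fin 315)) ⟨_, hy⟩ := by
          refine Fin.ext ?_
          rw [← el_eq hs'.1, hx]
          exact happ.symm
        rw [← ih _ hp hp' ⟨_, hy⟩ rfl, hx',
          show fr 0 = fr ((s : Equiv.Perm (Fin 315)) 0) by rw [hs0], ← conj_fr, ← conj_fr,
          show s * fr 0 * s⁻¹ * (s * fr ⟨_, hy⟩ * s⁻¹) = MulAut.conj s (fr 0 * fr ⟨_, hy⟩) by
            rw [MulAut.conj_apply]; group,
          MulEquiv.orderOf_eq]
        rw [conj_fr s 0, hs0]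
  obtain ⟨i, hi, hie⟩ := List.getElem_of_mem he
  exact key i hi j (by rw [List.getD_eq_getElem _ _ hi, hie, hej])

theorem orderOf_row {a : ℕ} (ha : a < 5) (j : Fin 315) :
    ∃ i : Fin 315, (i : ℕ) = (rigidLines.getD a (0, 0)).1 ∧
      orderOf (fr i * fr j) = lab4 (prodRows.getD a 0) j := by
  obtain ⟨-, -, h, -⟩ := rigid_check
  have h' := List.all_eq_true.1 h a (List.mem_range.2 ha)
  simp only [Bool.and_eq_true, Nat.blt_eq, beq_iff_eq, List.all_eq_true, List.mem_range] at h'
  obtain ⟨⟨⟨hi, hk⟩, h0⟩, hrow⟩ := h'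
  refine ⟨⟨_, hi⟩, rfl, ?_⟩
  set t := elR hk with ht
  have ht0 : (t : Equiv.Perm (Fin 315)) 0 = ⟨_, hi⟩ := Fin.ext ((el_eq hk 0).symm.trans h0)
  obtain ⟨y, rfl⟩ := (t : Equiv.Perm (Fin 315)).surjective j
  have hy := hrow y y.isLt
  rw [el_eq hk] at hy
  rw [hy, ← orderOf_label, ← ht0, ← conj_fr, ← conj_fr,
    show t * fr 0 * t⁻¹ * (t * fr y * t⁻¹) = MulAut.conj t (fr 0 * fr y) by
      rw [MulAut.conj_apply]; group,
    MulEquiv.orderOf_eq]

/-! ### Reflections are the squares of order two of elements of order four -/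

/-- The Sylow 2-subgroup. -/
noncomputable def syl : Subgroup (Equiv.Perm (Fin 315)) :=
  Subgroup.closure {g | ∃ w ∈ sylGens, wordPerm w = g}

theorem syl_word {i : ℕ} : ∀ k ∈ sylWords.getD i [], k ∈ allElems levelData.tail := by
  obtain ⟨-, -, h, -⟩ := syl_check
  intro k hk
  by_cases hi : i < sylWords.length
  · rw [List.getD_eq_getElem _ _ hi] at hk
    simpa using List.all_eq_true.1 (List.all_eq_true.1 h _ (List.getElem_mem hi)) k hk
  · rw [List.getD_eq_default _ _ (Nat.not_lt.1 hi)] at hk; simp at hk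

theorem syl_gen_word {g : ℕ} : ∀ k ∈ sylGens.getD g [], k ∈ allElems levelData.tail := by
  obtain ⟨-, -, -, h, -⟩ := syl_check
  intro k hk
  by_cases hi : g < sylGens.length
  · rw [List.getD_eq_getElem _ _ hi] at hk
    simpa using List.all_eq_true.1 (List.all_eq_true.1 h _ (List.getElem_mem hi)) k hk
  · rw [List.getD_eq_default _ _ (Nat.not_lt.1 hi)] at hk; simp at hk

theorem syl_carrier :
    (syl : Set (Equiv.Perm (Fin 315))) = (fun i => wordPerm (sylWords.getD i [])) '' {i | i < 128} := by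
  obtain ⟨-, -, -, -, h1, -, himg, hup, -⟩ := syl_check
  simp only [List.all_eq_true, List.mem_range, Bool.and_eq_true, Nat.blt_eq, beq_iff_eq,
    Bool.or_eq_true] at himg hup
  have hstep : ∀ g < sylGens.length, ∀ i < 128, (sylImg.getD g []).getD i 128 < 128 ∧
      wordPerm (sylGens.getD g []) * wordPerm (sylWords.getD i []) =
        wordPerm (sylWords.getD ((sylImg.getD g []).getD i 128) []) := by
    intro g hg i hi
    obtain ⟨a, b⟩ := himg g hg i hi
    refine ⟨a, ?_⟩
    rw [← wordPerm_append]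
    refine (sig_eq_iff (fun x hx => ?_) (tail_lt syl_word)).1 b
    rcases List.mem_append.1 hx with hx | hx
    exacts [tail_lt syl_gen_word x hx, tail_lt syl_word x hx]
  have hone : wordPerm (sylWords.getD 0 []) = 1 := (sig_one (tail_lt syl_word)).1 (by simpa using h1)
  refine subset_antisymm ?_ ?_
  · intro x hx
    have hm : x ∈ Submonoid.closure {g | ∃ w ∈ sylGens, wordPerm w = g} := by
      rw [← Subgroup.closure_toSubmonoid_of_finite]; exact hx
    refine Submonoid.closure_induction_left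
      (motive := fun y _ => y ∈ (fun i => wordPerm (sylWords.getD i [])) '' {i | i < 128}) ?_ ?_ hm
    · exact ⟨0, by simp, hone⟩
    · rintro _ ⟨w, hw, rfl⟩ _ _ ⟨i, hi, rfl⟩
      obtain ⟨g, hg, rfl⟩ := List.getElem_of_mem hw
      obtain ⟨a, b⟩ := hstep g hg i hi
      rw [List.getD_eq_getElem _ _ hg] at b
      exact ⟨_, a, b.symm⟩
  · rintro _ ⟨i, hi, rfl⟩
    induction i using Nat.strong_induction_on with
    | _ i ih =>
      rcases hup i hi with rfl | ⟨⟨hp, hg⟩, he⟩
      · show wordPerm _ ∈ syl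
        rw [hone]; exact one_mem _
      · have hp' : (sylUp.getD i (0, 0)).1 < 128 := lt_trans hp hi
        obtain ⟨-, b⟩ := hstep _ hg _ hp'
        rw [he] at b
        show wordPerm _ ∈ syl
        rw [← b]
        refine mul_mem (Subgroup.subset_closure ⟨_, ?_, rfl⟩) (ih _ hp hp')
        rw [List.getD_eq_getElem _ _ hg]; exact List.getElem_mem hg

theorem card_syl : Nat.card syl = 128 := by
  obtain ⟨hlen, -, -, -, -, hnd, -⟩ := syl_check
  show Nat.card ((syl : Set (Equiv.Perm (Fin 315))) : Type) = 128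
  rw [Nat.card_coe_set_eq, syl_carrier, Set.InjOn.ncard_image (s := {i | i < 128}) ?_,
    show {i : ℕ | i < 128} = ↑(Finset.range 128) by ext; simp, Set.ncard_coe_finset,
    Finset.card_range]
  intro i (hi : i < 128) j (hj : j < 128) e
  have h := (sig_eq_iff (tail_lt syl_word) (tail_lt syl_word)).2 e
  rw [List.getD_eq_getElem _ _ (by omega), List.getD_eq_getElem _ _ (by omega)] at h
  have := hnd.getElem_inj_iff (i := i) (j := j) (hi := by simp; omega) (hj := by simp; omega)
  simp only [List.getElem_map] at this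
  exact this.1 h

theorem syl_le : syl ≤ R := by
  intro x hx
  have hx' : x ∈ (syl : Set (Equiv.Perm (Fin 315))) := hx
  rw [syl_carrier] at hx'
  obtain ⟨i, -, rfl⟩ := hx'
  exact word_mem_R (tail_lt syl_word)

/-- A square of order two of an element of order four. -/
def IsSq (x : R) : Prop := x ≠ 1 ∧ ∃ y : R, y ^ 4 = 1 ∧ y ^ 2 = x

theorem fr_zero_ne : fr 0 ≠ 1 := by
  intro h
  have e : z0 = 1 := congrArg Subtype.val h
  obtain ⟨-, -, -, hz, -⟩ := extra_check
  rw [z0_eq] at e
  rw [(sig_one centre_lt).2 e, beq_self_eq_true] at hz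
  exact Bool.noConfusion hz

theorem isSq_iff (x : R) : IsSq x ↔ ∃ i, x = fr i := by
  haveI : Fact (Nat.Prime 2) := ⟨Nat.prime_two⟩
  constructor
  · rintro ⟨hne, y, hy4, rfl⟩
    have hS : Nat.card (syl.subgroupOf R) = 128 := by
      rw [Nat.card_congr (Subgroup.subgroupOfEquivOfLe syl_le).toEquiv, card_syl]
    have hfac : (Nat.card R).factorization 2 = 7 := by
      rw [card_range_rho, show (604800 : ℕ) = 2 ^ 7 * 4725 by norm_num,
        Nat.factorization_mul (by norm_num) (by norm_num), Nat.factorization_pow,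
        Finsupp.add_apply, Finsupp.smul_apply, Nat.Prime.factorization_self Nat.prime_two,
        Nat.factorization_eq_zero_of_not_dvd (by norm_num)]
      rfl
    let P : Sylow 2 R := Sylow.ofCard (syl.subgroupOf R) (by rw [hS, hfac]; norm_num)
    have hp : IsPGroup 2 (Subgroup.zpowers y) := by
      obtain ⟨k, -, hk⟩ := (Nat.dvd_prime_pow Nat.prime_two).1
        (show orderOf y ∣ 2 ^ 2 from orderOf_dvd_of_pow_eq_one hy4)
      exact IsPGroup.of_card (n := k) (by rw [Nat.card_zpowers, hk])
    obtain ⟨Q, hQ⟩ := hp.exists_le_sylow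
    obtain ⟨g, hg⟩ := MulAction.exists_smul_eq R Q P
    have hyP : g * y * g⁻¹ ∈ syl.subgroupOf R := by
      have : g * y * g⁻¹ ∈ ((g • Q : Sylow 2 R) : Subgroup R) :=
        ⟨y, hQ (Subgroup.mem_zpowers y), rfl⟩
      rw [hg] at this
      exact this
    have hmem : ((g * y * g⁻¹ : R) : Equiv.Perm (Fin 315)) ∈ (syl : Set (Equiv.Perm (Fin 315))) := hyP
    rw [syl_carrier] at hmem
    obtain ⟨i, hi, he⟩ := hmem
    replace he : wordPerm (sylWords.getD i []) = ((g * y * g⁻¹ : R) : Equiv.Perm (Fin 315)) := he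
    have h4 : wordPerm (sylWords.getD i []) ^ 4 = 1 := by
      rw [he, ← Subgroup.coe_pow, conj_pow, hy4, mul_one, mul_inv_cancel]; rfl
    have h2 : wordPerm (sylWords.getD i []) ^ 2 ≠ 1 := by
      rw [he, ← Subgroup.coe_pow, conj_pow]
      intro h
      have h' : g * y ^ 2 * g⁻¹ = 1 := Subtype.ext h
      exact hne (conj_eq_one_iff.1 h')
    obtain ⟨-, -, -, -, -, -, -, -, hsq, -⟩ := syl_check
    have hs := List.all_eq_true.1 hsq i (List.mem_range.2 hi)
    simp only [Bool.or_eq_true, beq_iff_eq, Bool.not_eq_true', beq_eq_false_iff_ne,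
      Bool.and_eq_true, Nat.blt_eq, List.all_eq_true] at hs
    rcases hs with (h | h) | ⟨hk, h⟩
    · exact absurd ((wordPerm_wpow _ 2).symm.trans ((sig_one (wpow_lt (tail_lt syl_word))).1 h)) h2
    · exact absurd ((sig_one (wpow_lt (tail_lt syl_word))).2 ((wordPerm_wpow _ 4).trans h4)) h
    · have hfr := fr_of_eq hk (wpow_lt (tail_lt syl_word))
        (i := (elR hk : Equiv.Perm (Fin 315)) 0) (el_eq hk 0) h
      rw [wordPerm_wpow, he, ← Subgroup.coe_pow, conj_pow] at hfr
      refine ⟨(g⁻¹ : R).1 ((elR hk : Equiv.Perm (Fin 315)) 0), ?_⟩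
      rw [← conj_fr, Subtype.ext hfr]
      group
  · rintro ⟨i, rfl⟩
    obtain ⟨t, ht⟩ := exists_move i
    obtain ⟨-, -, -, -, -, -, -, -, -, hr, hr2⟩ := syl_check
    simp only [List.all_eq_true, List.contains_iff_mem] at hr
    have hy : wordPerm rootWord ^ 2 = z0 := by
      rw [← wordPerm_wpow, z0_eq]
      exact (sig_eq_iff (wpow_lt (tail_lt hr)) centre_lt).1 (by simpa using hr2)
    let y : R := ⟨wordPerm rootWord, word_mem_R (tail_lt hr)⟩
    have hy2 : y ^ 2 = fr 0 := Subtype.ext hy
    have hz2 : fr 0 * fr 0 = 1 := by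
      apply Subtype.ext
      show rho (refl2 0) * rho (refl2 0) = 1
      rw [← map_mul, show refl2 0 * refl2 0 = (1 : Cfsg.Spor.twoJ2) from Subtype.ext (Equiv.ext fun x =>
        Subtype.ext (qrefl_qrefl (qip_pointL 0) _)), map_one]
    refine ⟨?_, t * y * t⁻¹, ?_, ?_⟩
    · rw [← ht, ← conj_fr]
      exact fun h => fr_zero_ne (conj_eq_one_iff.1 h)
    · rw [conj_pow, show y ^ 4 = y ^ 2 * y ^ 2 from pow_add y 2 2, hy2, hz2, mul_one, mul_inv_cancel]
    · rw [conj_pow, hy2, conj_fr, ht]

/-! ### The action of automorphisms on lines -/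

theorem exists_autLine (α : MulAut R) (i : Fin 315) : ∃ j, α (fr i) = fr j := by
  obtain ⟨hne, y, h4, h2⟩ := (isSq_iff (fr i)).2 ⟨i, rfl⟩
  refine (isSq_iff _).1 ⟨fun h => hne (α.injective (h.trans (map_one α).symm)), α y, ?_, ?_⟩
  · rw [← map_pow, h4, map_one]
  · rw [← map_pow, h2]

/-- The image of a line under an automorphism. -/
noncomputable def autLine (α : MulAut R) (i : Fin 315) : Fin 315 := (exists_autLine α i).choose

theorem fr_autLine (α : MulAut R) (i : Fin 315) : fr (autLine α i) = α (fr i) :=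
  (exists_autLine α i).choose_spec.symm

noncomputable instance autAction : MulAction (MulAut R) (Fin 315) where
  smul := autLine
  one_smul i := fr_injective (fr_autLine 1 i)
  mul_smul α β i := fr_injective (by
    show fr (autLine (α * β) i) = fr (autLine α (autLine β i))
    rw [fr_autLine, fr_autLine, fr_autLine]; rfl)

theorem fr_smul (α : MulAut R) (i : Fin 315) : fr (α • i) = α (fr i) := fr_autLine α i

theorem eq_one_of_fix_gens {α : MulAut R} (h : ∀ g ∈ genLine, α • g = g) : α = 1 := by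
  refine MulEquiv.ext fun x => ?_
  obtain ⟨_, x, rfl⟩ := x
  have hx : x ∈ four := by rw [four_eq_top]; trivial
  show α (rho.rangeRestrict x) = rho.rangeRestrict x
  induction hx using Subgroup.closure_induction with
  | mem y hy =>
    obtain ⟨i, hi, rfl⟩ := hy
    have := fr_smul α i
    rw [h i hi] at this
    exact this.symm
  | one => simp
  | mul a b _ _ iha ihb => simp [iha, ihb]
  | inv a _ iha => simp [iha]

theorem row_smul {α : MulAut R} {a : ℕ} (ha : a < 5)
    (hfix : ∀ i : Fin 315, (i : ℕ) = (rigidLines.getD a (0, 0)).1 → α • i = i) (j : Fin 315) :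
    lab4 (prodRows.getD a 0) ((α • j : Fin 315) : ℕ) = lab4 (prodRows.getD a 0) j := by
  obtain ⟨i, hi, e1⟩ := orderOf_row ha j
  obtain ⟨i', hi', e2⟩ := orderOf_row ha (α • j)
  obtain rfl : i' = i := Fin.ext (hi'.trans hi.symm)
  rw [← e1, ← e2, show fr i' * fr (α • j) = α (fr i' * fr j) by
    rw [map_mul, ← fr_smul, ← fr_smul, hfix i' hi], MulEquiv.orderOf_eq]

/-- Automorphisms fixing the first `k` rigid lines. -/
noncomputable def fixFirst (k : ℕ) : Subgroup (MulAut R) :=
  ⨅ a : Fin k, ⨅ i : Fin 315, ⨅ (_ : (i : ℕ) = (rigidLines.getD a (0, 0)).1),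
    MulAction.stabilizer (MulAut R) i

theorem mem_fixFirst {k : ℕ} {α : MulAut R} : α ∈ fixFirst k ↔
    ∀ a < k, ∀ i : Fin 315, (i : ℕ) = (rigidLines.getD a (0, 0)).1 → α • i = i := by
  simp only [fixFirst, Subgroup.mem_iInf, MulAction.mem_stabilizer_iff]
  exact ⟨fun h a ha => h ⟨a, ha⟩, fun h a => h a a.isLt⟩

theorem fixFirst_five : fixFirst 5 = ⊥ := by
  rw [Subgroup.eq_bot_iff_forall]
  intro α hα
  rw [mem_fixFirst] at hα
  obtain ⟨-, -, -, -, huniq, hclose, hgens⟩ := rigid_check
  have hu : ∀ u ∈ uniqueLines, ∀ x : Fin 315, (x : ℕ) = u → α • x = x := by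
    intro u hu x hx
    by_contra hne
    have h := List.all_eq_true.1 huniq u hu
    simp only [Bool.and_eq_true, List.all_eq_true, List.mem_range, Bool.or_eq_true, beq_iff_eq,
      Bool.not_eq_true'] at h
    rcases h.2 _ (α • x).isLt with e | e
    · exact hne (Fin.ext (e.trans hx.symm))
    · have : inClass 5 u ((α • x : Fin 315) : ℕ) = true := by
        simp only [inClass, List.all_eq_true, List.mem_range, beq_iff_eq]
        intro a ha
        rw [row_smul ha (hα a ha) x, hx]
      rw [this] at e; exact Bool.noConfusion e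
  have hk : ∀ k ≤ closeSteps.length,
      ∀ u ∈ uniqueLines ++ (closeSteps.take k).map (fun a => a.2.2.2.2),
        ∀ x : Fin 315, (x : ℕ) = u → α • x = x := by
    intro k
    induction k with
    | zero => intro _ u hu'; simp at hu'; exact hu u hu'
    | succ k ih =>
      intro hk u hu' x hx
      rw [List.take_succ_eq_append_getElem (by omega), List.map_append, ← List.append_assoc,
        List.mem_append] at hu'
      rcases hu' with hu' | hu'
      · exact ih (by omega) u hu' x hx
      · simp only [List.map_cons, List.map_nil, List.mem_singleton] at hu'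
        have h := List.all_eq_true.1 hclose k (List.mem_range.2 (by omega))
        simp only [Bool.and_eq_true, Nat.blt_eq, beq_iff_eq, List.contains_iff_mem,
          List.getD_eq_getElem _ _ (show k < closeSteps.length by omega)] at h
        obtain ⟨⟨⟨⟨⟨⟨⟨⟨ht, hy⟩, hi⟩, hj⟩, hki⟩, hkj⟩, h0⟩, hty⟩, hz⟩ := h
        set t := elR ht
        have hfi := ih (by omega) _ hki ⟨_, hi⟩ rfl
        have hfj := ih (by omega) _ hkj ⟨_, hj⟩ rfl
        have e0 : (t : Equiv.Perm (Fin 315)) 0 = ⟨_, hi⟩ := Fin.ext ((el_eq ht 0).symm.trans h0)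
        have ey : (t : Equiv.Perm (Fin 315)) ⟨_, hy⟩ = ⟨_, hj⟩ :=
          Fin.ext ((el_eq ht ⟨_, hy⟩).symm.trans hty)
        have ez : (t : Equiv.Perm (Fin 315)) (z0 ⟨_, hy⟩) = x := by
          refine Fin.ext ?_
          rw [← el_eq ht, ← z_eq, hz, hx, hu']
        have hconj : fr ⟨_, hi⟩ * fr ⟨_, hj⟩ * (fr ⟨_, hi⟩)⁻¹ = fr x := by
          rw [← e0, ← ey, ← ez, ← conj_fr, ← conj_fr, ← conj_fr t (z0 _),
            show z0 ⟨_, hy⟩ = (fr 0 : Equiv.Perm (Fin 315)) ⟨_, hy⟩ from rfl, ← conj_fr (fr 0)]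
          group
        refine fr_injective ?_
        rw [fr_smul, ← hconj, map_mul, map_mul, map_inv, ← fr_smul, ← fr_smul, hfi, hfj]
  refine eq_one_of_fix_gens fun g hg => ?_
  have hmem : (g : ℕ) ∈ uniqueLines ++ closeSteps.map fun a => a.2.2.2.2 := by
    have hg' : (g : ℕ) ∈ [312, 95, 114, 248] := by
      simp only [genLine, List.mem_cons, List.not_mem_nil, or_false] at hg
      rcases hg with rfl | rfl | rfl | rfl <;> decide
    simpa using List.all_eq_true.1 hgens _ hg'
  exact hk closeSteps.length le_rfl _ (by rwa [List.take_length]) g rfl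

theorem card_fix_step {k : ℕ} (hk : k < 5) {b : ℕ}
    (hb : ((List.range 315).filter fun j => inClass k (rigidLines.getD k (0, 0)).1 j).length ≤ b) :
    Nat.card (fixFirst k) ≤ b * Nat.card (fixFirst (k + 1)) := by
  obtain ⟨-, -, h, -⟩ := rigid_check
  have h' := List.all_eq_true.1 h k (List.mem_range.2 hk)
  simp only [Bool.and_eq_true, Nat.blt_eq] at h'
  let x : Fin 315 := ⟨_, h'.1.1.1⟩
  let S := MulAction.stabilizer (fixFirst k) x
  have hS : Nat.card S ≤ Nat.card (fixFirst (k + 1)) := by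
    refine Nat.card_le_card_of_injective
      (fun s => ⟨s.1.1, mem_fixFirst.2 fun a ha i hi => ?_⟩) fun s s' e => ?_
    · rcases Nat.lt_succ_iff_lt_or_eq.1 ha with ha | rfl
      · exact mem_fixFirst.1 s.1.2 a ha i hi
      · obtain rfl : i = x := Fin.ext hi
        exact s.2
    · exact Subtype.ext (Subtype.ext (congrArg Subtype.val e :))
  have horb : (MulAction.orbit (fixFirst k) x).ncard ≤ b := by
    refine le_trans ?_ hb
    rw [← Set.ncard_image_of_injective _ Fin.val_injective,
      ← List.toFinset_card_of_nodup (List.nodup_range.filter _), ← Set.ncard_coe_finset]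
    refine Set.ncard_le_ncard ?_ (Set.toFinite _)
    rintro _ ⟨_, ⟨s, rfl⟩, rfl⟩
    simp only [List.coe_toFinset, Set.mem_ofPred_eq, List.mem_filter, List.mem_range]
    refine ⟨(s • x).isLt, ?_⟩
    simp only [inClass, List.all_eq_true, List.mem_range, beq_iff_eq]
    intro a ha
    exact (row_smul (α := s.1) (by omega) (mem_fixFirst.1 s.2 a ha) x).symm
  rw [← S.card_mul_index, MulAction.index_stabilizer, mul_comm b]
  exact Nat.mul_le_mul hS horb

theorem card_aut_le : Nat.card (MulAut R) ≤ 1209600 := by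
  obtain ⟨-, hs, -, hc, -⟩ := rigid_check
  simp only [List.all_eq_true, List.mem_range, beq_iff_eq, hs] at hc
  have h0 : fixFirst 0 = ⊤ := eq_top_iff.2 fun α _ => mem_fixFirst.2 fun a ha => absurd ha (by omega)
  have e0 := card_fix_step (k := 0) (by norm_num) (b := 315)
    (le_trans (List.length_filter_le _ _) (by simp))
  have e1 := card_fix_step (k := 1) (by norm_num) (b := 64) (hc 0 (by norm_num)).le
  have e2 := card_fix_step (k := 2) (by norm_num) (b := 5) (hc 1 (by norm_num)).le
  have e3 := card_fix_step (k := 3) (by norm_num) (b := 4) (hc 2 (by norm_num)).le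
  have e4 := card_fix_step (k := 4) (by norm_num) (b := 3) (hc 3 (by norm_num)).le
  rw [h0, Subgroup.card_top] at e0
  rw [fixFirst_five, Subgroup.card_bot] at e4
  simp only [Nat.reduceAdd] at e0 e1 e2 e3 e4
  omega

/-! ### The outer automorphism -/

/-- The outer permutation. -/
noncomputable def outPerm : Equiv.Perm (Fin 315) := by
  have h := outer_check.1
  simp only [List.all_eq_true, List.mem_range, Bool.and_eq_true, Nat.blt_eq, beq_iff_eq] at h
  exact
    { toFun := fun x => ⟨app outTab x, (h x x.isLt).1.1.1⟩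
      invFun := fun x => ⟨app outInvTab x, (h x x.isLt).1.1.2⟩
      left_inv := fun x => Fin.ext (h x x.isLt).2
      right_inv := fun x => Fin.ext (h x x.isLt).1.2 }

theorem outPerm_conj : R.map (MulAut.conj outPerm).toMonoidHom = R := by
  refine Subgroup.eq_of_le_of_card_ge ?_ (by
    rw [Subgroup.card_map_of_injective (MulAut.conj outPerm).injective])
  show R.map _ ≤ R
  rw [Subgroup.map_le_iff_le_comap]
  intro x hx
  replace hx : x ∈ rho.range := hx
  rw [range_eq, genGroup_eq, four, MonoidHom.map_closure] at hx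
  refine (Subgroup.closure_le _).2 ?_ hx
  rintro _ ⟨_, ⟨i, hi, rfl⟩, rfl⟩
  obtain ⟨-, h, -⟩ := outer_check
  obtain ⟨h1, h2, -⟩ := gens_check
  have hi' : (i : ℕ) ∈ reflData.map (fun e => e.1) := by
    rw [h1]; exact List.mem_map.2 ⟨i, hi, rfl⟩
  obtain ⟨e, he, hei⟩ := List.mem_map.1 hi'
  obtain ⟨r, hr, hrep⟩ := rep_refl he
  obtain rfl : r = i := Fin.ext (hr.trans hei)
  have hk : e.2.1 ∈ elemTabs.take 4 := h2 ▸ List.mem_map.2 ⟨e, he, rfl⟩
  obtain ⟨k, hk', hke⟩ := List.getElem_of_mem hk
  have hk4 : k < 4 := by simp at hk'; omega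
  have hkl : k < elemTabs.length := by simp at hk'; omega
  have hek : elem k = rho (refl2 r) := by
    rw [elem]; refine permOf_eq ?_
    rw [List.getD_eq_getElem _ _ hkl]
    rw [List.getElem_take] at hke
    rw [hke]; exact hrep
  have h' := List.all_eq_true.1 h k (List.mem_range.2 hk4)
  simp only [Bool.and_eq_true, Nat.blt_eq, List.all_eq_true, List.mem_range, beq_iff_eq] at h'
  obtain ⟨ht, hx'⟩ := h'
  show outPerm * rho (refl2 r) * outPerm⁻¹ ∈ R
  have key : outPerm * rho (refl2 r) * outPerm⁻¹ = elem (outConj.getD k 0) * z0 * (elem (outConj.getD k 0))⁻¹ := by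
    rw [eq_mul_inv_iff_mul_eq]
    refine Equiv.ext fun x => Fin.ext ?_
    have := hx' x x.isLt
    rw [el_eq ht, z_eq, el_eq ht] at this
    rw [show app outInvTab (((elR ht : Equiv.Perm (Fin 315)) x : Fin 315) : ℕ) =
      ((outPerm.symm ((elR ht : Equiv.Perm (Fin 315)) x) : Fin 315) : ℕ) from rfl, el_eq hkl] at this
    simp only [Equiv.Perm.mul_apply, Equiv.Perm.coe_inv]
    rw [← hek]
    exact this
  rw [key]
  exact mul_mem (mul_mem (elem_mem_range ht) ⟨_, rfl⟩) (inv_mem (elem_mem_range ht))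

/-- The outer automorphism. -/
noncomputable def outAut : MulAut R :=
  ((MulAut.conj outPerm).subgroupMap R).trans (MulEquiv.subgroupCongr outPerm_conj)

theorem outAut_smul (i : Fin 315) : (outAut (fr i) : Equiv.Perm (Fin 315)) =
    outPerm * rho (refl2 i) * outPerm⁻¹ := rfl

theorem not_inner (g : R) : MulAut.conj g ≠ outAut := by
  intro h
  have hpt : ∀ i : Fin 315, fr ((g : Equiv.Perm (Fin 315)) i) = outAut (fr i) := fun i => by
    rw [← conj_fr, ← h]; rfl
  have hcomm : ∀ r : R, ((outPerm⁻¹ * g.1) * r.1) = r.1 * (outPerm⁻¹ * g.1) := by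
    intro r
    have := congrArg (fun a : MulAut R => ((a r : R) : Equiv.Perm (Fin 315))) h
    have e : g.1 * r.1 * g.1⁻¹ = outPerm * r.1 * outPerm⁻¹ := this
    calc outPerm⁻¹ * g.1 * r.1 = outPerm⁻¹ * (g.1 * r.1 * g.1⁻¹) * g.1 := by group
      _ = _ := by rw [e]; group
  -- `z` commutes with the group, so fixes the first line, hence every line
  set c := outPerm⁻¹ * g.1 with hc
  have h0 : c 0 = 0 := by
    by_contra hne
    have h := List.all_eq_true.1 stab_check.2 (c 0 : ℕ) (List.mem_range.2 (c 0).isLt)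
    simp only [Bool.or_eq_true, beq_iff_eq, List.any_eq_true, bne_iff_ne] at h
    obtain ⟨k, hk, hmove⟩ := h.resolve_left fun e => hne (Fin.ext e)
    have hk' := List.all_eq_true.1 stab_check.1 k hk
    simp only [Bool.and_eq_true, Nat.blt_eq, beq_iff_eq] at hk'
    have hfix : elem k 0 = 0 := Fin.ext (((elem_spec hk'.1).2 0).symm.trans hk'.2)
    have := congrArg (fun p : Equiv.Perm (Fin 315) => p 0) (hcomm (elR hk'.1))
    simp only [Equiv.Perm.mul_apply] at this
    rw [show ((elR hk'.1 : R) : Equiv.Perm (Fin 315)) = elem k from rfl, hfix] at this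
    exact hmove (((elem_spec hk'.1).2 (c 0)).trans (congrArg Fin.val this.symm))
  have hc1 : c = 1 := Equiv.ext fun i => by
    obtain ⟨t, ht⟩ := exists_move i
    have := congrArg (fun p : Equiv.Perm (Fin 315) => p 0) (hcomm t)
    simp only [Equiv.Perm.mul_apply, h0, ht] at this
    exact this
  have hg : g.1 = outPerm := by rwa [hc, inv_mul_eq_one, eq_comm] at hc1
  obtain ⟨-, -, e0, e241, hin, hout, hinv⟩ := outer_check
  have hs : g.1 ∈ stab0 := (fix_iff g.2).1 (by rw [hg]; exact Fin.ext e0)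
  simp only [List.all_eq_true, List.contains_iff_mem] at hinv
  have hall : ∀ x : Fin 315, (x : ℕ) ∈ (suborbitData.getD 3 []).map (fun e => e.1) →
      (g.1 x : ℕ) ∈ (suborbitData.getD 3 []).map (fun e => e.1) := by
    have hm : g.1 ∈ Submonoid.closure {y | ∃ k ∈ stabGens, elem k = y} := by
      rw [← Subgroup.closure_toSubmonoid_of_finite]; exact hs
    refine Submonoid.closure_induction (motive := fun y _ => ∀ x : Fin 315,
      (x : ℕ) ∈ (suborbitData.getD 3 []).map (fun e => e.1) →
        (y x : ℕ) ∈ (suborbitData.getD 3 []).map (fun e => e.1)) ?_ ?_ ?_ hm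
    · rintro _ ⟨k, hk, rfl⟩ x hx
      obtain ⟨e, he, hex⟩ := List.mem_map.1 hx
      have hk' := List.all_eq_true.1 stab_check.1 k hk
      simp only [Bool.and_eq_true, Nat.blt_eq] at hk'
      have := hinv k hk e he
      rw [hex, el_eq hk'.1] at this
      exact this
    · exact fun x hx => hx
    · exact fun a b _ _ ha hb x hx => ha _ (hb x hx)
  have h273 := hall 241 (by simpa using hin)
  rw [hg, show ((outPerm 241 : Fin 315) : ℕ) = app outTab 241 from rfl, e241] at h273
  rw [List.contains_eq_mem, decide_eq_false_iff_not] at hout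
  exact hout h273

theorem card_mulAut : Nat.card (MulAut R) = 1209600 := by
  have hinj : Function.Injective (MulAut.conj : R →* MulAut R) := by
    rw [injective_iff_map_eq_one]
    intro g hg
    apply Subtype.ext
    refine eq_one_of_commute fun r hr => ?_
    have e := congrArg (fun a : MulAut R => ((a ⟨r, hr⟩ : R) : Equiv.Perm (Fin 315))) hg
    have e' : g.1 * r * g.1⁻¹ = r := e
    exact (mul_inv_eq_iff_eq_mul.1 e').symm
  have hI : Nat.card (MulAut.conj : R →* MulAut R).range = 604800 := by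
    rw [← Nat.card_congr (MonoidHom.ofInjective hinj).toEquiv, card_range_rho]
  set I := (MulAut.conj : R →* MulAut R).range with hIdef
  have hne : I ≠ ⊤ := fun h => by
    obtain ⟨g, hg⟩ : outAut ∈ I := h ▸ Subgroup.mem_top _
    exact not_inner g hg
  have h2 : 2 ≤ I.index := by
    have h1 : I.index ≠ 1 := fun h => hne (Subgroup.index_eq_one.1 h)
    have h0 : I.index ≠ 0 := Subgroup.index_ne_zero_of_finite
    omega
  have := I.card_mul_index
  have hle := card_aut_le
  rw [hI] at this
  nlinarith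

end Cfsg.Agent.Icosian.Outer
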