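import Cfsg.Prelude.Def_Spor_J2

/-!
An integer model of the icosian ring: quaternions with coordinates in ½ℤ[τ].
-/

set_option autoImplicit false

namespace Cfsg.Agent.Icosian

open Quaternion Cfsg.Spor

/-- A quaternion `((c0 + d0 τ) + (c1 + d1 τ) i + (c2 + d2 τ) j + (c3 + d3 τ) k) / 2`. -/
structure Qz where
  c0 : ℤ
  d0 : ℤ
  c1 : ℤ
  d1 : ℤ
  c2 : ℤ
  d2 : ℤ
  c3 : ℤ
  d3 : ℤ
deriving DecidableEq

namespace Qz

/-- Sum. -/
def add (p q : Qz) : Qz :=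
  ⟨p.c0 + q.c0, p.d0 + q.d0, p.c1 + q.c1, p.d1 + q.d1, p.c2 + q.c2, p.d2 + q.d2, p.c3 + q.c3,
    p.d3 + q.d3⟩

/-- Negation. -/
def neg (p : Qz) : Qz := ⟨-p.c0, -p.d0, -p.c1, -p.d1, -p.c2, -p.d2, -p.c3, -p.d3⟩

/-- Difference. -/
def sub (p q : Qz) : Qz :=
  ⟨p.c0 - q.c0, p.d0 - q.d0, p.c1 - q.c1, p.d1 - q.d1, p.c2 - q.c2, p.d2 - q.d2, p.c3 - q.c3,
    p.d3 - q.d3⟩

/-- Zero. -/
def zero : Qz := ⟨0, 0, 0, 0, 0, 0, 0, 0⟩

/-- One. -/
def one : Qz := ⟨2, 0, 0, 0, 0, 0, 0, 0⟩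

/-- Conjugate. -/
def conj (p : Qz) : Qz := ⟨p.c0, p.d0, -p.c1, -p.d1, -p.c2, -p.d2, -p.c3, -p.d3⟩

/-- Rational part of `(a + bτ)(c + dτ)`. -/
def m0 (a b c d : ℤ) : ℤ := a * c + b * d

/-- `τ` part of `(a + bτ)(c + dτ)`. -/
def m1 (a b c d : ℤ) : ℤ := a * d + b * c + b * d

/-- Twice the product, componentwise. -/
def qnum (p q : Qz) : Qz :=
  ⟨m0 p.c0 p.d0 q.c0 q.d0 - m0 p.c1 p.d1 q.c1 q.d1 - m0 p.c2 p.d2 q.c2 q.d2 -
      m0 p.c3 p.d3 q.c3 q.d3,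
    m1 p.c0 p.d0 q.c0 q.d0 - m1 p.c1 p.d1 q.c1 q.d1 - m1 p.c2 p.d2 q.c2 q.d2 -
      m1 p.c3 p.d3 q.c3 q.d3,
    m0 p.c0 p.d0 q.c1 q.d1 + m0 p.c1 p.d1 q.c0 q.d0 + m0 p.c2 p.d2 q.c3 q.d3 -
      m0 p.c3 p.d3 q.c2 q.d2,
    m1 p.c0 p.d0 q.c1 q.d1 + m1 p.c1 p.d1 q.c0 q.d0 + m1 p.c2 p.d2 q.c3 q.d3 -
      m1 p.c3 p.d3 q.c2 q.d2,
    m0 p.c0 p.d0 q.c2 q.d2 - m0 p.c1 p.d1 q.c3 q.d3 + m0 p.c2 p.d2 q.c0 q.d0 +
      m0 p.c3 p.d3 q.c1 q.d1,
    m1 p.c0 p.d0 q.c2 q.d2 - m1 p.c1 p.d1 q.c3 q.d3 + m1 p.c2 p.d2 q.c0 q.d0 +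
      m1 p.c3 p.d3 q.c1 q.d1,
    m0 p.c0 p.d0 q.c3 q.d3 + m0 p.c1 p.d1 q.c2 q.d2 - m0 p.c2 p.d2 q.c1 q.d1 +
      m0 p.c3 p.d3 q.c0 q.d0,
    m1 p.c0 p.d0 q.c3 q.d3 + m1 p.c1 p.d1 q.c2 q.d2 - m1 p.c2 p.d2 q.c1 q.d1 +
      m1 p.c3 p.d3 q.c0 q.d0⟩

/-- Halve every component. -/
def half (p : Qz) : Qz :=
  ⟨p.c0 / 2, p.d0 / 2, p.c1 / 2, p.d1 / 2, p.c2 / 2, p.d2 / 2, p.c3 / 2, p.d3 / 2⟩

/-- Twice. -/
def dbl (p : Qz) : Qz := add p p

/-- Product. -/
def mul (p q : Qz) : Qz := half (qnum p q)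

/-- All components even. -/
def evenB (p : Qz) : Bool :=
  p.c0 % 2 == 0 && p.d0 % 2 == 0 && p.c1 % 2 == 0 && p.d1 % 2 == 0 && p.c2 % 2 == 0 &&
    p.d2 % 2 == 0 && p.c3 % 2 == 0 && p.d3 % 2 == 0

/-- The parity conditions cutting out the icosian ring. -/
def icoB (p : Qz) : Bool :=
  (p.c2 - (p.d0 + p.c1 + p.d1)) % 2 == 0 && (p.d2 - (p.c0 + p.d0 + p.c1)) % 2 == 0 &&
    (p.c3 - (p.c0 + p.d0 + p.d1)) % 2 == 0 && (p.d3 - (p.c0 + p.c1 + p.d1)) % 2 == 0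

/-- `p` represents an icosian. -/
def Ico (p : Qz) : Prop := icoB p = true

theorem ico_iff {p : Qz} : Ico p ↔
    (p.c2 - (p.d0 + p.c1 + p.d1)) % 2 = 0 ∧ (p.d2 - (p.c0 + p.d0 + p.c1)) % 2 = 0 ∧
    (p.c3 - (p.c0 + p.d0 + p.d1)) % 2 = 0 ∧ (p.d3 - (p.c0 + p.c1 + p.d1)) % 2 = 0 := by
  simp [Ico, icoB, and_assoc]

theorem evenB_iff {p : Qz} : evenB p = true ↔ p.c0 % 2 = 0 ∧ p.d0 % 2 = 0 ∧ p.c1 % 2 = 0 ∧
    p.d1 % 2 = 0 ∧ p.c2 % 2 = 0 ∧ p.d2 % 2 = 0 ∧ p.c3 % 2 = 0 ∧ p.d3 % 2 = 0 := by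
  simp [evenB, and_assoc]

theorem ico_zero : Ico zero := rfl

theorem ico_one : Ico one := rfl

theorem ico_add {p q : Qz} (hp : Ico p) (hq : Ico q) : Ico (add p q) := by
  rw [ico_iff] at *; simp only [add]; omega

theorem ico_neg {p : Qz} (hp : Ico p) : Ico (neg p) := by
  rw [ico_iff] at *; simp only [neg]; omega

theorem ico_sub {p q : Qz} (hp : Ico p) (hq : Ico q) : Ico (sub p q) := by
  rw [ico_iff] at *; simp only [sub]; omega

theorem ico_conj {p : Qz} (hp : Ico p) : Ico (conj p) := by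
  rw [ico_iff] at *; simp only [conj]; omega

end Qz

open Qz

/-- The real number `(a + bτ)/2`. -/
noncomputable def zv (a b : ℤ) : ℝ := ((a : ℝ) + (b : ℝ) * tau) / 2

/-- The quaternion of an integer model element. -/
noncomputable def phi (p : Qz) : ℍ[ℝ] :=
  ⟨zv p.c0 p.d0, zv p.c1 p.d1, zv p.c2 p.d2, zv p.c3 p.d3⟩

theorem tau_sq : tau * tau = tau + 1 := by
  have h : Real.sqrt 5 * Real.sqrt 5 = 5 := Real.mul_self_sqrt (by norm_num)
  unfold tau; linear_combination h / 4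

theorem sig_eq : sig = 1 - tau := by unfold sig tau; ring

theorem sqrt_five_eq : Real.sqrt 5 = 2 * tau - 1 := by unfold tau; ring

theorem tau_irrational : Irrational tau := by
  have h := Real.goldenRatio_irrational
  exact h

theorem zv_inj {a b c d : ℤ} (h : zv a b = zv c d) : a = c ∧ b = d := by
  by_cases hb : b = d
  · subst hb
    unfold zv at h
    refine ⟨?_, rfl⟩
    have : (a : ℝ) = c := by linarith
    exact_mod_cast this
  · exfalso
    apply tau_irrational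
    refine ⟨((c - a : ℤ) : ℚ) / ((b - d : ℤ) : ℚ), ?_⟩
    have hne : ((b : ℝ) - d) ≠ 0 := sub_ne_zero.2 (by exact_mod_cast hb)
    push_cast
    rw [div_eq_iff hne]
    unfold zv at h
    linarith

@[simp] theorem phi_re (p : Qz) : (phi p).re = zv p.c0 p.d0 := rfl

@[simp] theorem phi_imI (p : Qz) : (phi p).imI = zv p.c1 p.d1 := rfl

@[simp] theorem phi_imJ (p : Qz) : (phi p).imJ = zv p.c2 p.d2 := rfl

@[simp] theorem phi_imK (p : Qz) : (phi p).imK = zv p.c3 p.d3 := rfl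

theorem phi_injective : Function.Injective phi := by
  intro p q h
  obtain ⟨e1, e2⟩ := zv_inj (congrArg QuaternionAlgebra.re h)
  obtain ⟨e3, e4⟩ := zv_inj (congrArg QuaternionAlgebra.imI h)
  obtain ⟨e5, e6⟩ := zv_inj (congrArg QuaternionAlgebra.imJ h)
  obtain ⟨e7, e8⟩ := zv_inj (congrArg QuaternionAlgebra.imK h)
  cases p; cases q; simp_all

theorem phi_add (p q : Qz) : phi (add p q) = phi p + phi q := by
  ext <;> simp [Qz.add, zv] <;> ring

theorem phi_neg (p : Qz) : phi (neg p) = -phi p := by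
  ext <;> simp [Qz.neg, zv] <;> ring

theorem phi_sub (p q : Qz) : phi (sub p q) = phi p - phi q := by
  ext <;> simp [Qz.sub, zv] <;> ring

theorem phi_zero : phi zero = 0 := by
  ext <;> simp [Qz.zero, zv]

theorem phi_one : phi one = 1 := by
  ext <;> simp [Qz.one, zv]

theorem phi_conj (p : Qz) : phi (conj p) = star (phi p) := by
  ext <;> simp [Qz.conj, zv] <;> ring

theorem zv_mul (a b c d : ℤ) :
    zv a b * zv c d = ((m0 a b c d : ℤ) + (m1 a b c d : ℤ) * tau) / 4 := by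
  unfold zv m0 m1; push_cast; linear_combination ((b : ℝ) * d / 4) * tau_sq

theorem phi_qnum (p q : Qz) : phi p * phi q = (1 / 2 : ℝ) • phi (qnum p q) := by
  ext <;>
    simp only [phi_re, phi_imI, phi_imJ, phi_imK, Quaternion.re_mul, Quaternion.imI_mul, Quaternion.imJ_mul,
      Quaternion.imK_mul, Quaternion.re_smul, Quaternion.imI_smul, Quaternion.imJ_smul,
      Quaternion.imK_smul, smul_eq_mul, zv_mul, qnum] <;>
    simp only [zv] <;> push_cast <;> ring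

theorem phi_dbl (p : Qz) : phi (dbl p) = (2 : ℝ) • phi p := by
  rw [dbl, phi_add, two_smul]

theorem dbl_half {p : Qz} (h : evenB p = true) : dbl (half p) = p := by
  rw [evenB_iff] at h
  cases p
  simp only [dbl, Qz.add, half, Qz.mk.injEq] at *
  omega

theorem phi_mul_of_even {p q : Qz} (h : evenB (qnum p q) = true) :
    phi p * phi q = phi (mul p q) := by
  rw [phi_qnum, mul]
  conv_lhs => rw [← dbl_half h, phi_dbl, smul_smul]
  norm_num

/-- The basis of the icosian ring. -/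
def basisB : List Qz :=
  [⟨1, 0, 0, 0, 0, 1, 1, 1⟩, ⟨0, 1, 0, 0, 1, 1, 1, 0⟩, ⟨0, 0, 1, 0, 1, 1, 0, 1⟩,
    ⟨0, 0, 0, 1, 1, 0, 1, 1⟩, ⟨0, 0, 0, 0, 2, 0, 0, 0⟩, ⟨0, 0, 0, 0, 0, 2, 0, 0⟩,
    ⟨0, 0, 0, 0, 0, 0, 2, 0⟩, ⟨0, 0, 0, 0, 0, 0, 0, 2⟩]

/-- The icosians of the model, as an additive subgroup of the quaternions. -/
noncomputable def icoGroup : AddSubgroup ℍ[ℝ] where
  carrier := phi '' {p | Ico p}
  zero_mem' := ⟨zero, ico_zero, phi_zero⟩
  add_mem' := by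
    rintro _ _ ⟨p, hp, rfl⟩ ⟨q, hq, rfl⟩; exact ⟨add p q, ico_add hp hq, phi_add p q⟩
  neg_mem' := by rintro _ ⟨p, hp, rfl⟩; exact ⟨neg p, ico_neg hp, phi_neg p⟩

theorem icoGroup_le {S : AddSubgroup ℍ[ℝ]} (h : ∀ b ∈ basisB, phi b ∈ S) : icoGroup ≤ S := by
  rintro _ ⟨p, hp, rfl⟩
  have hp' := ico_iff.1 hp
  obtain ⟨k4, h4⟩ : ∃ k : ℤ, p.c2 = p.d0 + p.c1 + p.d1 + 2 * k :=
    ⟨(p.c2 - (p.d0 + p.c1 + p.d1)) / 2, by omega⟩
  obtain ⟨k5, h5⟩ : ∃ k : ℤ, p.d2 = p.c0 + p.d0 + p.c1 + 2 * k :=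
    ⟨(p.d2 - (p.c0 + p.d0 + p.c1)) / 2, by omega⟩
  obtain ⟨k6, h6⟩ : ∃ k : ℤ, p.c3 = p.c0 + p.d0 + p.d1 + 2 * k :=
    ⟨(p.c3 - (p.c0 + p.d0 + p.d1)) / 2, by omega⟩
  obtain ⟨k7, h7⟩ : ∃ k : ℤ, p.d3 = p.c0 + p.c1 + p.d1 + 2 * k :=
    ⟨(p.d3 - (p.c0 + p.c1 + p.d1)) / 2, by omega⟩
  have e : phi p = p.c0 • phi ⟨1, 0, 0, 0, 0, 1, 1, 1⟩ + p.d0 • phi ⟨0, 1, 0, 0, 1, 1, 1, 0⟩ +
      p.c1 • phi ⟨0, 0, 1, 0, 1, 1, 0, 1⟩ + p.d1 • phi ⟨0, 0, 0, 1, 1, 0, 1, 1⟩ +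
      k4 • phi ⟨0, 0, 0, 0, 2, 0, 0, 0⟩ + k5 • phi ⟨0, 0, 0, 0, 0, 2, 0, 0⟩ +
      k6 • phi ⟨0, 0, 0, 0, 0, 0, 2, 0⟩ + k7 • phi ⟨0, 0, 0, 0, 0, 0, 0, 2⟩ := by
    ext <;> simp [zv, h4, h5, h6, h7] <;> ring
  show phi p ∈ S
  rw [e]
  simp only [basisB, List.mem_cons, List.not_mem_nil, or_false, forall_eq_or_imp, forall_eq] at h
  obtain ⟨a, b, c, d, x, y, z, w⟩ := h
  repeat' apply add_mem
  all_goals apply zsmul_mem
  all_goals assumption

theorem basis_closed :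
    (basisB.all fun b => icoB b &&
      basisB.all fun c => evenB (qnum b c) && icoB (mul b c)) = true := by decide +kernel

theorem icoB_of_basis {b : Qz} (hb : b ∈ basisB) : Ico b := by
  have hB := basis_closed
  simp only [List.all_eq_true, Bool.and_eq_true] at hB
  exact (hB b hb).1

theorem icoGroup_mul {x y : ℍ[ℝ]} (hx : x ∈ icoGroup) (hy : y ∈ icoGroup) : x * y ∈ icoGroup := by
  have hB := basis_closed
  simp only [List.all_eq_true, Bool.and_eq_true] at hB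
  have h1 : ∀ b ∈ basisB, ∀ c ∈ basisB, phi b * phi c ∈ icoGroup := fun b hb c hc =>
    ⟨mul b c, ((hB b hb).2 c hc).2, (phi_mul_of_even ((hB b hb).2 c hc).1).symm⟩
  have h2 : ∀ b ∈ basisB, phi b * y ∈ icoGroup := fun b hb =>
    icoGroup_le (S := icoGroup.comap (AddMonoidHom.mulLeft (phi b))) (h1 b hb) hy
  exact icoGroup_le (S := icoGroup.comap (AddMonoidHom.mulRight y)) h2 hx

theorem evenB_qnum {p q : Qz} (hp : Ico p) (hq : Ico q) : evenB (qnum p q) = true ∧ Ico (mul p q) := by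
  obtain ⟨r, hr, e⟩ := icoGroup_mul ⟨p, hp, rfl⟩ ⟨q, hq, rfl⟩
  rw [phi_qnum] at e
  have e2 : phi (dbl r) = phi (qnum p q) := by
    rw [phi_dbl, e, smul_smul]; norm_num
  have e3 := phi_injective e2
  have hev : evenB (qnum p q) = true := by
    rw [← e3, evenB_iff]; simp only [dbl, Qz.add]; omega
  refine ⟨hev, ?_⟩
  have : dbl (mul p q) = dbl r := by rw [mul, dbl_half hev, e3]
  have : mul p q = r := by
    revert this
    generalize mul p q = s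
    intro h
    cases s; cases r
    simp only [dbl, Qz.add, Qz.mk.injEq] at *
    omega
  exact this ▸ hr

theorem phi_mul {p q : Qz} (hp : Ico p) (hq : Ico q) : phi p * phi q = phi (mul p q) :=
  phi_mul_of_even (evenB_qnum hp hq).1

theorem ico_mul {p q : Qz} (hp : Ico p) (hq : Ico q) : Ico (mul p q) := (evenB_qnum hp hq).2

/-- The generator `i`. -/
def qi : Qz := ⟨0, 0, 2, 0, 0, 0, 0, 0⟩

/-- The generator `(1 + σ i + τ k)/2`. -/
def qw : Qz := ⟨1, 0, 1, -1, 0, 0, 0, 1⟩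

theorem phi_qi : phi qi = qI := by
  ext <;> simp [qi, qI, zv]

theorem phi_qw : phi qw = ⟨1 / 2, sig / 2, 0, tau / 2⟩ := by
  ext <;> simp [qw, zv, sig_eq] <;> ring

/-- A word in the two generators (`true` for `w`). -/
def word : List Bool → Qz
  | [] => one
  | b :: l => mul (if b then qw else qi) (word l)

theorem word_spec : ∀ l : List Bool, Ico (word l) ∧ phi (word l) ∈ icosians
  | [] => ⟨ico_one, by rw [word, phi_one]; exact one_mem _⟩
  | b :: l => by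
    obtain ⟨h1, h2⟩ := word_spec l
    have hb : Ico (if b then qw else qi) ∧ phi (if b then qw else qi) ∈ icosians := by
      cases b
      · exact ⟨rfl, by rw [if_neg (by simp), phi_qi]; exact Subring.subset_closure (by simp)⟩
      · exact ⟨rfl, by rw [if_pos rfl, phi_qw]; exact Subring.subset_closure (Set.mem_insert_of_mem _ rfl)⟩
    exact ⟨ico_mul hb.1 h1, by rw [word, ← phi_mul hb.1 h1]; exact mul_mem hb.2 h2⟩

/-- Each basis element as minus a sum of two words. -/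
def basisWords : List (List Bool × List Bool) :=
  [([true, false, false], [true, true, false, true, false, false]),
    ([true, false, false, false], [true, true, false, true, false, true, false]),
    ([true, false, false, false], [true, false, true, true, false, false, false]),
    ([false, true, false, false, false], [true, true, false, true, true, false, true, false]),
    ([true, false, true, false, false, false], [false, true, false, true]),
    ([true, false, false, false], [false, true]),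
    ([true, false, true, false, false], [false, true, false, true, false, false, false]),
    ([true, false, false], [false, true, false, false, false])]

theorem basisB_eq : basisB = basisWords.map fun w => neg (add (word w.1) (word w.2)) := by
  decide +kernel

theorem mem_icosians {x : ℍ[ℝ]} : x ∈ icosians ↔ ∃ p, Ico p ∧ phi p = x := by
  constructor
  · intro hx
    let R : Subring ℍ[ℝ] :=
      { icoGroup with
        one_mem' := ⟨one, ico_one, phi_one⟩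
        mul_mem' := fun ha hb => icoGroup_mul ha hb }
    have : icosians ≤ R := by
      rw [icosians, Subring.closure_le]
      rintro y (rfl | rfl)
      · exact ⟨qi, rfl, phi_qi⟩
      · exact ⟨qw, rfl, phi_qw⟩
    exact this hx
  · rintro ⟨p, hp, rfl⟩
    refine icoGroup_le (S := icosians.toAddSubgroup) (fun b hb => ?_) ⟨p, hp, rfl⟩
    rw [basisB_eq, List.mem_map] at hb
    obtain ⟨w, -, rfl⟩ := hb
    rw [phi_neg, phi_add]
    exact neg_mem (add_mem (word_spec _).2 (word_spec _).2)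

theorem phi_mem_icosians {p : Qz} (hp : Ico p) : phi p ∈ icosians := mem_icosians.2 ⟨p, hp, rfl⟩

end Cfsg.Agent.Icosian
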