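import Cfsg.Agent.Lib.Icosian.ShortCheck

/-!
The short vectors of the icosian Leech lattice and the 315 lines they span.
-/

set_option autoImplicit false
set_option maxRecDepth 100000

namespace Cfsg.Agent.Icosian

open Quaternion Cfsg.Spor Qz Enum

theorem lam_of_psi {w : V3} (h : psi w ∈ icoLeech) : Lam w := by
  obtain ⟨v, hv, e⟩ := exists_psi h
  exact psi_injective e ▸ hv

theorem psi_smulV {u : Qz} {v : V3} (hu : Ico u) (hv : Lam v) :
    psi (smulV u v) = lmul (phi u) (psi v) := by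
  obtain ⟨a, b, c, -⟩ := lam_iff.1 hv
  funext t
  fin_cases t
  · exact (phi_mul hu a).symm
  · exact (phi_mul hu b).symm
  · exact (phi_mul hu c).symm

theorem lam_smulV {u : Qz} {v : V3} (hu : Ico u) (hv : Lam v) : Lam (smulV u v) :=
  lam_of_psi (by rw [psi_smulV hu hv]; exact lmul_mem_leech (phi_mem_icosians hu) (psi_mem hv))

theorem phi_four : phi ⟨8, 0, 0, 0, 0, 0, 0, 0⟩ = 4 := by
  rw [show (4 : ℍ[ℝ]) = algebraMap ℝ ℍ[ℝ] 4 from (map_ofNat _ 4).symm, Algebra.algebraMap_eq_smul_one]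
  ext <;> simp [zv]
  norm_num

theorem qnum_conj_self (p : Qz) :
    (qnum p (Qz.conj p)).c0 = ssq p ∧ (qnum p (Qz.conj p)).d0 = tb p := by
  constructor <;> simp [qnum, Qz.conj, m0, m1, ssq, tb] <;> ring

theorem short_sums {v : V3} (hv : Lam v) (h : qip (psi v) (psi v) = 4) :
    ssq v.x + ssq v.y + ssq v.z = 16 ∧ tb v.x + tb v.y + tb v.z = 0 := by
  rw [qip_psi hv hv, ← phi_four] at h
  have e := phi_injective h
  obtain ⟨a, b, c, -⟩ := lam_iff.1 hv
  have e1 := congrArg Qz.c0 e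
  have e2 := congrArg Qz.d0 e
  have ha := evenB_iff.1 (evenB_qnum a (ico_conj a)).1
  have hb := evenB_iff.1 (evenB_qnum b (ico_conj b)).1
  have hc := evenB_iff.1 (evenB_qnum c (ico_conj c)).1
  simp only [ipz, Qz.add, mul, half] at e1 e2
  rw [(qnum_conj_self v.x).1, (qnum_conj_self v.y).1, (qnum_conj_self v.z).1] at e1
  rw [(qnum_conj_self v.x).2, (qnum_conj_self v.y).2, (qnum_conj_self v.z).2] at e2
  rw [(qnum_conj_self v.x).1, (qnum_conj_self v.x).2] at ha
  rw [(qnum_conj_self v.y).1, (qnum_conj_self v.y).2] at hb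
  rw [(qnum_conj_self v.z).1, (qnum_conj_self v.z).2] at hc
  omega

theorem ssq_nonneg (p : Qz) : 0 ≤ ssq p := by
  unfold ssq
  nlinarith [mul_self_nonneg p.c0, mul_self_nonneg p.d0, mul_self_nonneg p.c1, mul_self_nonneg p.d1,
    mul_self_nonneg p.c2, mul_self_nonneg p.d2, mul_self_nonneg p.c3, mul_self_nonneg p.d3]

theorem mem_rng {x : ℤ} (h : x * x ≤ 16) : x ∈ rng := by
  have h1 : -4 ≤ x := by nlinarith
  have h2 : x ≤ 4 := by nlinarith
  interval_cases x <;> decide

theorem pointOk_of_ssq {p : Qz} (hp : Ico p) (h : ssq p ≤ 16) : pointOk p = true := by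
  have q0 := mul_self_nonneg p.c0
  have q1 := mul_self_nonneg p.d0
  have q2 := mul_self_nonneg p.c1
  have q3 := mul_self_nonneg p.d1
  have q4 := mul_self_nonneg p.c2
  have q5 := mul_self_nonneg p.d2
  have q6 := mul_self_nonneg p.c3
  have q7 := mul_self_nonneg p.d3
  simp only [ssq] at h
  have hb := List.all_eq_true.1 buckets_check p.c2 (mem_rng (by linarith))
  simp only [bucketsOk, List.all_eq_true, Bool.or_eq_true, Bool.not_eq_true', decide_eq_false_iff_not,
    List.any_eq_true, Bool.and_eq_true, beq_iff_eq] at hb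
  have hb' := (hb p.d2 (mem_rng (by linarith)) p.c3 (mem_rng (by linarith)) p.d3
    (mem_rng (by linarith))).resolve_left (not_not.2 (by unfold sq4; linarith))
  obtain ⟨g, hg, ⟨⟨g0, g1⟩, g2⟩, g3⟩ := hb'
  have hs := List.all_eq_true.1 slices_check p.c0 (mem_rng (by linarith))
  simp only [sliceOk, List.all_eq_true, Bool.or_eq_true, Bool.not_eq_true',
    decide_eq_false_iff_not] at hs
  have hi := ico_iff.1 hp
  have hidx : pidx p.c2 p.d2 p.c3 p.d3 = pidx (p.d0 + p.c1 + p.d1) (p.c0 + p.d0 + p.c1)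
      (p.c0 + p.d0 + p.d1) (p.c0 + p.c1 + p.d1) := by
    simp only [pidx]; omega
  have := ((hs p.d0 (mem_rng (by linarith)) p.c1 (mem_rng (by linarith)) p.d1
    (mem_rng (by linarith))).resolve_left (not_not.2 (by unfold sq4; linarith)) g
      (hidx ▸ hg)).resolve_left (not_not.2 (by rw [g0, g1, g2, g3]; unfold sq4; linarith))
  rw [g0, g1, g2, g3] at this
  exact this

theorem mem_allNorms {p : Qz} (hp : Ico p) (h : ssq p ≤ 16) : (ssq p, tb p) ∈ allNorms := by
  have := pointOk_of_ssq hp h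
  simp only [pointOk, Bool.and_eq_true, List.any_eq_true, beq_iff_eq] at this
  obtain ⟨e, he, e1, e2⟩ := this.1
  exact (Prod.ext e1 e2 : e = (ssq p, tb p)) ▸ he

theorem relevant_of_short {p q r : Qz} (hp : Ico p) (hq' : Ico q) (hr : Ico r)
    (h1 : ssq p + ssq q + ssq r = 16) (h2 : tb p + tb q + tb r = 0) : relevant p = true := by
  have n1 := ssq_nonneg p
  have n2 := ssq_nonneg q
  have n3 := ssq_nonneg r
  have h := List.all_eq_true.1 (List.all_eq_true.1 (List.all_eq_true.1 norms_triples _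
    (mem_allNorms hp (by omega))) _ (mem_allNorms hq' (by omega))) _ (mem_allNorms hr (by omega))
  simp only [h1, h2, beq_self_eq_true, Bool.and_self, Bool.not_true, Bool.false_or] at h
  exact h

theorem dec_low (e : ℕ) : dec (Nat.land e 4294967295) = dec e := by
  have hf : ∀ i < 8, fld (Nat.land e 4294967295) i = fld e i := by
    intro i hi
    have hm : ((4294967295 : ℕ) >>> (4 * i)) &&& 15 = 15 := by
      interval_cases i <;> rfl
    show ((((e &&& 4294967295) >>> (4 * i)) &&& 15 : ℕ) : ℤ) - 8 =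
      (((e >>> (4 * i)) &&& 15 : ℕ) : ℤ) - 8
    rw [Nat.shiftRight_and_distrib, Nat.and_assoc, hm]
  simp only [dec, hf 0, hf 1, hf 2, hf 3, hf 4, hf 5, hf 6, hf 7, Nat.ofNat_pos, Nat.one_lt_ofNat,
    Nat.reduceLT, implies_true]

theorem exists_entry {p : Qz} (hp : Ico p) (h : ssq p ≤ 16) (hr : relevant p = true) :
    ∃ e ∈ tget (clsH p) (clsHb p), dec e = p := by
  have := pointOk_of_ssq hp h
  simp only [pointOk, hr, Bool.not_true, Bool.false_or, Bool.and_eq_true, List.any_eq_true,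
    beq_iff_eq, qeq_iff] at this
  obtain ⟨-, hd, e, he, he'⟩ := this
  exact ⟨e, he, by rw [← dec_low, he', hd]⟩

theorem entryOk_of_mem {i j e : ℕ} (he : e ∈ tget i j) : entryOk e = true := by
  have hall := entries_check
  simp only [List.all_eq_true] at hall
  unfold tget at he
  by_cases hi : i < tabs.length
  · rw [List.getD_eq_getElem _ _ hi] at he
    by_cases hj : j < (tabs[i]).length
    · rw [List.getD_eq_getElem _ _ hj] at he
      exact hall _ (List.getElem_mem hi) _ (List.getElem_mem hj) e he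
    · rw [List.getD_eq_default _ _ (Nat.not_lt.1 hj)] at he; simp at he
  · rw [List.getD_eq_default _ _ (Nat.not_lt.1 hi)] at he; simp at he

theorem exists_normal {p : Qz} (hp : Ico p) (h : ssq p ≤ 16) (hr : relevant p = true)
    (hne : p ≠ Qz.zero) : ∃ u ∈ units, mul u p ∈ classes := by
  obtain ⟨e, he, rfl⟩ := exists_entry hp h hr
  have := entryOk_of_mem he
  simp only [entryOk, Bool.or_eq_true, Bool.and_eq_true, qeq_iff, Nat.blt_eq] at this
  obtain ⟨⟨h1, h2⟩, h3⟩ := this.resolve_left hne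
  refine ⟨units.getD (Nat.land (Nat.shiftRight e 32) 127) Qz.zero, ?_, ?_⟩
  · rw [List.getD_eq_getElem _ _ h3]; exact List.getElem_mem h3
  · rw [h1, List.getD_eq_getElem _ _ h2]; exact List.getElem_mem h2

theorem unit_spec {u : Qz} (hu : u ∈ units) : Ico u ∧ phi u * star (phi u) = 1 ∧
    star (phi u) * phi u = 1 := by
  have := List.all_eq_true.1 units_check u hu
  simp only [Bool.and_eq_true, qeq_iff] at this
  obtain ⟨⟨⟨a, -⟩, c⟩, d⟩ := this
  refine ⟨a, ?_, ?_⟩
  · rw [← phi_conj, phi_mul a (ico_conj a), d, phi_one]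
  · rw [← phi_conj, phi_mul (ico_conj a) a, c, phi_one]

theorem qip_smul_unit {u : Qz} (hu : u ∈ units) {v : V3} (hv : Lam v)
    (h : qip (psi v) (psi v) = 4) :
    qip (psi (smulV u v)) (psi (smulV u v)) = 4 := by
  obtain ⟨hi, h1, -⟩ := unit_spec hu
  rw [psi_smulV hi hv, qip_lmul_left, qip_lmul_right, h, ← mul_assoc, mul_four, smul_mul_assoc, h1,
    show (4 : ℍ[ℝ]) = algebraMap ℝ ℍ[ℝ] 4 from (map_ofNat _ 4).symm, Algebra.algebraMap_eq_smul_one]

theorem cbit_add {a b c : ℤ} (ha : a % 2 = 0) (hb : b % 2 = 0) (h : (a + b + c) % 4 = 0) :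
    cbit c = Nat.xor (cbit a) (cbit b) := by
  simp only [cbit, beq_iff_eq]
  split_ifs <;> first | rfl | omega

theorem code_xor (a0 a1 a2 a3 b0 b1 b2 b3 : ℕ) (h0 : a0 ≤ 1) (h1 : a1 ≤ 1) (h2 : a2 ≤ 1)
    (h3 : a3 ≤ 1) (k0 : b0 ≤ 1) (k1 : b1 ≤ 1) (k2 : b2 ≤ 1) (k3 : b3 ≤ 1) :
    Nat.xor (a0 + 2 * a1 + 4 * a2 + 8 * a3) (b0 + 2 * b1 + 4 * b2 + 8 * b3) =
      Nat.xor a0 b0 + 2 * Nat.xor a1 b1 + 4 * Nat.xor a2 b2 + 8 * Nat.xor a3 b3 := by
  have key : ∀ p q : Fin 2 × Fin 2 × Fin 2 × Fin 2,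
      Nat.xor ((p.1 : ℕ) + 2 * p.2.1 + 4 * p.2.2.1 + 8 * p.2.2.2)
        ((q.1 : ℕ) + 2 * q.2.1 + 4 * q.2.2.1 + 8 * q.2.2.2) =
      Nat.xor p.1 q.1 + 2 * Nat.xor p.2.1 q.2.1 + 4 * Nat.xor p.2.2.1 q.2.2.1 +
        8 * Nat.xor p.2.2.2 q.2.2.2 := by decide +kernel
  exact key (⟨a0, by omega⟩, ⟨a1, by omega⟩, ⟨a2, by omega⟩, ⟨a3, by omega⟩)
    (⟨b0, by omega⟩, ⟨b1, by omega⟩, ⟨b2, by omega⟩, ⟨b3, by omega⟩)

theorem cbit_le (a : ℤ) : cbit a ≤ 1 := by simp only [cbit]; split_ifs <;> omega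

theorem clsH_eq_of_sub {p q : Qz} (h : inH (sub p q) = true) : clsH p = clsH q := by
  obtain ⟨-, h⟩ := inH_iff.1 h
  simp only [lf, Qz.sub] at h
  obtain ⟨a, b, c, d⟩ := h
  simp only [clsH, cbit, lf, beq_iff_eq]
  congr 1 <;> [skip; skip]
  all_goals (split_ifs <;> omega)

theorem lf_even {p : Qz} (hp : Ico p) :
    lf 2 3 3 0 0 0 1 1 p % 2 = 0 ∧ lf 3 3 0 2 1 0 0 1 p % 2 = 0 ∧
      lf 1 3 1 1 1 1 1 1 p % 2 = 0 ∧ lf 3 2 2 2 0 1 1 1 p % 2 = 0 := by
  rw [ico_iff] at hp
  simp only [lf]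
  omega

theorem clsHb_third {x y z : Qz} (hx : Ico x) (hy : Ico y)
    (h : inHb (add (add x y) z) = true) : clsHb z = Nat.xor (clsHb x) (clsHb y) := by
  obtain ⟨-, a, b, c, d⟩ := inHb_iff.1 h
  obtain ⟨x0, x1, x2, x3⟩ := lf_even hx
  obtain ⟨y0, y1, y2, y3⟩ := lf_even hy
  have e : ∀ a b c d e f g k : ℤ, lf a b c d e f g k (add (add x y) z) =
      lf a b c d e f g k x + lf a b c d e f g k y + lf a b c d e f g k z := by
    intros; simp only [lf, Qz.add]; ring
  rw [e] at a b c d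
  simp only [clsHb]
  rw [code_xor _ _ _ _ _ _ _ _ (cbit_le _) (cbit_le _) (cbit_le _) (cbit_le _) (cbit_le _)
    (cbit_le _) (cbit_le _) (cbit_le _), cbit_add x0 y0 a, cbit_add x1 y1 b, cbit_add x2 y2 c,
    cbit_add x3 y3 d]

theorem clsHb_lt (x : Qz) : clsHb x < 16 := by
  have h0 := cbit_le (lf 2 3 3 0 0 0 1 1 x)
  have h1 := cbit_le (lf 3 3 0 2 1 0 0 1 x)
  have h2 := cbit_le (lf 1 3 1 1 1 1 1 1 x)
  have h3 := cbit_le (lf 3 2 2 2 0 1 1 1 x)
  simp only [clsHb]; omega

theorem cls_zero : clsH Qz.zero = 0 ∧ clsHb Qz.zero = 0 := by decide +kernel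

theorem shortB_of {x y z : Qz} (h1 : ssq x + ssq y + ssq z = 16)
    (h2 : tb x + tb y + tb z = 0) : shortB x y z = true := by
  simp [shortB, h1, h2]

theorem mul_zero_right {u : Qz} (hu : Ico u) : mul u Qz.zero = Qz.zero :=
  phi_injective (by rw [← phi_mul hu ico_zero, phi_zero, mul_zero])

/-- Every short vector is a unit multiple of a listed vector. -/
theorem exists_line {v : V3} (hv : Lam v) (h : qip (psi v) (psi v) = 4) :
    ∃ u ∈ units, smulV u v ∈ lines := by
  have hs := short_sums hv h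
  obtain ⟨hx, hy, hz, h1, h2, h3⟩ := lam_iff.1 hv
  have n1 := ssq_nonneg v.x
  have n2 := ssq_nonneg v.y
  have n3 := ssq_nonneg v.z
  have rx : relevant v.x = true := relevant_of_short hx hy hz hs.1 hs.2
  have ry : relevant v.y = true :=
    relevant_of_short hy hx hz (by omega) (by omega)
  have rz : relevant v.z = true :=
    relevant_of_short hz hy hx (by omega) (by omega)
  suffices hmain : ∀ u ∈ units, ∀ w, smulV u v = w →
      (mul u v.x ∈ classes ∨ (v.x = Qz.zero ∧ mul u v.y ∈ classes) ∨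
        (v.x = Qz.zero ∧ v.y = Qz.zero ∧ mul u v.z ∈ classes)) → w ∈ lines by
    by_cases ex : v.x = Qz.zero
    · by_cases ey : v.y = Qz.zero
      · have ez : v.z ≠ Qz.zero := by
          intro ez
          rw [ex, ey, ez] at hs
          exact absurd hs.1 (by decide)
        obtain ⟨u, hu, hc⟩ := exists_normal hz (by omega) rz ez
        exact ⟨u, hu, hmain u hu _ rfl (Or.inr (Or.inr ⟨ex, ey, hc⟩))⟩
      · obtain ⟨u, hu, hc⟩ := exists_normal hy (by omega) ry ey
        exact ⟨u, hu, hmain u hu _ rfl (Or.inr (Or.inl ⟨ex, hc⟩))⟩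
    · obtain ⟨u, hu, hc⟩ := exists_normal hx (by omega) rx ex
      exact ⟨u, hu, hmain u hu _ rfl (Or.inl hc)⟩
  intro u hu w hw hcase
  have hI := (unit_spec hu).1
  have hwl : Lam w := hw ▸ lam_smulV hI hv
  have hwq : qip (psi w) (psi w) = 4 := hw ▸ qip_smul_unit hu hv h
  have hs' := short_sums hwl hwq
  obtain ⟨wx, wy, wz, k1, k2, k3⟩ := lam_iff.1 hwl
  have m1 := ssq_nonneg w.x
  have m2 := ssq_nonneg w.y
  have m3 := ssq_nonneg w.z
  have e12 := clsH_eq_of_sub k1
  have e23 := clsH_eq_of_sub k2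
  have e3 := clsHb_third wx wy k3
  have ry' : relevant w.y = true := relevant_of_short wy wx wz (by omega) (by omega)
  have rz' : relevant w.z = true := relevant_of_short wz wy wx (by omega) (by omega)
  obtain ⟨fy, hfy, efy⟩ := exists_entry wy (by omega) ry'
  obtain ⟨fz, hfz, efz⟩ := exists_entry wz (by omega) rz'
  rw [← e23, ← e12, e3] at hfz
  rw [← e12] at hfy
  rw [← lines_check, List.mem_append, List.mem_append]
  rcases hcase with hc | ⟨ex, hc⟩ | ⟨ex, ey, hc⟩
  · left; left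
    have hcw : w.x ∈ classes := hw ▸ hc
    refine List.mem_flatMap.2 ⟨w.x, hcw, List.mem_flatMap.2 ⟨clsHb w.y,
      List.mem_range.2 (clsHb_lt _), List.mem_flatMap.2 ⟨fy, hfy, List.mem_map.2 ⟨fz, ?_, ?_⟩⟩⟩⟩
    · exact List.mem_filter.2 ⟨hfz, by rw [efy, efz]; exact shortB_of hs'.1 hs'.2⟩
    · rw [efy, efz]
  · left; right
    have ewx : w.x = Qz.zero := by
      rw [← hw]; show mul u v.x = _; rw [ex, mul_zero_right hI]
    have hcw : w.y ∈ classes := hw ▸ hc
    rw [ewx, cls_zero.1] at e12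
    rw [ewx, cls_zero.1, cls_zero.2] at hfz
    rw [show Nat.xor 0 (clsHb w.y) = clsHb w.y from Nat.zero_xor _] at hfz
    refine List.mem_flatMap.2 ⟨w.y, hcw, ?_⟩
    rw [if_pos (by simp [← e12])]
    refine List.mem_map.2 ⟨fz, List.mem_filter.2 ⟨hfz, ?_⟩, ?_⟩
    · rw [efz, ← ewx]; exact shortB_of hs'.1 hs'.2
    · rw [efz, ← ewx]
  · right
    have ewx : w.x = Qz.zero := by
      rw [← hw]; show mul u v.x = _; rw [ex, mul_zero_right hI]
    have ewy : w.y = Qz.zero := by
      rw [← hw]; show mul u v.y = _; rw [ey, mul_zero_right hI]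
    have hcw : w.z ∈ classes := hw ▸ hc
    rw [ewx, cls_zero.1] at e12
    rw [← e12] at e23
    rw [ewx, ewy, cls_zero.2] at e3
    refine List.mem_map.2 ⟨w.z, List.mem_filter.2 ⟨hcw, ?_⟩, ?_⟩
    · have hsb := shortB_of hs'.1 hs'.2
      rw [ewx, ewy] at hsb
      simp [← e23, e3, hsb]
    · cases w
      simp only at ewx ewy
      rw [ewx, ewy]

/-- The representative of a line. -/
def line (i : Fin 315) : V3 := lines.getD i ⟨Qz.zero, Qz.zero, Qz.zero⟩

theorem line_mem (i : Fin 315) : line i ∈ lines := by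
  have hi : (i : ℕ) < lines.length := by rw [lines_keys.2.2.1]; exact i.isLt
  rw [line, List.getD_eq_getElem _ _ hi]; exact List.getElem_mem hi

theorem exists_line_of_mem {v : V3} (hv : v ∈ lines) : ∃ i, line i = v := by
  obtain ⟨i, hi, rfl⟩ := List.getElem_of_mem hv
  refine ⟨⟨i, lines_keys.2.2.1 ▸ hi⟩, ?_⟩
  rw [line, List.getD_eq_getElem _ _ hi]

theorem line_spec (i : Fin 315) : Lam (line i) ∧ qip (psi (line i)) (psi (line i)) = 4 := by
  have := List.all_eq_true.1 lines_keys.1 _ (line_mem i)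
  simp only [Bool.and_eq_true, qeq_iff] at this
  exact ⟨this.1, by rw [qip_psi this.1 this.1, this.2, phi_four]⟩

theorem key_line_injective {i j : Fin 315} (h : keyV (line i) = keyV (line j)) : i = j := by
  obtain ⟨-, hinc, -, hlen, hlt, -, -⟩ := lines_keys
  have hnd := (incr_spec _ hinc).imp (fun h => ne_of_lt h)
  have hon : keyPerm.Nodup := List.Nodup.of_map _ hnd
  have hsurj : ∀ k : Fin 315, (k : ℕ) ∈ keyPerm := by
    have hsub : keyPerm.toFinset ⊆ Finset.range 315 := by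
      intro x hx
      simp only [List.mem_toFinset] at hx
      simpa using List.all_eq_true.1 hlt x hx
    have := Finset.eq_of_subset_of_card_le hsub
      (by rw [List.toFinset_card_of_nodup hon, hlen]; simp)
    intro k
    rw [← List.mem_toFinset, this]
    simp
  exact Fin.ext (List.inj_on_of_nodup_map hnd (hsurj i) (hsurj j) (congrArg packKey h))

theorem line_eq_of_smul {i j : Fin 315} {q : ℍ[ℝ]}
    (h : psi (line i) = lmul q (psi (line j))) : i = j := by
  have hi := (line_spec i).2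
  rw [h, qip_lmul_left, qip_lmul_right, (line_spec j).2, ← mul_assoc, mul_four, smul_mul_assoc,
    show (4 : ℍ[ℝ]) = algebraMap ℝ ℍ[ℝ] 4 from (map_ofNat _ 4).symm,
    Algebra.algebraMap_eq_smul_one] at hi
  have h1 : q * star q = 1 := smul_right_injective ℍ[ℝ] (four_ne_zero' ℝ) hi
  have h2 : star q * q = 1 := mul_eq_one_comm.1 h1
  refine key_line_injective ?_
  obtain ⟨xi, yi, zi, -⟩ := lam_iff.1 (line_spec i).1
  obtain ⟨xj, yj, zj, -⟩ := lam_iff.1 (line_spec j).1
  have key : ∀ {a b c d : Qz}, Ico a → Ico b → Ico c → Ico d → phi a = q * phi c →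
      phi b = q * phi d → mul (Qz.conj a) b = mul (Qz.conj c) d := by
    intro a b c d ha hb hc hd e1 e2
    apply phi_injective
    rw [← phi_mul (ico_conj ha) hb, ← phi_mul (ico_conj hc) hd, phi_conj, phi_conj, e1, e2,
      star_mul, mul_assoc, ← mul_assoc (star q), h2, one_mul]
  have e0 : phi (line i).x = q * phi (line j).x := congrFun h 0
  have e1 : phi (line i).y = q * phi (line j).y := congrFun h 1
  have e2 : phi (line i).z = q * phi (line j).z := congrFun h 2
  simp only [keyV, key xi xi xj xj e0 e0, key xi yi xj yj e0 e1, key xi zi xj zj e0 e2,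
    key yi yi yj yj e1 e1, key yi zi yj zj e1 e2, key zi zi zj zj e2 e2]

/-- Every norm 4 lattice vector is a unit multiple of exactly one line representative. -/
theorem exists_smul_line {w : Fin 3 → ℍ[ℝ]} (hw : w ∈ icoLeech) (h : qip w w = 4) :
    ∃ i, ∃ u ∈ units, w = lmul (star (phi u)) (psi (line i)) := by
  obtain ⟨v, hv, rfl⟩ := exists_psi hw
  obtain ⟨u, hu, hl⟩ := exists_line hv h
  obtain ⟨i, hi⟩ := exists_line_of_mem hl
  refine ⟨i, u, hu, ?_⟩
  rw [hi, psi_smulV (unit_spec hu).1 hv]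
  funext t
  simp only [lmul, ← mul_assoc, (unit_spec hu).2.2, one_mul]

theorem ncard_short :
    {r : Fin 3 → ℍ[ℝ] | r ∈ icoLeech ∧ qip r r = 4}.ncard = 37800 := by
  classical
  obtain ⟨-, -, -, -, -, hlen, hnd⟩ := lines_keys
  let g : Qz × Fin 315 → (Fin 3 → ℍ[ℝ]) := fun p => lmul (star (phi p.1)) (psi (line p.2))
  have himg : {r : Fin 3 → ℍ[ℝ] | r ∈ icoLeech ∧ qip r r = 4} =
      g '' ↑(units.toFinset ×ˢ (Finset.univ : Finset (Fin 315))) := by
    ext w
    constructor
    · rintro ⟨hw, h⟩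
      obtain ⟨i, u, hu, e⟩ := exists_smul_line hw h
      exact ⟨(u, i), by simpa using hu, e.symm⟩
    · rintro ⟨⟨u, i⟩, hu, rfl⟩
      have hu : u ∈ units := by simpa using hu
      obtain ⟨hI, h1, h2⟩ := unit_spec hu
      refine ⟨lmul_mem_leech ?_ (psi_mem (line_spec i).1), ?_⟩
      · rw [← phi_conj]; exact phi_mem_icosians (ico_conj hI)
      · rw [qip_lmul_left, qip_lmul_right, (line_spec i).2, star_star, ← mul_assoc, mul_four,
          smul_mul_assoc, h2,
          show (4 : ℍ[ℝ]) = algebraMap ℝ ℍ[ℝ] 4 from (map_ofNat _ 4).symm,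
          Algebra.algebraMap_eq_smul_one]
  rw [himg, Set.InjOn.ncard_image, Set.ncard_coe_finset, Finset.card_product,
    List.toFinset_card_of_nodup hnd, hlen, Finset.card_univ, Fintype.card_fin]
  rintro ⟨u, i⟩ hu ⟨u', i'⟩ hu' e
  simp only [Finset.coe_product, Set.mem_prod, List.coe_toFinset, Set.mem_ofPred_eq] at hu hu'
  obtain ⟨hI, h1, h2⟩ := unit_spec hu.1
  obtain ⟨hI', h1', h2'⟩ := unit_spec hu'.1
  have eii : psi (line i) = lmul (phi u * star (phi u')) (psi (line i')) := by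
    funext t
    have := congrFun e t
    simp only [g, lmul] at this ⊢
    rw [mul_assoc, ← this, ← mul_assoc, h1, one_mul]
  have hii := line_eq_of_smul eii
  subst hii
  obtain ⟨t, ht⟩ : ∃ t, psi (line i) t ≠ 0 := by
    by_contra hne
    simp only [not_exists, not_not] at hne
    have h4 := (line_spec i).2
    rw [show psi (line i) = 0 from funext hne] at h4
    rw [← phi_four] at h4
    have := congrArg (fun q : ℍ[ℝ] => q.re) h4
    simp [qip, zv] at this
    norm_num at this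
  have := mul_right_cancel₀ ht (congrFun e t)
  have e' : phi u = phi u' := star_injective this
  rw [phi_injective e']

end Cfsg.Agent.Icosian
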