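import Cfsg.Agent.Lib.Icosian.Enum

/-!
Kernel checks on the listed units and line representatives.
-/

set_option autoImplicit false
set_option maxRecDepth 100000

namespace Cfsg.Agent.Icosian

open Qz Enum

theorem norms_triples :
    (allNorms.all fun a => allNorms.all fun b => allNorms.all fun c =>
      !(a.1 + b.1 + c.1 == 16 && a.2 + b.2 + c.2 == 0) ||
        [((0 : ℤ), (0 : ℤ)), (4, 0), (4, 4), (8, -4), (8, 0), (8, 4), (12, -4), (12, 0), (16, 0)].any
          fun e => e.1 == a.1 && e.2 == a.2) = true := by decide +kernel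

theorem units_check :
    (units.all fun u => icoB u && icoB (Qz.conj u) && qeq (mul (Qz.conj u) u) Qz.one &&
      qeq (mul u (Qz.conj u)) Qz.one) = true := by decide +kernel

/-- The data of a triple which is unchanged by unit multiples. -/
def keyV (v : V3) : List Qz :=
  [mul (Qz.conj v.x) v.x, mul (Qz.conj v.x) v.y, mul (Qz.conj v.x) v.z,
    mul (Qz.conj v.y) v.y, mul (Qz.conj v.y) v.z, mul (Qz.conj v.z) v.z]

/-- Pack a list of quaternions into an integer. -/
def packKey : List Qz → ℤ
  | [] => 0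
  | p :: l => p.c0 + 64 * (p.d0 + 64 * (p.c1 + 64 * (p.d1 + 64 * (p.c2 + 64 * (p.d2 + 64 *
      (p.c3 + 64 * (p.d3 + 64 * packKey l)))))))

/-- Strictly increasing. -/
def incr : List ℤ → Bool
  | a :: b :: l => decide (a < b) && incr (b :: l)
  | _ => true

theorem incr_spec : ∀ l : List ℤ, incr l = true → l.Pairwise (· < ·)
  | [] => fun _ => List.Pairwise.nil
  | [a] => fun _ => List.pairwise_singleton _ _
  | a :: b :: l => fun h => by
    simp only [incr, Bool.and_eq_true, decide_eq_true_eq] at h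
    have ih := incr_spec (b :: l) h.2
    refine List.pairwise_cons.2 ⟨fun c hc => ?_, ih⟩
    rcases List.mem_cons.1 hc with rfl | hc
    · exact h.1
    · exact h.1.trans (List.rel_of_pairwise_cons ih hc)

/-- The lines sorted by key. -/
def keyPerm : List ℕ := [
    289, 292, 275, 274, 277, 280, 296, 293, 177, 180, 101, 104, 100, 97, 182, 183, 184, 181, 98, 99,
    103, 102, 179, 178, 294, 295, 279, 278, 273, 276, 291, 290, 0, 12, 14, 10, 16, 9, 15, 11, 13,
    305, 190, 195, 82, 95, 114, 111, 174, 163, 254, 255, 251, 250, 260, 257, 262, 263, 282, 283,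
    300, 297, 303, 302, 286, 287, 40, 46, 36, 42, 43, 33, 47, 37, 108, 117, 170, 167, 166, 171, 88,
    89, 198, 187, 106, 119, 84, 93, 176, 161, 110, 115, 192, 193, 186, 199, 92, 85, 63, 59, 53, 49,
    52, 56, 58, 62, 70, 80, 67, 76, 73, 66, 77, 71, 27, 31, 18, 23, 22, 19, 30, 26, 25, 29, 20, 21,
    24, 17, 32, 28, 72, 78, 65, 74, 75, 68, 79, 69, 61, 57, 55, 51, 50, 54, 60, 64, 86, 91, 200,
    185, 194, 191, 116, 109, 162, 175, 94, 83, 120, 105, 188, 197, 90, 87, 172, 165, 168, 169, 118,
    107, 38, 48, 34, 44, 41, 35, 45, 39, 288, 285, 301, 304, 298, 299, 284, 281, 264, 261, 258, 259,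
    249, 252, 256, 253, 164, 173, 112, 113, 96, 81, 196, 189, 127, 138, 221, 236, 216, 209, 147,
    150, 309, 206, 219, 145, 152, 154, 143, 224, 233, 131, 134, 220, 205, 222, 235, 149, 148, 207,
    218, 137, 128, 140, 125, 226, 231, 311, 307, 313, 4, 6, 2, 8, 1, 7, 3, 5, 306, 312, 308, 234,
    223, 132, 133, 129, 136, 215, 210, 141, 156, 230, 227, 212, 213, 139, 126, 232, 225, 146, 151,
    153, 144, 214, 211, 310, 155, 142, 208, 217, 229, 228, 135, 130, 314, 268, 265, 272, 269, 246,
    247, 241, 244, 159, 158, 202, 203, 239, 238, 124, 121, 122, 123, 237, 240, 204, 201, 157, 160,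
    243, 242, 248, 245, 270, 271, 266, 267]


theorem lines_keys :
    (lines.all fun v => lamB v && qeq (ipz v v) ⟨8, 0, 0, 0, 0, 0, 0, 0⟩) = true ∧
    incr (keyPerm.map fun i => packKey (keyV (lines.getD i ⟨Qz.zero, Qz.zero, Qz.zero⟩))) = true ∧
    lines.length = 315 ∧ keyPerm.length = 315 ∧ keyPerm.all (fun i => Nat.blt i 315) = true ∧
    units.length = 120 ∧ units.Nodup := by
  decide +kernel

end Cfsg.Agent.Icosian
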